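import Cfsg.Prelude.Def_Spor_Fi24
import Cfsg.Agent.H45.CosetCheck

/-!
Words in the presented `Fi24` acting on the points of a table, and the transpositions at the points.
-/

set_option autoImplicit false

namespace Cfsg.Agent.H87.Fi24Out

open Cfsg.Agent.H45 (force force_eq)

/-- the presented group -/
abbrev X : Type := Spor.Fi24

/-- the generators in the order of their letters -/
def gl : List Spor.Fi24.Gen := [.l, .k, .a, .b, .c, .d, .e, .f, .g, .j, .h, .i]

/-- a letter as an element -/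
def e (l : ℕ) : X := (gl[l]?).elim 1 PresentedGroup.of

/-- the element applying the letters of a word in their order -/
def op : List ℕ → X
  | [] => 1
  | l :: w => op w * e l

theorem op_append (u v : List ℕ) : op (u ++ v) = op v * op u := by
  induction u with
  | nil => simp [op]
  | cons l u ih => simp [op, ih, mul_assoc]

theorem gen_sq (x : Spor.Fi24.Gen) : (PresentedGroup.of x : X) * PresentedGroup.of x = 1 := by
  have hn : x ∈ Spor.coxNodes Spor.Fi24.edges := by
    revert x; intro x; cases x <;> decide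
  have h : PresentedGroup.mk (Spor.coxRelators Spor.Fi24.edges ∪ {r | r ∈ Spor.Fi24.extra})
      ((FreeGroup.of x * FreeGroup.of x) ^ Spor.coxLabel Spor.Fi24.edges x x) = 1 :=
    PresentedGroup.one_of_mem (Or.inl ⟨x, hn, x, hn, rfl⟩)
  simp only [Spor.coxLabel, if_true, pow_one, map_mul] at h
  exact h

theorem e_sq (l : ℕ) : e l * e l = 1 := by
  unfold e
  cases gl[l]? with
  | none => simp
  | some x => exact gen_sq x

theorem e_inv (l : ℕ) : (e l)⁻¹ = e l := inv_eq_of_mul_eq_one_right (e_sq l)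

theorem op_reverse (w : List ℕ) : op w.reverse = (op w)⁻¹ := by
  induction w with
  | nil => simp [op]
  | cons l w ih => simp [op, op_append, ih, e_inv]

/-- the word of the transposition at the end of a word -/
def dW (v : List ℕ) : List ℕ := v.reverse ++ 0 :: v

theorem op_dW (v : List ℕ) : op (dW v) = op v * e 0 * (op v)⁻¹ := by
  simp [dW, op_append, op, op_reverse]

/-- a power of a word -/
def rep (w : List ℕ) : ℕ → List ℕ
  | 0 => []
  | k + 1 => w ++ rep w k

theorem op_rep (w : List ℕ) : ∀ k, op (rep w k) = op w ^ k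
  | 0 => by simp [rep, op]
  | k + 1 => by rw [rep, op_append, op_rep w k, pow_succ]

/-- the end of a walk in a table -/
noncomputable def wV (T : ℕ → ℕ → ℕ) : List ℕ → ℕ → ℕ
  | [], p => p
  | l :: w, p => wV T w (T p l)

/-- a walk as a test -/
noncomputable def wk (T : ℕ → ℕ → ℕ) (w : List ℕ) : ℕ → (ℕ → Bool) → Bool :=
  List.rec (fun p k => k p) (fun m _ ih p k => force (T p m) fun q => ih q k) w

theorem wk_eq (T : ℕ → ℕ → ℕ) : ∀ (w : List ℕ) (p : ℕ) (k : ℕ → Bool), wk T w p k = k (wV T w p) := by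
  intro w
  induction w with
  | nil => intro p k; rfl
  | cons m w ih =>
    intro p k
    have h : wk T (m :: w) p k = force (T p m) fun q => wk T w q k := rfl
    rw [h, force_eq, ih]
    rfl

theorem wV_append (T : ℕ → ℕ → ℕ) (u v : List ℕ) :
    ∀ p, wV T (u ++ v) p = wV T v (wV T u p) := by
  induction u with
  | nil => intro p; rfl
  | cons m u ih => intro p; simpa [wV] using ih _

/-- all letters are letters -/
def Lt (w : List ℕ) : Prop := ∀ l ∈ w, l < 12

theorem Lt.append {u v : List ℕ} (hu : Lt u) (hv : Lt v) : Lt (u ++ v) := by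
  intro l hl
  rcases List.mem_append.mp hl with h | h
  exacts [hu l h, hv l h]

theorem Lt.dW {v : List ℕ} (hv : Lt v) : Lt (dW v) := by
  intro l hl
  simp only [Fi24Out.dW, List.mem_append, List.mem_reverse, List.mem_cons] at hl
  rcases hl with h | h | h
  exacts [hv l h, by omega, hv l h]

theorem Lt.rep {w : List ℕ} (hw : Lt w) : ∀ k, Lt (rep w k)
  | 0 => by simp [Fi24Out.rep, Lt]
  | k + 1 => hw.append (Lt.rep hw k)

/-- a table with the action it describes -/
structure Model where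
  T : ℕ → ℕ → ℕ
  n : ℕ
  npos : 0 < n
  φ : X →* Equiv.Perm (Fin n)
  act : ∀ l, l < 12 → ∀ i : Fin n, ((φ (e l) i : Fin n) : ℕ) = T i l
  inj : Function.Injective φ
  trans : ∀ p : Fin n, ∃ g : X, φ g ⟨0, npos⟩ = p
  stab : ∀ g : X, φ g ⟨0, npos⟩ = ⟨0, npos⟩ ↔ g * e 0 = e 0 * g
  fin : Finite X
  card : Nat.card X = 2 * 1255205709190661721292800

variable (M : Model)

/-- coset zero -/
def Model.o : Fin M.n := ⟨0, M.npos⟩

theorem Model.op_walk {w : List ℕ} (hw : Lt w) (i : Fin M.n) :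
    ((M.φ (op w) i : Fin M.n) : ℕ) = wV M.T w i := by
  induction w generalizing i with
  | nil => simp [op, wV]
  | cons l w ih =>
    rw [op, map_mul, Equiv.Perm.mul_apply, ih (fun x hx => hw x (List.mem_cons_of_mem _ hx)), wV,
      M.act l (hw l List.mem_cons_self)]

/-- the transposition at a point -/
noncomputable def Model.dp (p : Fin M.n) : X :=
  (M.trans p).choose * e 0 * ((M.trans p).choose)⁻¹

theorem Model.dp_eq {g : X} {p : Fin M.n} (h : M.φ g M.o = p) : M.dp p = g * e 0 * g⁻¹ := by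
  set g₁ := (M.trans p).choose with hg₁
  have h1 : M.φ g₁ M.o = p := (M.trans p).choose_spec
  have h2 : M.φ (g⁻¹ * g₁) M.o = M.o := by
    rw [map_mul, Equiv.Perm.mul_apply, h1, ← h, ← Equiv.Perm.mul_apply, ← map_mul,
      inv_mul_cancel, map_one, Equiv.Perm.one_apply]
  have h3 := (M.stab _).mp h2
  show g₁ * e 0 * g₁⁻¹ = _
  calc g₁ * e 0 * g₁⁻¹ = g * (g⁻¹ * g₁ * e 0) * g₁⁻¹ := by group
    _ = g * (e 0 * (g⁻¹ * g₁)) * g₁⁻¹ := by rw [h3]
    _ = g * e 0 * g⁻¹ := by group

theorem Model.conj_dp (x : X) (p : Fin M.n) : x * M.dp p * x⁻¹ = M.dp (M.φ x p) := by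
  obtain ⟨g, hg⟩ := M.trans p
  rw [M.dp_eq hg, M.dp_eq (g := x * g) (by rw [map_mul, Equiv.Perm.mul_apply]; exact congrArg _ hg)]
  group

theorem Model.dp_injective : Function.Injective M.dp := by
  intro p q h
  obtain ⟨g, hg⟩ := M.trans p
  obtain ⟨k, hk⟩ := M.trans q
  rw [M.dp_eq hg, M.dp_eq hk] at h
  have h2 : (k⁻¹ * g) * e 0 = e 0 * (k⁻¹ * g) := by
    calc (k⁻¹ * g) * e 0 = k⁻¹ * (g * e 0 * g⁻¹) * g := by group
      _ = k⁻¹ * (k * e 0 * k⁻¹) * g := by rw [h]
      _ = e 0 * (k⁻¹ * g) := by group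
  have h3 : M.φ (k⁻¹ * g) M.o = M.o := (M.stab _).mpr h2
  have hg' : M.φ g M.o = p := hg
  have hk' : M.φ k M.o = q := hk
  rw [map_mul, Equiv.Perm.mul_apply, hg', map_inv, Equiv.Perm.inv_eq_iff_eq, hk'] at h3
  exact h3

theorem Model.dp_fix_iff (p q : Fin M.n) : M.φ (M.dp p) q = q ↔ M.dp p * M.dp q = M.dp q * M.dp p := by
  rw [← M.dp_injective.eq_iff, ← M.conj_dp, mul_inv_eq_iff_eq_mul]

theorem Model.dp_sq (p : Fin M.n) : M.dp p * M.dp p = 1 := by
  obtain ⟨g, hg⟩ := M.trans p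
  rw [M.dp_eq hg]
  calc g * e 0 * g⁻¹ * (g * e 0 * g⁻¹) = g * (e 0 * e 0) * g⁻¹ := by group
    _ = 1 := by rw [e_sq]; group

/-- elements commuting with `x` act compatibly on the transpositions -/
theorem Model.transport (x : X) (p q : Fin M.n) :
    M.φ x (M.φ (M.dp p) q) = M.φ (M.dp (M.φ x p)) (M.φ x q) := by
  rw [← M.conj_dp, ← Equiv.Perm.mul_apply, ← Equiv.Perm.mul_apply, ← map_mul, ← map_mul]
  group

/-- a named point: a word leads from zero to it -/
def Model.Named (a : ℕ × List ℕ) : Prop := Lt a.2 ∧ wV M.T a.2 0 = a.1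

theorem Model.named_default : M.Named (0, []) := ⟨by simp [Lt], rfl⟩

theorem Model.Named.reach {a : ℕ × List ℕ} (h : M.Named a) :
    ∃ p : Fin M.n, (p : ℕ) = a.1 ∧ M.φ (op a.2) M.o = p :=
  ⟨M.φ (op a.2) M.o, by rw [M.op_walk h.1]; exact h.2, rfl⟩

/-- the transposition of a named point, as a walk -/
noncomputable def dV (T : ℕ → ℕ → ℕ) (a : ℕ × List ℕ) (q : ℕ) : ℕ := wV T (dW a.2) q

theorem Model.Named.op_dW {a : ℕ × List ℕ} (h : M.Named a) {p : Fin M.n} (hp : (p : ℕ) = a.1) :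
    op (dW a.2) = M.dp p := by
  rw [Fi24Out.op_dW, M.dp_eq (g := op a.2)]
  apply Fin.ext
  rw [M.op_walk h.1, hp]
  exact h.2

theorem Model.Named.dV_eq {a : ℕ × List ℕ} (h : M.Named a) {p : Fin M.n} (hp : (p : ℕ) = a.1)
    (q : Fin M.n) : dV M.T a q = ((M.φ (M.dp p) q : Fin M.n) : ℕ) := by
  rw [dV, ← M.op_walk h.1.dW, h.op_dW M hp]

/-- a point computed by a path of transpositions -/
noncomputable def ptP (T : ℕ → ℕ → ℕ) (g : ℕ → ℕ × List ℕ) (start : ℕ) (steps : List ℕ) : ℕ :=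
  steps.foldl (fun z i => dV T (g i) z) (g start).1

theorem Model.fold_transport (x : X) {g g' : ℕ → ℕ × List ℕ} (hg : ∀ i, M.Named (g i))
    (hg' : ∀ i, M.Named (g' i))
    (hx : ∀ i, ∀ p : Fin M.n, (p : ℕ) = (g i).1 → ((M.φ x p : Fin M.n) : ℕ) = (g' i).1) :
    ∀ (steps : List ℕ) (z : ℕ) (p : Fin M.n), (p : ℕ) = z →
      ∃ q : Fin M.n, (q : ℕ) = steps.foldl (fun z i => dV M.T (g i) z) z ∧
        ((M.φ x q : Fin M.n) : ℕ) =
          steps.foldl (fun z i => dV M.T (g' i) z) ((M.φ x p : Fin M.n) : ℕ) := by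
  intro steps
  induction steps with
  | nil => intro z p hp; exact ⟨p, hp, rfl⟩
  | cons i steps ih =>
    intro z p hp
    obtain ⟨a, ha, -⟩ := (hg i).reach M
    have h1 : ((M.φ (M.dp a) p : Fin M.n) : ℕ) = dV M.T (g i) z := by
      rw [← (hg i).dV_eq M ha, hp]
    obtain ⟨q, hq, hq'⟩ := ih _ (M.φ (M.dp a) p) h1
    refine ⟨q, hq, ?_⟩
    rw [hq', M.transport, ← (hg' i).dV_eq M (hx i a ha)]
    rfl

/-- an element mapping the generators of a closure maps the derived points -/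
theorem Model.ptP_map (x : X) {g g' : ℕ → ℕ × List ℕ} (hg : ∀ i, M.Named (g i))
    (hg' : ∀ i, M.Named (g' i))
    (hx : ∀ i, ∀ p : Fin M.n, (p : ℕ) = (g i).1 → ((M.φ x p : Fin M.n) : ℕ) = (g' i).1)
    (start : ℕ) (steps : List ℕ) {q : Fin M.n} (hq : (q : ℕ) = ptP M.T g start steps) :
    ((M.φ x q : Fin M.n) : ℕ) = ptP M.T g' start steps := by
  obtain ⟨a, ha, -⟩ := (hg start).reach M
  obtain ⟨q', h1, h2⟩ := M.fold_transport x hg hg' hx steps _ a ha
  obtain rfl : q = q' := Fin.ext (hq.trans h1.symm)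
  rw [h2, hx start a ha]
  rfl

/-- the same element from two words: they agree at enough points -/
theorem Model.eq_of_points {x : X} {S : List (Fin M.n)}
    (hS : ∀ g : X, (∀ p ∈ S, M.φ g p = p) → g = 1) {y : X} (h : ∀ p ∈ S, M.φ x p = M.φ y p) :
    x = y := by
  refine (inv_mul_eq_one.mp (hS (x⁻¹ * y) fun p hp => ?_))
  rw [map_mul, Equiv.Perm.mul_apply, ← h p hp, ← Equiv.Perm.mul_apply, ← map_mul, inv_mul_cancel,
    map_one, Equiv.Perm.one_apply]

end Cfsg.Agent.H87.Fi24Out
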