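import Cfsg.Agent.H87.Fi24Out.Letters

/-!
The tests on the numerical data.
-/

set_option autoImplicit false

namespace Cfsg.Agent.H87.Fi24Out

open Cfsg.Agent.H45 (force force_eq)

/-- the numerical data -/
structure Data where
  yw : List ℕ
  gw : List ℕ
  cw : List ℕ
  P : List (ℕ × List ℕ)
  H : List ℕ
  bitsY : List Bool
  pi : ℕ
  Y : List (ℕ × List ℕ)
  yPath : List (ℕ × List ℕ)
  a0 : ℕ
  b0 : ℕ
  bitsA : List Bool
  bitsB : List Bool
  bitsC : List Bool
  cA : List ℕ
  cB : List ℕ
  fPath : List (ℕ × List ℕ)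
  ca : ℕ
  cb : ℕ
  c2a : ℕ
  c2b : ℕ
  sig : List (ℕ × ℕ × ℕ × List Bool)
  za : ℕ × List ℕ
  zb : ℕ × List ℕ
  edges : List (List (Bool × ℕ × List ℕ))
  wit : ℕ

/-- the involution -/
def uw : List ℕ := [0, 2, 4, 6]

/-- letters whose points are fixed by the involution -/
def L8 : List ℕ := [9, 11, 8, 10, 0, 2, 4, 6]

variable (T : ℕ → ℕ → ℕ) (D : Data)

/-- a fixed point as listed -/
def Pget (i : ℕ) : ℕ × List ℕ := D.P.getD i (0, [])

/-- a power of the permutation of the list -/
def hp : ℕ → ℕ → ℕ
  | 0, i => i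
  | k + 1, i => hp k (D.H.getD i 0)

/-- fourteen generators of the fixed points -/
def gen (a b i : ℕ) : ℕ × List ℕ := Pget D (hp D (i % 7) (cond (Nat.blt (i % 14) 7) a b))

/-- generators from the orbit -/
def genY (i : ℕ) : ℕ × List ℕ := D.Y.getD i (0, [])

/-- all letters are letters -/
def ltB (w : List ℕ) : Bool := w.all fun l => Nat.blt l 12

/-- the point of a named point -/
noncomputable def namedB (a : ℕ × List ℕ) : Bool :=
  ltB a.2 && wk T a.2 0 fun p => Nat.beq p a.1

/-- the transposition of a named point as a test -/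
noncomputable def dK (a : ℕ × List ℕ) (q : ℕ) (k : ℕ → Bool) : Bool := wk T (dW a.2) q k

/-- a derived point as a test -/
noncomputable def ptK (g : ℕ → ℕ × List ℕ) (start : ℕ) (steps : List ℕ) (k : ℕ → Bool) : Bool :=
  force (g start).1 fun z => (List.rec (fun p k => k p)
    (fun i _ ih p k => dK T (g i) p fun q => ih q k) steps : ℕ → (ℕ → Bool) → Bool) z k

/-- two booleans agree -/
def iffB (a b : Bool) : Bool := cond a b (!b)

/-- the pattern of the orbit of a point under the element of order 29 -/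
noncomputable def patY (yw : List ℕ) (a : ℕ × List ℕ) : List Bool → ℕ → Bool
  | [], _ => true
  | b :: bs, q => wk T yw q fun q' => dK T a q' fun r => iffB (Nat.beq r q') b && patY yw a bs q'

/-- the pattern of a point with an orbit in the list -/
noncomputable def patH (a : ℕ × List ℕ) : List Bool → ℕ → Bool
  | [], _ => true
  | b :: bs, j => force (Pget D j).1 fun q =>
      dK T a q fun r => iffB (Nat.beq r q) b && patH a bs (D.H.getD j 0)

/-- a test on all entries of a list with their indices -/
def allI {α : Type} (f : ℕ → α → Bool) : List α → ℕ → Bool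
  | [], _ => true
  | a :: as, i => f i a && allI f as (i + 1)

/-- the image of a listed point under a candidate does not come back to the start -/
noncomputable def exI (ia ib start back : ℕ) : Bool :=
  ptK T (gen D ia ib) (D.fPath.getD start (0, [])).1 (D.fPath.getD start (0, [])).2 fun z =>
    allI (fun j a => !(Nat.beq a.1 z) ||
      ptK T (gen D ia ib) (D.fPath.getD j (0, [])).1 (D.fPath.getD j (0, [])).2 fun z' =>
        !(Nat.beq z' back)) D.P 0

/-- a candidate pair of images is harmless -/
noncomputable def pairB (ia ib : ℕ) : Bool :=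
  !(patH T D (Pget D ia) D.bitsC ib) ||
    ((Nat.beq ia D.a0 && Nat.beq ib D.b0) || (Nat.beq ia D.ca && Nat.beq ib D.cb) ||
      (Nat.beq ia D.c2a && Nat.beq ib D.c2b)) ||
    exI T D ia ib ia (Pget D D.a0).1 || exI T D ia ib ib (Pget D D.b0).1

/-- the commutation vector of a point -/
noncomputable def sigB (z : ℕ) : List Bool → List ℕ → ℕ → Bool
  | [], _, _ => true
  | b :: bs, [], i => dK T (gen D D.a0 D.b0 i) z fun r => iffB (Nat.beq r z) b && sigB z bs [] (i + 1)
  | b :: bs, l :: ls, i => iffB (Nat.beq (T z l) z) b && sigB z bs ls i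

/-- the scan of one point -/
noncomputable def scanB (z : ℕ) : Bool :=
  (wk T uw z fun q => !(Nat.beq q z) || D.P.any fun a => Nat.beq a.1 z) &&
    (!(Nat.beq (T z 9) z) ||
      D.sig.all fun s => !(sigB T D z s.2.2.2 L8 0) || Nat.beq z s.2.1 || Nat.beq z s.2.2.1)

/-- all numbers in a dyadic block -/
noncomputable def blockB (f : ℕ → Bool) (n : ℕ) : ℕ → ℕ → Bool
  | 0, b => force b fun z => !(Nat.blt z n) || f z
  | k + 1, b => force b fun b' => blockB f n k b' && blockB f n k (b' + 2 ^ k)

/-- the words -/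
noncomputable def wordsB : Bool :=
  ltB D.yw && ltB D.gw && ltB D.cw && Nat.beq (D.yw.length % 2) 0 && Nat.beq (D.cw.length % 2) 0 &&
    eqW T (uw ++ D.yw ++ uw ++ D.yw) [] && eqW T (rep D.yw 29) [] &&
    (wk T D.yw 0 fun p => !(Nat.beq p 0)) &&
    eqW T (D.yw ++ D.gw) (D.gw ++ rep D.yw 2) && eqW T (rep D.gw 14) uw &&
    eqW T (rep D.cw 3) [] && eqW T (D.cw ++ (D.gw ++ D.gw)) ((D.gw ++ D.gw) ++ D.cw) &&
    (wk T D.cw (Pget D D.a0).1 fun p => !(Nat.beq p (Pget D D.a0).1)) && eqW T (uw ++ uw) []

/-- the separating word for the square of the element of order 3 -/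
def sepW (yw c : List ℕ) : List ℕ := rep (yw ++ c ++ rep yw 7 ++ (c ++ c)) 8

/-- the exclusion of the square -/
noncomputable def sepB : Bool :=
  eqW T (sepW D.yw D.cw) [] &&
    force D.wit fun z => wk T (qv z) 0 fun p =>
      wk T (sepW D.yw (D.cw ++ D.cw)) p fun q => !(Nat.beq q p)

/-- the listed fixed points -/
noncomputable def pointsB : Bool :=
  Nat.beq D.H.length D.P.length && Nat.beq D.fPath.length D.P.length &&
    (D.P.all fun a => namedB T a && wk T uw a.1 fun q => Nat.beq q a.1) &&
    (D.H.all fun j => Nat.blt j D.P.length) &&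
    Nat.blt D.pi D.P.length && Nat.blt D.a0 D.P.length && Nat.blt D.b0 D.P.length

/-- the permutation of the list -/
noncomputable def hB : Bool :=
  allI (fun i j => wk T (D.gw ++ D.gw) (Pget D i).1 fun q => Nat.beq q (Pget D j).1) D.H 0

/-- the closure to all fixed points -/
noncomputable def fPathB : Bool :=
  allI (fun i s => ptK T (gen D D.a0 D.b0) s.1 s.2 fun q => Nat.beq q (Pget D i).1) D.fPath 0

/-- the point with a unique pattern, and its closure to all points -/
noncomputable def orbitB : Bool :=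
  patY T D.yw (Pget D D.pi) D.bitsY (Pget D D.pi).1 &&
    (D.P.all fun a => !(patY T D.yw a D.bitsY a.1) || Nat.beq a.1 (Pget D D.pi).1) &&
    (D.Y.all fun a => namedB T a) &&
    Nat.beq (genY D 0).1 (Pget D D.pi).1 &&
    ((List.range (D.Y.length - 1)).all fun i =>
      wk T D.yw (genY D i).1 fun q => Nat.beq q (genY D (i + 1)).1) &&
    Nat.beq D.yPath.length 12 &&
    allI (fun l s => Nat.blt s.1 D.Y.length && (s.2.all fun i => Nat.blt i D.Y.length) &&
      ptK T (genY D) s.1 s.2 fun q => wk T (qv l) 0 fun p => Nat.beq q p) D.yPath 0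

/-- the candidates for the two images -/
noncomputable def candA : Bool :=
  patH T D (Pget D D.a0) D.bitsA (D.H.getD D.a0 0) &&
    allI (fun i a => !(patH T D a D.bitsA (D.H.getD i 0)) || D.cA.any fun j => Nat.beq i j) D.P 0

/-- the candidates for the second image -/
noncomputable def candB : Bool :=
  patH T D (Pget D D.b0) D.bitsB (D.H.getD D.b0 0) &&
    allI (fun i a => !(patH T D a D.bitsB (D.H.getD i 0)) || D.cB.any fun j => Nat.beq i j) D.P 0

/-- all pairs of candidates -/
noncomputable def pairsB : Bool :=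
  patH T D (Pget D D.a0) D.bitsC D.b0 &&
    (wk T D.cw (Pget D D.a0).1 fun q => Nat.beq q (Pget D D.ca).1) &&
    (wk T D.cw (Pget D D.b0).1 fun q => Nat.beq q (Pget D D.cb).1) &&
    (wk T D.cw (Pget D D.ca).1 fun q => Nat.beq q (Pget D D.c2a).1) &&
    (wk T D.cw (Pget D D.cb).1 fun q => Nat.beq q (Pget D D.c2b).1) &&
    D.cA.all fun ia => D.cB.all fun ib => pairB T D ia ib

/-- the points of the letters against the fixed points -/
noncomputable def sigOK : Bool :=
  (L8.all fun l => wk T (qv l) 0 fun p => D.P.any fun a => Nat.beq a.1 p) &&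
    (Nat.beq D.sig.length 4) &&
    allI (fun i s => Nat.beq s.1 (2 * i + 1) && (wk T (qv s.1) 0 fun p => Nat.beq p s.2.1 &&
      wk T uw p fun q => Nat.beq q s.2.2.1) && sigB T D s.2.1 s.2.2.2 L8 0 &&
      Nat.beq (T s.2.1 9) s.2.1) D.sig 0 &&
    allI (fun i s => Nat.beq i 0 ||
      !(iffB (Nat.beq (T s.2.1 (2 * i - 1)) s.2.1) (Nat.beq (T s.2.2.1 (2 * i - 1)) s.2.2.1)))
      D.sig 0

/-- the four generators of the small group: y, its inverse, c, its inverse -/
def gensW : ℕ → List ℕ
  | 0 => D.yw
  | 1 => D.yw.reverse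
  | 2 => D.cw
  | _ => D.cw.reverse

/-- one path of products of two transpositions -/
noncomputable def chainB : List (Bool × ℕ × List ℕ) → ℕ → ℕ → Bool
  | [], cur, last => Nat.beq cur last
  | (fl, v, w) :: rest, cur, last =>
    (wk T (w.flatMap (gensW D)) (cond fl D.zb.1 D.za.1) fun p => Nat.beq p cur) &&
      (wk T (w.flatMap (gensW D)) (cond fl D.za.1 D.zb.1) fun q => Nat.beq q v) &&
      chainB rest v last

/-- generation -/
noncomputable def genB : Bool :=
  namedB T D.za && namedB T D.zb &&
    (dK T D.za D.zb.1 fun r => Nat.beq r D.zb.1) &&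
    eqW T (rep (rep D.yw 6 ++ D.cw) 13) (dW D.za.2 ++ dW D.zb.2) &&
    Nat.beq D.edges.length 12 &&
    allI (fun l es => wk T (qv l) 0 fun last => chainB T D es 0 last) D.edges 0

end Cfsg.Agent.H87.Fi24Out
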