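import Cfsg.Agent.H87.Fi24Out.Facts

/-!
The elements of order 3 commuting with the element of order 14, the excluded square, and generation.
-/

set_option autoImplicit false

namespace Cfsg.Agent.H87.Fi24Out

variable {M : Model} {D : Data} (hD : OK M D)
include hD

/-- the elements of order dividing 3 that commute with the element of order 14 -/
theorem OK.classify {x : X} (hx : x * hE D = hE D * x) (h3 : x ^ 3 = 1) :
    x = 1 ∨ x = cE D ∨ x = cE D * cE D := by
  obtain ⟨-, -, -, -, la', la, lb⟩ := hD.pts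
  clear la'
  have hw := hD.word_facts
  obtain ⟨-, -, -, -, -, hc3, hch, -, -, -, huu⟩ := hw
  have hxu := hD.comm_u hx
  have imgF : ∀ i, i < D.P.length → ∃ j, j < D.P.length ∧ M.φ x (hD.pt i) = hD.pt j := by
    intro i hi
    obtain ⟨j, hj, he⟩ := hD.mem_list (z := M.φ x (hD.pt i)) (by
      rw [← Equiv.Perm.mul_apply, ← map_mul, show op uw * x = x * op uw from hxu.symm, map_mul,
        Equiv.Perm.mul_apply, hD.pt_fix i hi])
    exact ⟨j, hj, he⟩
  obtain ⟨ia, hia, hxa⟩ := imgF _ la
  obtain ⟨ib, hib, hxb⟩ := imgF _ lb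
  have hA := hD.candA
  simp only [Fi24Out.candA, Bool.and_eq_true] at hA
  have hB := hD.candB
  simp only [Fi24Out.candB, Bool.and_eq_true] at hB
  have hmemA : ia ∈ D.cA := by
    have h := allI_sound hA.2 ia hia
    simp only [Nat.zero_add, Bool.or_eq_true, Bool.not_eq_true', List.any_eq_true, Nat.beq_eq] at h
    have hp : patH M.T D D.P[ia] D.bitsA (D.H.getD ia 0) = true := by
      have := hD.patH_map hx hxa D.bitsA _ _ (hD.hp_lt 1 la) (hD.hp_lt 1 hia)
        (hD.hp_map hx 1 la hia hxa)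
      rw [show D.P[ia] = Pget D ia from (List.getD_eq_getElem _ _ hia).symm]
      exact this.trans hA.1
    rw [hp] at h
    rcases h with h | ⟨j, hj, hij⟩
    · cases h
    · exact hij ▸ hj
  have hmemB : ib ∈ D.cB := by
    have h := allI_sound hB.2 ib hib
    simp only [Nat.zero_add, Bool.or_eq_true, Bool.not_eq_true', List.any_eq_true, Nat.beq_eq] at h
    have hp : patH M.T D D.P[ib] D.bitsB (D.H.getD ib 0) = true := by
      have := hD.patH_map hx hxb D.bitsB _ _ (hD.hp_lt 1 lb) (hD.hp_lt 1 hib)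
        (hD.hp_map hx 1 lb hib hxb)
      rw [show D.P[ib] = Pget D ib from (List.getD_eq_getElem _ _ hib).symm]
      exact this.trans hB.1
    rw [hp] at h
    rcases h with h | ⟨j, hj, hij⟩
    · cases h
    · exact hij ▸ hj
  have hpairs := hD.pairs
  simp only [pairsB, Bool.and_eq_true, List.all_eq_true, wk_eq, Nat.beq_eq] at hpairs
  obtain ⟨⟨⟨⟨⟨hp0, wa⟩, wb⟩, wa2⟩, wb2⟩, hall⟩ := hpairs
  have h := hall ia hmemA ib hmemB
  have hc : patH M.T D (Pget D ia) D.bitsC ib = true := by
    rw [hD.patH_map hx hxa D.bitsC _ _ lb hib hxb]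
    exact hp0
  simp only [pairB, hc, Bool.not_true, Bool.false_or, Bool.or_eq_true, Bool.and_eq_true,
    Nat.beq_eq] at h
  have hx3 : ∀ p : Fin M.n, M.φ x (M.φ x (M.φ x p)) = p := by
    intro p
    rw [← Equiv.Perm.mul_apply, ← Equiv.Perm.mul_apply, ← map_mul, ← map_mul,
      show x * x * x = x ^ 3 by rw [pow_succ, pow_two], h3, map_one, Equiv.Perm.one_apply]
  have excl : ∀ s t, s < D.P.length → t < D.P.length → M.φ x (hD.pt s) = hD.pt t →
      exI M.T D ia ib t (Pget D s).1 = true → False := by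
    intro s t hs ht hst he
    simp only [exI, ptK_eq] at he
    obtain ⟨j, hj, hj'⟩ := imgF t ht
    have h1 := allI_sound he j hj
    simp only [Nat.zero_add, Bool.or_eq_true, Bool.not_eq_true', ← Bool.not_eq_true,
      Nat.beq_eq] at h1
    rcases h1 with h1 | h1
    · apply h1
      rw [← hD.image hx hia hib hxa hxb ht, hj']
      show D.P[j].1 = (Pget D j).1
      rw [Pget, List.getD_eq_getElem _ _ hj]
    · apply h1
      rw [← hD.image hx hia hib hxa hxb hj, ← hj', ← hst, hx3]
      rfl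
  have cpt : ∀ s t, wV M.T D.cw (Pget D s).1 = (Pget D t).1 → M.φ (cE D) (hD.pt s) = hD.pt t := by
    intro s t h
    apply Fin.ext
    rw [M.op_walk hD.lts.2.2]
    exact h
  -- the images of the base points are those of a power of `c`
  have same : ∀ z : X, z * hE D = hE D * z → M.φ z (hD.pt D.a0) = M.φ x (hD.pt D.a0) →
      M.φ z (hD.pt D.b0) = M.φ x (hD.pt D.b0) → x = z ∨ x = z * uE := by
    intro z hz h1 h2
    have hzx : z⁻¹ * x * hE D = hE D * (z⁻¹ * x) :=
      ((show Commute z (hE D) from hz).inv_left.mul_left hx).eq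
    have hfix : ∀ p, M.φ z p = M.φ x p → M.φ (z⁻¹ * x) p = p := by
      intro p hp
      rw [map_mul, Equiv.Perm.mul_apply, ← hp, ← Equiv.Perm.mul_apply, ← map_mul, inv_mul_cancel,
        map_one, Equiv.Perm.one_apply]
    rcases hD.stab hzx (hfix _ h1) (hfix _ h2) with h | h
    · exact Or.inl (inv_mul_eq_one.mp h).symm
    · exact Or.inr (by rw [show (uE : X) = z⁻¹ * x from h.symm]; group)
  have nou : ∀ z : X, z * hE D = hE D * z → z ^ 3 = 1 → x = z * uE → False := by
    intro z hz hz3 hxz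
    have hcomm : Commute z uE := hD.comm_u hz
    rw [hxz, hcomm.mul_pow, hz3, one_mul, pow_succ, pow_two, huu, one_mul] at h3
    have h' := hD.word_facts.1
    rw [h3, mul_one, ← pow_two] at h'
    have h29 := hD.word_facts.2.1
    have : yE D = 1 := by
      have h2 : yE D ^ 29 = yE D := by
        rw [show (29 : ℕ) = 2 * 14 + 1 from rfl, pow_succ, pow_mul, h', one_pow, one_mul]
      rw [← h2, h29]
    exact hD.word_facts.2.2.1 this
  have c2h : cE D * cE D * hE D = hE D * (cE D * cE D) :=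
    ((show Commute (cE D) (hE D) from hch).mul_left hch).eq
  rcases h with ((((h | h) | h) | h) | h)
  · obtain ⟨rfl, rfl⟩ := h
    rcases same 1 (by simp) (by rw [map_one, Equiv.Perm.one_apply, hxa])
      (by rw [map_one, Equiv.Perm.one_apply, hxb]) with h | h
    · exact Or.inl h
    · exact (nou 1 (by simp) (one_pow 3) h).elim
  · obtain ⟨rfl, rfl⟩ := h
    rcases same (cE D) hch (by rw [cpt _ _ wa, hxa]) (by rw [cpt _ _ wb, hxb]) with h | h
    · exact Or.inr (Or.inl h)
    · exact (nou _ hch hc3 h).elim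
  · obtain ⟨rfl, rfl⟩ := h
    rcases same (cE D * cE D) c2h
      (by rw [map_mul, Equiv.Perm.mul_apply, cpt _ _ wa, cpt _ _ wa2, hxa])
      (by rw [map_mul, Equiv.Perm.mul_apply, cpt _ _ wb, cpt _ _ wb2, hxb]) with h | h
    · exact Or.inr (Or.inr h)
    · refine (nou _ c2h ?_ h).elim
      rw [← pow_two, ← pow_mul, show 2 * 3 = 3 * 2 from rfl, pow_mul, hc3, one_pow]
  · exact (excl D.a0 ia la hia hxa h).elim
  · exact (excl D.b0 ib lb hib hxb h).elim

/-- the word separating the element of order 3 from its square -/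
theorem OK.sep_word : (cE D * cE D * yE D ^ 7 * cE D * yE D) ^ 8 = 1 ∧
    (cE D * cE D * (cE D * cE D) * yE D ^ 7 * (cE D * cE D) * yE D) ^ 8 ≠ 1 := by
  obtain ⟨ly, -, lc⟩ := hD.lts
  have h := hD.sep
  simp only [sepB, Bool.and_eq_true, wk_eq, Cfsg.Agent.H45.force_eq, Bool.not_eq_true'] at h
  obtain ⟨h1, h2⟩ := h
  have hlt : ∀ c, Lt c → Lt (sepW D.yw c) := fun c hc =>
    Lt.rep (((ly.append hc).append (ly.rep 7)).append (hc.append hc)) 8
  have hev : ∀ c, op (sepW D.yw c) = (op c * op c * yE D ^ 7 * op c * yE D) ^ 8 := by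
    intro c
    simp only [sepW, op_rep, op_append, mul_assoc]
  constructor
  · rw [← hev]
    exact M.eqW_sound (hlt _ lc) (by simp [Lt]) h1
  · intro hone
    set p := M.φ (op (qv D.wit)) M.o
    have hp : (p : ℕ) = wV M.T (qv D.wit) 0 := M.op_walk (qv_lt _) M.o
    have hw := M.op_walk (hlt _ (lc.append lc)) p
    rw [hev, op_append, hone, map_one, Equiv.Perm.one_apply, hp] at hw
    rw [← hw] at h2
    simp at h2

/-- two elements generate the commutator subgroup -/
theorem OK.generate : N ≤ Subgroup.closure {yE D, cE D} := by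
  have hN := hD.word_facts
  obtain ⟨-, -, -, -, -, -, -, -, hy, hc, -⟩ := hN
  set K := Subgroup.closure ({yE D, cE D} : Set X)
  have hKy : yE D ∈ K := Subgroup.subset_closure (Set.mem_insert _ _)
  have hKc : cE D ∈ K := Subgroup.subset_closure (Set.mem_insert_of_mem _ rfl)
  have hKle : K ≤ N := by
    rw [Subgroup.closure_le]
    rintro g (rfl | rfl)
    exacts [hy, hc]
  have h := hD.gen
  simp only [genB, Bool.and_eq_true, dK, wk_eq, Nat.beq_eq] at h
  obtain ⟨⟨⟨⟨⟨nza, nzb⟩, hcomm⟩, hz⟩, hlen⟩, hedges⟩ := h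
  have ha := named_of nza
  have hb := named_of nzb
  obtain ⟨pa, hpa, -⟩ := ha.reach M
  obtain ⟨pb, hpb, -⟩ := hb.reach M
  obtain ⟨ly, -, lc⟩ := hD.lts
  have hab : M.dp pb * M.dp pa ∈ K := by
    have h1 := M.eqW_sound (Lt.rep ((ly.rep 6).append lc) 13) (ha.1.dW.append hb.1.dW) hz
    rw [op_rep, op_append, op_rep, op_append, ha.op_dW M hpa, hb.op_dW M hpb] at h1
    rw [← h1]
    exact pow_mem (mul_mem hKc (pow_mem hKy 6)) 13
  have hswap : M.dp pa * M.dp pb = M.dp pb * M.dp pa := by
    refine (M.dp_fix_iff pa pb).mp (Fin.ext ?_)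
    rw [← ha.dV_eq M hpa, hpb]
    exact hcomm
  have hgens : ∀ i, Lt (gensW D i) ∧ op (gensW D i) ∈ K := by
    intro i
    unfold gensW
    split
    · exact ⟨ly, hKy⟩
    · exact ⟨fun l hl => ly l (List.mem_reverse.mp hl), by rw [op_reverse]; exact inv_mem hKy⟩
    · exact ⟨lc, hKc⟩
    · exact ⟨fun l hl => lc l (List.mem_reverse.mp hl), by rw [op_reverse]; exact inv_mem hKc⟩
  have hwords : ∀ w : List ℕ, Lt (w.flatMap (gensW D)) ∧ op (w.flatMap (gensW D)) ∈ K := by
    intro w
    induction w with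
    | nil => simp [Lt, op]
    | cons i w ih =>
      rw [List.flatMap_cons, op_append]
      exact ⟨(hgens i).1.append ih.1, mul_mem ih.2 (hgens i).2⟩
  have chain : ∀ (L : List (Bool × ℕ × List ℕ)) (cur last : Fin M.n),
      chainB M.T D L (cur : ℕ) (last : ℕ) = true → e 0 * M.dp cur ∈ K → e 0 * M.dp last ∈ K := by
    intro L
    induction L with
    | nil =>
      intro cur last hc hk
      simp only [chainB, Nat.beq_eq] at hc
      rw [← show cur = last from Fin.ext hc]
      exact hk
    | cons s L ih =>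
      obtain ⟨fl, v, w⟩ := s
      intro cur last hc hk
      simp only [chainB, Bool.and_eq_true, wk_eq, Nat.beq_eq] at hc
      obtain ⟨⟨h1, h2⟩, h3⟩ := hc
      have hlt := (hwords w).1
      set k := op (w.flatMap (gensW D))
      have hk' : k ∈ K := (hwords w).2
      obtain ⟨p, q, hp, hq, hpq⟩ : ∃ p q : Fin M.n, (p : ℕ) = cond fl D.zb.1 D.za.1 ∧
          (q : ℕ) = cond fl D.za.1 D.zb.1 ∧ M.dp p * M.dp q ∈ K := by
        cases fl
        · exact ⟨pa, pb, hpa, hpb, hswap ▸ hab⟩
        · exact ⟨pb, pa, hpb, hpa, hab⟩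
      have e1 : M.φ k p = cur := Fin.ext (by rw [M.op_walk hlt, hp, h1])
      have e2 : ((M.φ k q : Fin M.n) : ℕ) = v := by rw [M.op_walk hlt, hq, h2]
      have hcv : M.dp cur * M.dp (M.φ k q) ∈ K := by
        rw [← e1, ← M.conj_dp, ← M.conj_dp]
        have : k * M.dp p * k⁻¹ * (k * M.dp q * k⁻¹) = k * (M.dp p * M.dp q) * k⁻¹ := by group
        rw [this]
        exact mul_mem (mul_mem hk' hpq) (inv_mem hk')
      refine ih (M.φ k q) last (by rw [e2]; exact h3) ?_
      have := mul_mem hk hcv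
      simpa [mul_assoc, ← mul_assoc (M.dp cur) (M.dp cur), M.dp_sq] using this
  refine N_le hKle fun l hl => ?_
  have hl' : l < D.edges.length := by omega
  have h1 := allI_sound hedges l hl'
  simp only [Nat.zero_add, wk_eq] at h1
  rw [← M.pL_val] at h1
  have h0 : M.dp M.o = e 0 := by
    rw [M.dp_eq (g := 1) (by simp)]; simp
  have h2 := chain _ M.o (M.pL l) h1 (by rw [h0, e_sq]; exact one_mem _)
  rw [M.dp_pL hl] at h2
  have := inv_mem h2
  simpa [e_inv] using this

end Cfsg.Agent.H87.Fi24Out
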