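import Cfsg.Agent.H87.Fi24Out.Checks

/-!
Numerical data, produced outside Lean; every fact about it is tested.
-/

set_option autoImplicit false
set_option maxRecDepth 100000

namespace Cfsg.Agent.H87.Fi24Out

def ptsList0 : List (ℕ × List ℕ) := [(0, []), (6, [1, 0, 2, 1]), (24, [1, 0, 2, 1, 3, 2, 4, 3]), (113, [1, 0, 2, 1, 3, 2, 4, 3, 5, 4, 6, 5]), (116, [1, 0, 2, 1, 3, 2, 4, 3, 5, 4, 10, 5]), (120, [1, 0, 2, 1, 3, 2, 4, 3, 5, 6, 10, 5]), (134, [1, 0, 2, 1, 3, 4, 5, 6, 10, 5, 4, 3]), (166, [1, 2, 3, 4, 5, 6, 10, 5, 4, 3, 2, 1]), (174, [1, 0, 2, 1, 3, 2, 4, 3, 5, 4, 10, 5, 11]), (179, [1, 0, 2, 1, 3, 2, 4, 3, 5, 6, 10, 5, 11]), (198, [1, 0, 2, 1, 3, 4, 5, 6, 10, 5, 4, 3, 11]), (245, [1,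 2, 3, 4, 5, 6, 10, 5, 4, 3, 2, 1, 11]), (247, [1, 2, 3, 4, 5, 6, 10, 5, 4, 3, 11, 10, 5]), (254, [1, 0, 2, 1, 3, 2, 4, 3, 5, 4, 10, 5, 11, 10]), (260, [1, 0, 2, 1, 3, 2, 4, 3, 5, 6, 10, 5, 11, 10]), (286, [1, 0, 2, 1, 3, 4, 5, 6, 10, 5, 4, 3, 11, 10]), (314, [1, 0, 2, 3, 4, 5, 6, 10, 5, 4, 3, 11, 10, 5]), (356, [1, 2, 3, 4, 5, 6, 10, 5, 4, 3, 2, 1, 11, 10]), (357, [1, 2, 3, 4, 5, 6, 10, 5, 4, 3, 2, 11, 10, 5]), (358, [1, 2, 3, 4, 5, 6, 10, 5, 4, 3, 11, 10, 5, 4]), (359, [1, 2, 3, 4, 5, 6, 10, 5, 4, 3, 11, 10, 5, 6]), (445, [1, 0, 2, 3, 4, 5, 6, 10, 5, 4, 3, 2, 11, 10, 5]), (446, [1, 0, 2, 3, 4, 5, 6, 10, 5, 4, 3, 11, 10, 5, 4]), (447, [1, 0, 2, 3, 4, 5, 6, 10, 5, 4, 3, 11, 10, 5, 6]), (510,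 [1, 0, 2, 1, 3, 2, 4, 3, 5, 4, 6, 5, 7, 6, 8, 7]), (515, [1, 0, 2, 1, 3, 2, 4, 3, 5, 6, 7, 8, 10, 5, 6, 7]), (546, [1, 0, 2, 1, 3, 4, 5, 6, 7, 8, 10, 5, 4, 3, 6, 7]), (652, [1, 2, 3, 4, 5, 6, 7, 8, 10, 5, 4, 3, 2, 1, 6, 7]), (707, [1, 0, 2, 1, 3, 2, 4, 3, 5, 4, 6, 5, 7, 6, 8, 7, 9]), (708, [1, 0, 2, 1, 3, 2, 4, 3, 5, 6, 7, 8, 9, 10, 5, 6, 7]), (711, [1, 0, 2, 1, 3, 2, 4, 3, 5, 6, 7, 8, 10, 5, 6, 7, 11]), (736, [1, 0, 2, 1, 3, 4, 5, 6, 7, 8, 9, 10, 5, 4, 3, 6, 7]), (753, [1, 0, 2, 1, 3, 4, 5, 6, 7, 8, 10, 5, 4, 3, 6, 7, 11]), (855, [1, 2, 3, 4, 5, 6, 7, 8, 9, 10, 5, 4, 3, 2, 1, 6, 7]), (897, [1, 2, 3, 4, 5, 6, 7, 8, 10, 5, 4, 3, 2, 1, 6, 7, 11]), (964, [1, 0, 2, 1, 3, 2, 4, 3, 5, 4, 6, 5,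 7, 6, 8, 7, 9, 8]), (965, [1, 0, 2, 1, 3, 2, 4, 3, 5, 6, 7, 8, 9, 10, 5, 6, 7, 8]), (966, [1, 0, 2, 1, 3, 2, 4, 3, 5, 6, 7, 8, 9, 10, 5, 6, 7, 11]), (968, [1, 0, 2, 1, 3, 2, 4, 3, 5, 6, 7, 8, 10, 5, 6, 7, 11, 10]), (1002, [1, 0, 2, 1, 3, 4, 5, 6, 7, 8, 9, 10, 5, 4, 3, 6, 7, 8]), (1003, [1, 0, 2, 1, 3, 4, 5, 6, 7, 8, 9, 10, 5, 4, 3, 6, 7, 11]), (1026, [1, 0, 2, 1, 3, 4, 5, 6, 7, 8, 10, 5, 4, 3, 6, 7, 11, 10]), (1160, [1, 2, 3, 4, 5, 6, 7, 8, 9, 10, 5, 4, 3, 2, 1, 6, 7, 8]), (1161, [1, 2, 3, 4, 5, 6, 7, 8, 9, 10, 5, 4, 3, 2, 1, 6, 7, 11]), (1219, [1, 2, 3, 4, 5, 6, 7, 8, 10, 5, 4, 3, 2, 1, 6, 7, 11, 10]), (1308, [1, 0, 2, 1, 3, 2, 4, 3, 5, 6, 7, 8, 9, 10, 5, 6, 7, 8, 11]), (1309, [1, 0, 2,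 1, 3, 2, 4, 3, 5, 6, 7, 8, 9, 10, 5, 6, 7, 11, 10]), (1357, [1, 0, 2, 1, 3, 4, 5, 6, 7, 8, 9, 10, 5, 4, 3, 6, 7, 8, 11]), (1358, [1, 0, 2, 1, 3, 4, 5, 6, 7, 8, 9, 10, 5, 4, 3, 6, 7, 11, 10]), (1571, [1, 2, 3, 4, 5, 6, 7, 8, 9, 10, 5, 4, 3, 2, 1, 6, 7, 8, 11]), (1572, [1, 2, 3, 4, 5, 6, 7, 8, 9, 10, 5, 4, 3, 2, 1, 6, 7, 11, 10]), (1768, [1, 0, 2, 1, 3, 2, 4, 3, 5, 6, 7, 8, 9, 10, 5, 6, 7, 8, 11, 10]), (1834, [1, 0, 2, 1, 3, 4, 5, 6, 7, 8, 9, 10, 5, 4, 3, 6, 7, 8, 11, 10]), (1865, [1, 0, 2, 1, 3, 4, 5, 6, 7, 8, 10, 5, 4, 3, 6, 5, 4, 7, 6, 5]), (1869, [1, 0, 2, 1, 3, 4, 5, 6, 7, 8, 10, 5, 4, 3, 6, 5, 7, 6, 10, 5]), (2124, [1, 2, 3, 4, 5, 6, 7, 8, 9, 10, 5, 4, 3, 2, 1, 6, 7, 8, 11, 10]), (2467,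 [1, 0, 2, 1, 3, 4, 5, 6, 7, 8, 9, 10, 5, 4, 3, 6, 5, 4, 7, 6, 5]), (2476, [1, 0, 2, 1, 3, 4, 5, 6, 7, 8, 9, 10, 5, 4, 3, 6, 5, 7, 6, 10, 5]), (2531, [1, 0, 2, 1, 3, 4, 5, 6, 7, 8, 10, 5, 4, 3, 6, 5, 4, 7, 6, 5, 11]), (2536, [1, 0, 2, 1, 3, 4, 5, 6, 7, 8, 10, 5, 4, 3, 6, 5, 7, 6, 10, 5, 11]), (3266, [1, 0, 2, 1, 3, 2, 4, 3, 5, 6, 7, 8, 10, 5, 6, 7, 11, 10, 5, 4, 6, 5]), (3305, [1, 0, 2, 1, 3, 2, 4, 5, 6, 7, 8, 10, 5, 4, 6, 5, 7, 6, 10, 5, 4, 3]), (3353, [1, 0, 2, 1, 3, 4, 5, 6, 7, 8, 9, 10, 5, 4, 3, 6, 5, 4, 7, 6, 5, 8])]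

def pathList0 : List (ℕ × List ℕ) := [(0, []), (1, [8, 4, 13]), (1, [12, 7, 9]), (1, [6, 8, 12]), (8, [10, 12, 6]), (1, [9, 10, 11]), (2, [4, 6, 8]), (3, [9, 5, 11]), (0, [7, 3, 13]), (0, [2, 5, 3]), (6, [12, 13]), (1, [6, 4]), (7, []), (0, [13, 4, 2]), (1, [8, 2]), (8, [10, 13]), (0, [7]), (0, [7, 1, 11]), (3, [12, 6]), (0, [2, 5, 13]), (2, [8, 11]), (0, [12, 3, 6]), (2, [13, 0, 5]), (0, [5, 11, 6]), (1, [8, 10, 12]), (1, []), (6, [10]), (0, [7, 13]), (4, [13, 11]), (1, [10, 4]), (3, [10, 6]), (0, [9, 12]), (1, [3]), (0, [2, 12, 1]), (0, [5, 8, 1]), (4, [10]), (0, [2, 13, 5]), (1, [3, 5, 7]), (0, [5, 7, 2, 10]), (0, [2, 12]), (0, [7, 9, 11]), (0, [5, 8]), (0, [2, 9, 5]), (0, [5, 7, 11]),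 (3, []), (0, [2, 4, 5]), (0, [7, 8]), (2, [8, 6]), (7, [12, 10]), (1, [3, 7, 5]), (3, [10, 4]), (7, [12, 10, 3]), (0, [7, 8, 3]), (1, [3, 6, 4]), (5, [7, 12]), (4, [12, 5]), (1, [3, 6, 10]), (0, [5, 7, 2]), (4, [10, 6]), (1, [9, 5, 10]), (1, [12, 4, 13]), (0, [8, 4, 13]), (0, [5, 7, 1, 2])]

def ptsList1 : List (ℕ × List ℕ) := [(3354, [1, 0, 2, 1, 3, 4, 5, 6, 7, 8, 9, 10, 5, 4, 3, 6, 5, 4, 7, 6, 5, 11]), (3364, [1, 0, 2, 1, 3, 4, 5, 6, 7, 8, 9, 10, 5, 4, 3, 6, 5, 7, 6, 8, 10, 5]), (3367, [1, 0, 2, 1, 3, 4, 5, 6, 7, 8, 9, 10, 5, 4, 3, 6, 5, 7, 6, 10, 5, 11]), (3444, [1, 0, 2, 1, 3, 4, 5, 6, 7, 8, 10, 5, 4, 3, 6, 5, 4, 7, 6, 5, 11, 10]), (3451, [1, 0, 2, 1, 3, 4, 5, 6, 7, 8, 10, 5, 4, 3, 6,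 5, 7, 6, 10, 5, 11, 10]), (3470, [1, 0, 2, 1, 3, 4, 5, 6, 7, 8, 10, 5, 4, 3, 6, 7, 11, 10, 5, 4, 6, 5]), (4156, [1, 2, 3, 4, 5, 6, 7, 8, 10, 5, 4, 3, 2, 1, 6, 7, 11, 10, 5, 4, 6, 5]), (4435, [1, 0, 2, 1, 3, 2, 4, 3, 5, 6, 7, 8, 9, 10, 5, 6, 7, 11, 10, 5, 4, 6, 5]), (4440, [1, 0, 2, 1, 3, 2, 4, 3, 5, 6, 7, 8, 10, 5, 6, 7, 11, 10, 5, 4, 6, 5, 10]), (4449, [1, 0, 2, 1, 3, 2, 4, 5, 6, 7, 8, 9, 10, 5, 4, 6, 5, 7, 6, 10, 5, 4, 3]), (4540, [1, 0, 2, 1, 3, 4, 5, 6, 7, 8, 9, 10, 5, 4, 3, 6, 5, 4, 7, 6, 5, 8, 11]), (4541, [1, 0, 2, 1, 3, 4, 5, 6, 7, 8, 9, 10, 5, 4, 3, 6, 5, 4, 7, 6, 5, 11, 10]), (4554, [1, 0, 2, 1, 3, 4, 5, 6, 7, 8, 9, 10, 5, 4, 3, 6, 5, 7, 6, 8, 10, 5, 11]), (4557, [1, 0, 2, 1, 3,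 4, 5, 6, 7, 8, 9, 10, 5, 4, 3, 6, 5, 7, 6, 10, 5, 11, 10]), (4582, [1, 0, 2, 1, 3, 4, 5, 6, 7, 8, 9, 10, 5, 4, 3, 6, 7, 11, 10, 5, 4, 6, 5]), (4712, [1, 0, 2, 1, 3, 4, 5, 6, 7, 8, 10, 5, 4, 3, 6, 7, 11, 10, 5, 4, 6, 5, 10]), (5299, [1, 2, 3, 4, 5, 6, 7, 8, 9, 10, 5, 4, 3, 2, 1, 6, 7, 11, 10, 5, 4, 6, 5]), (5639, [1, 2, 3, 4, 5, 6, 7, 8, 10, 5, 4, 3, 2, 1, 6, 7, 11, 10, 5, 4, 6, 5, 10]), (5979, [1, 0, 2, 1, 3, 2, 4, 3, 5, 6, 7, 8, 9, 10, 5, 6, 7, 8, 11, 10, 5, 4, 6, 5]), (5984, [1, 0, 2, 1, 3, 2, 4, 3, 5, 6, 7, 8, 9, 10, 5, 6, 7, 11, 10, 5, 4, 6, 5, 10]), (5991, [1, 0, 2, 1, 3, 2, 4, 5, 6, 7, 8, 9, 10, 5, 4, 6, 5, 7, 6, 8, 10, 5, 4, 3]), (6097, [1, 0, 2, 1, 3, 4, 5, 6, 7, 8, 9, 10, 5, 4,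 3, 6, 5, 4, 7, 6, 5, 8, 11, 10]), (6117, [1, 0, 2, 1, 3, 4, 5, 6, 7, 8, 9, 10, 5, 4, 3, 6, 5, 7, 6, 8, 10, 5, 11, 10]), (6155, [1, 0, 2, 1, 3, 4, 5, 6, 7, 8, 9, 10, 5, 4, 3, 6, 7, 8, 11, 10, 5, 4, 6, 5]), (6163, [1, 0, 2, 1, 3, 4, 5, 6, 7, 8, 9, 10, 5, 4, 3, 6, 7, 11, 10, 5, 4, 6, 5, 10]), (6353, [1, 0, 2, 1, 3, 4, 5, 6, 7, 8, 10, 5, 4, 3, 6, 7, 11, 10, 5, 4, 6, 5, 10, 11]), (7079, [1, 2, 3, 4, 5, 6, 7, 8, 9, 10, 5, 4, 3, 2, 1, 6, 7, 8, 11, 10, 5, 4, 6, 5]), (7087, [1, 2, 3, 4, 5, 6, 7, 8, 9, 10, 5, 4, 3, 2, 1, 6, 7, 11, 10, 5, 4, 6, 5, 10]), (7578, [1, 2, 3, 4, 5, 6, 7, 8, 10, 5, 4, 3, 2, 1, 6, 7, 11, 10, 5, 4, 6, 5, 10, 11]), (7971, [1, 0, 2, 1, 3, 2, 4, 3, 5, 6, 7, 8, 9, 10, 5, 6, 7,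 8, 11, 10, 5, 4, 6, 5, 10]), (8180, [1, 0, 2, 1, 3, 4, 5, 6, 7, 8, 9, 10, 5, 4, 3, 6, 7, 8, 11, 10, 5, 4, 6, 5, 10]), (8194, [1, 0, 2, 1, 3, 4, 5, 6, 7, 8, 9, 10, 5, 4, 3, 6, 7, 11, 10, 5, 4, 6, 5, 10, 11]), (9340, [1, 2, 3, 4, 5, 6, 7, 8, 9, 10, 5, 4, 3, 2, 1, 6, 7, 8, 11, 10, 5, 4, 6, 5, 10]), (9352, [1, 2, 3, 4, 5, 6, 7, 8, 9, 10, 5, 4, 3, 2, 1, 6, 7, 11, 10, 5, 4, 6, 5, 10, 11]), (10724, [1, 0, 2, 1, 3, 4, 5, 6, 7, 8, 9, 10, 5, 4, 3, 6, 7, 8, 11, 10, 5, 4, 6, 5, 10, 11]), (10920, [1, 0, 2, 1, 3, 4, 5, 6, 7, 8, 10, 5, 4, 3, 6, 5, 4, 7, 6, 5, 11, 10, 5, 4, 6, 5]), (10958, [1, 0, 2, 1, 3, 4, 5, 6, 7, 8, 10, 5, 4, 3, 6, 5, 7, 6, 10, 5, 11, 10, 5, 4, 6, 5]), (12139, [1, 2, 3, 4, 5, 6, 7,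 8, 9, 10, 5, 4, 3, 2, 1, 6, 7, 8, 11, 10, 5, 4, 6, 5, 10, 11]), (13074, [1, 2, 3, 4, 5, 6, 7, 8, 10, 5, 4, 3, 2, 1, 6, 7, 11, 10, 5, 4, 3, 2, 6, 5, 4, 3]), (13693, [1, 0, 2, 1, 3, 4, 5, 6, 7, 8, 9, 10, 5, 4, 3, 6, 5, 4, 7, 6, 5, 11, 10, 5, 4, 6, 5]), (13775, [1, 0, 2, 1, 3, 4, 5, 6, 7, 8, 9, 10, 5, 4, 3, 6, 5, 7, 6, 10, 5, 11, 10, 5, 4, 6, 5]), (13875, [1, 0, 2, 1, 3, 4, 5, 6, 7, 8, 9, 10, 5, 4, 3, 6, 5, 11, 10, 5, 4, 6, 5, 7, 6, 8, 7]), (14127, [1, 0, 2, 1, 3, 4, 5, 6, 7, 8, 10, 5, 4, 3, 6, 5, 4, 7, 6, 5, 11, 10, 5, 4, 6, 5, 10]), (14171, [1, 0, 2, 1, 3, 4, 5, 6, 7, 8, 10, 5, 4, 3, 6, 5, 7, 6, 10, 5, 11, 10, 5, 4, 6, 5, 10]), (15624, [1, 2, 3, 4, 5, 6, 7, 8, 9, 10, 5, 4, 3, 2, 1, 6, 5,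 11, 10, 5, 4, 6, 5, 7, 6, 8, 7]), (15648, [1, 2, 3, 4, 5, 6, 7, 8, 9, 10, 5, 4, 3, 2, 1, 6, 7, 11, 10, 5, 4, 3, 2, 6, 5, 4, 3]), (16898, [1, 2, 3, 4, 5, 6, 7, 8, 10, 5, 4, 3, 2, 1, 6, 7, 11, 10, 5, 4, 3, 2, 6, 5, 4, 3, 10]), (17610, [1, 0, 2, 1, 3, 4, 5, 6, 7, 8, 9, 10, 5, 4, 3, 6, 5, 4, 7, 6, 5, 8, 11, 10, 5, 4, 6, 5]), (17617, [1, 0, 2, 1, 3, 4, 5, 6, 7, 8, 9, 10, 5, 4, 3, 6, 5, 4, 7, 6, 5, 11, 10, 5, 4, 6, 5, 10]), (17691, [1, 0, 2, 1, 3, 4, 5, 6, 7, 8, 9, 10, 5, 4, 3, 6, 5, 4, 11, 10, 5, 4, 6, 5, 7, 6, 8, 7]), (17713, [1, 0, 2, 1, 3, 4, 5, 6, 7, 8, 9, 10, 5, 4, 3, 6, 5, 7, 6, 8, 10, 5, 11, 10, 5, 4, 6, 5]), (17734, [1, 0, 2, 1, 3, 4, 5, 6, 7, 8, 9, 10, 5, 4, 3, 6, 5, 7, 6, 10, 5, 11,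 10, 5, 4, 6, 5, 10]), (17848, [1, 0, 2, 1, 3, 4, 5, 6, 7, 8, 9, 10, 5, 4, 3, 6, 5, 10, 11, 10, 5, 4, 6, 5, 7, 6, 8, 7]), (17869, [1, 0, 2, 1, 3, 4, 5, 6, 7, 8, 9, 10, 5, 4, 3, 6, 5, 11, 10, 5, 4, 6, 5, 7, 6, 8, 7, 9]), (17870, [1, 0, 2, 1, 3, 4, 5, 6, 7, 8, 9, 10, 5, 4, 3, 6, 5, 11, 10, 5, 4, 6, 5, 7, 6, 8, 7, 10]), (18160, [1, 0, 2, 1, 3, 4, 5, 6, 7, 8, 10, 5, 4, 3, 6, 5, 4, 7, 6, 5, 11, 10, 5, 4, 6, 5, 10, 11]), (18214, [1, 0, 2, 1, 3, 4, 5, 6, 7, 8, 10, 5, 4, 3, 6, 5, 7, 6, 10, 5, 11, 10, 5, 4, 6, 5, 10, 11]), (20044, [1, 2, 3, 4, 5, 6, 7, 8, 9, 10, 5, 4, 3, 2, 1, 6, 7, 8, 11, 10, 5, 4, 3, 2, 6, 5, 4, 3]), (20075, [1, 2, 3, 4, 5, 6, 7, 8, 9, 10, 5, 4, 3, 2, 1, 6, 7, 11, 10, 5, 4, 3, 2,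 6, 5, 4, 3, 10]), (21756, [1, 2, 3, 4, 5, 6, 7, 8, 10, 5, 4, 3, 2, 1, 6, 7, 11, 10, 5, 4, 3, 2, 6, 5, 4, 3, 10, 11]), (22596, [1, 0, 2, 1, 3, 4, 5, 6, 7, 8, 9, 10, 5, 4, 3, 6, 5, 4, 7, 6, 5, 8, 11, 10, 5, 4, 6, 5, 10]), (22608, [1, 0, 2, 1, 3, 4, 5, 6, 7, 8, 9, 10, 5, 4, 3, 6, 5, 4, 7, 6, 5, 11, 10, 5, 4, 6, 5, 10, 11]), (22713, [1, 0, 2, 1, 3, 4, 5, 6, 7, 8, 9, 10, 5, 4, 3, 6, 5, 4, 11, 10, 5, 4, 6, 5, 7, 6, 8, 7, 9])]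

def pathList1 : List (ℕ × List ℕ) := [(6, []), (2, [9, 11, 6]), (0, [11, 12, 1]), (2, [11, 9, 7]), (1, [6, 12, 5]), (0, [7, 6, 12]), (1, [10, 5, 7]), (3, [7, 9]), (2, [8]), (0, [9, 13]), (0, [9, 4, 7, 2]), (8, [10, 12]), (3, [10]), (0, [9, 13, 6]), (2, [9, 3, 13]), (0, [7, 8, 10]), (0, [7, 3, 5]), (0, [2, 13, 5, 10]), (0, [5, 10, 12]), (2, [8, 4, 10]), (0, [8, 11]), (1, [10]), (2, [8, 4]), (2, [13, 8]), (0, [11, 13, 8]), (1, [7, 8, 4]), (0, [8, 9]), (1, [12, 4, 8]), (2, [11, 4]), (1, [3, 6]), (9, [11]), (0, [7, 9, 2]), (0, [7, 11, 6]), (5, [13]), (7, [12]), (1, [10, 2, 11]), (0, [9, 4, 11]), (1, [9, 12, 13]), (4, [6]), (5, [12, 6]), (1, [12, 5, 3]), (1, [6, 8, 11]), (2, [7, 10]), (2, [10,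 11]), (1, [13, 4, 12]), (6, [10, 4]), (0, [7, 11]), (1, [6, 9, 12]), (2, [4, 7]), (0, [12, 10, 13]), (5, [9, 3]), (0, [7, 3, 12]), (1, [7, 3, 5]), (2, [9, 11, 4]), (7, [12, 10, 1]), (1, [7, 13]), (0, [2, 5]), (4, [11, 13, 6]), (0, [8, 9, 10]), (0, [9, 7, 12]), (5, [7, 11]), (2, [11, 6]), (9, [11, 13, 2])]

def ptsList2 : List (ℕ × List ℕ) := [(22714, [1, 0, 2, 1, 3, 4, 5, 6, 7, 8, 9, 10, 5, 4, 3, 6, 5, 4, 11, 10, 5, 4, 6, 5, 7, 6, 8, 7, 10]), (22743, [1, 0, 2, 1, 3, 4, 5, 6, 7, 8, 9, 10, 5, 4, 3, 6, 5, 7, 6, 8, 10, 5, 11, 10, 5, 4, 6, 5, 10]), (22774, [1, 0, 2, 1, 3, 4, 5, 6, 7, 8, 9, 10, 5, 4, 3, 6, 5, 7, 6, 10, 5, 11, 10, 5, 4, 6, 5, 10, 11]), (22936, [1, 0, 2, 1, 3, 4, 5, 6, 7, 8, 9,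 10, 5, 4, 3, 6, 5, 10, 11, 10, 5, 4, 6, 5, 7, 6, 8, 7, 9]), (22937, [1, 0, 2, 1, 3, 4, 5, 6, 7, 8, 9, 10, 5, 4, 3, 6, 5, 10, 11, 10, 5, 4, 6, 5, 7, 6, 8, 7, 10]), (25664, [1, 2, 3, 4, 5, 6, 7, 8, 9, 10, 5, 4, 3, 2, 1, 6, 7, 8, 11, 10, 5, 4, 3, 2, 6, 5, 4, 3, 10]), (25707, [1, 2, 3, 4, 5, 6, 7, 8, 9, 10, 5, 4, 3, 2, 1, 6, 7, 11, 10, 5, 4, 3, 2, 6, 5, 4, 3, 10, 11]), (27926, [1, 2, 3, 4, 5, 6, 7, 8, 10, 5, 4, 3, 2, 1, 6, 7, 11, 10, 5, 4, 3, 2, 1, 6, 5, 4, 3, 10, 5]), (27983, [1, 2, 3, 4, 5, 6, 7, 8, 10, 5, 4, 3, 2, 6, 5, 7, 11, 10, 5, 4, 3, 2, 1, 6, 5, 4, 3, 10, 5]), (28129, [1, 2, 3, 4, 5, 6, 7, 8, 10, 5, 4, 3, 6, 5, 4, 7, 11, 10, 5, 4, 3, 2, 1, 6, 5, 4, 3, 10, 5]), (28927, [1, 0, 2, 1, 3,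 4, 5, 6, 7, 8, 9, 10, 5, 4, 3, 6, 5, 4, 7, 6, 5, 8, 11, 10, 5, 4, 6, 5, 10, 11]), (29091, [1, 0, 2, 1, 3, 4, 5, 6, 7, 8, 9, 10, 5, 4, 3, 6, 5, 4, 11, 10, 5, 4, 6, 5, 7, 6, 8, 7, 9, 8]), (29092, [1, 0, 2, 1, 3, 4, 5, 6, 7, 8, 9, 10, 5, 4, 3, 6, 5, 4, 11, 10, 5, 4, 6, 5, 7, 6, 8, 7, 9, 10]), (29132, [1, 0, 2, 1, 3, 4, 5, 6, 7, 8, 9, 10, 5, 4, 3, 6, 5, 7, 6, 8, 10, 5, 11, 10, 5, 4, 6, 5, 10, 11]), (29741, [1, 0, 2, 1, 3, 4, 5, 6, 7, 8, 10, 5, 4, 3, 6, 5, 4, 7, 6, 5, 11, 10, 5, 4, 3, 2, 6, 5, 4, 3]), (32725, [1, 2, 3, 4, 5, 6, 7, 8, 9, 10, 5, 4, 3, 2, 1, 6, 7, 8, 11, 10, 5, 4, 3, 2, 6, 5, 4, 3, 10, 11]), (32767, [1, 2, 3, 4, 5, 6, 7, 8, 9, 10, 5, 4, 3, 2, 1, 6, 7, 11, 10, 5, 4, 3, 2, 1, 6, 5,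 4, 3, 10, 5]), (32958, [1, 2, 3, 4, 5, 6, 7, 8, 9, 10, 5, 4, 3, 2, 6, 5, 7, 11, 10, 5, 4, 3, 2, 1, 6, 5, 4, 3, 10, 5]), (33412, [1, 2, 3, 4, 5, 6, 7, 8, 9, 10, 5, 4, 3, 6, 5, 4, 7, 11, 10, 5, 4, 3, 2, 1, 6, 5, 4, 3, 10, 5]), (35702, [1, 2, 3, 4, 5, 6, 7, 8, 10, 5, 4, 3, 2, 1, 6, 7, 11, 10, 5, 4, 3, 2, 1, 0, 6, 5, 4, 3, 10, 5]), (35708, [1, 2, 3, 4, 5, 6, 7, 8, 10, 5, 4, 3, 2, 1, 6, 7, 11, 10, 5, 4, 3, 2, 1, 6, 5, 4, 3, 2, 10, 5]), (35710, [1, 2, 3, 4, 5, 6, 7, 8, 10, 5, 4, 3, 2, 1, 6, 7, 11, 10, 5, 4, 3, 2, 1, 6, 5, 4, 3, 10, 5, 4]), (35711, [1, 2, 3, 4, 5, 6, 7, 8, 10, 5, 4, 3, 2, 1, 6, 7, 11, 10, 5, 4, 3, 2, 1, 6, 5, 4, 3, 10, 5, 6]), (35712, [1, 2, 3, 4, 5, 6, 7, 8, 10, 5, 4, 3, 2, 1,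 6, 7, 11, 10, 5, 4, 3, 2, 1, 6, 5, 4, 3, 10, 5, 11]), (35769, [1, 2, 3, 4, 5, 6, 7, 8, 10, 5, 4, 3, 2, 6, 5, 7, 11, 10, 5, 4, 3, 2, 1, 0, 6, 5, 4, 3, 10, 5]), (35779, [1, 2, 3, 4, 5, 6, 7, 8, 10, 5, 4, 3, 2, 6, 5, 7, 11, 10, 5, 4, 3, 2, 1, 6, 5, 4, 3, 2, 10, 5]), (35784, [1, 2, 3, 4, 5, 6, 7, 8, 10, 5, 4, 3, 2, 6, 5, 7, 11, 10, 5, 4, 3, 2, 1, 6, 5, 4, 3, 10, 5, 4]), (35785, [1, 2, 3, 4, 5, 6, 7, 8, 10, 5, 4, 3, 2, 6, 5, 7, 11, 10, 5, 4, 3, 2, 1, 6, 5, 4, 3, 10, 5, 6]), (35786, [1, 2, 3, 4, 5, 6, 7, 8, 10, 5, 4, 3, 2, 6, 5, 7, 11, 10, 5, 4, 3, 2, 1, 6, 5, 4, 3, 10, 5, 11]), (35962, [1, 2, 3, 4, 5, 6, 7, 8, 10, 5, 4, 3, 6, 5, 4, 7, 11, 10, 5, 4, 3, 2, 1, 0, 6, 5, 4, 3, 10, 5]), (35971, [1,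 2, 3, 4, 5, 6, 7, 8, 10, 5, 4, 3, 6, 5, 4, 7, 11, 10, 5, 4, 3, 2, 1, 6, 5, 4, 3, 2, 10, 5]), (35977, [1, 2, 3, 4, 5, 6, 7, 8, 10, 5, 4, 3, 6, 5, 4, 7, 11, 10, 5, 4, 3, 2, 1, 6, 5, 4, 3, 10, 5, 4]), (35978, [1, 2, 3, 4, 5, 6, 7, 8, 10, 5, 4, 3, 6, 5, 4, 7, 11, 10, 5, 4, 3, 2, 1, 6, 5, 4, 3, 10, 5, 6]), (35979, [1, 2, 3, 4, 5, 6, 7, 8, 10, 5, 4, 3, 6, 5, 4, 7, 11, 10, 5, 4, 3, 2, 1, 6, 5, 4, 3, 10, 5, 11]), (36854, [1, 0, 2, 1, 3, 4, 5, 6, 7, 8, 9, 10, 5, 4, 3, 6, 5, 4, 7, 6, 5, 11, 10, 5, 4, 3, 2, 6, 5, 4, 3]), (37122, [1, 0, 2, 1, 3, 4, 5, 6, 7, 8, 9, 10, 5, 4, 3, 6, 5, 7, 6, 8, 7, 11, 10, 5, 4, 6, 5, 7, 6, 8, 7]), (37833, [1, 0, 2, 1, 3, 4, 5, 6, 7, 8, 10, 5, 4, 3, 6, 5, 4, 7, 6, 5, 11,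 10, 5, 4, 3, 2, 6, 5, 4, 3, 10]), (40525, [1, 0, 2, 3, 4, 5, 6, 7, 8, 10, 5, 4, 3, 2, 6, 5, 7, 6, 11, 10, 5, 4, 3, 2, 1, 6, 5, 4, 3, 10, 5]), (40689, [1, 0, 2, 3, 4, 5, 6, 7, 8, 10, 5, 4, 3, 6, 5, 4, 7, 6, 5, 11, 10, 5, 4, 6, 5, 7, 6, 8, 7, 10, 5]), (40701, [1, 0, 2, 3, 4, 5, 6, 7, 8, 10, 5, 4, 3, 6, 5, 4, 7, 6, 11, 10, 5, 4, 3, 2, 1, 6, 5, 4, 3, 10, 5]), (41317, [1, 2, 3, 4, 5, 6, 7, 8, 9, 10, 5, 4, 3, 2, 1, 6, 5, 7, 6, 8, 7, 11, 10, 5, 4, 6, 5, 7, 6, 8, 7]), (41484, [1, 2, 3, 4, 5, 6, 7, 8, 9, 10, 5, 4, 3, 2, 1, 6, 7, 8, 11, 10, 5, 4, 3, 2, 1, 6, 5, 4, 3, 10, 5]), (41550, [1, 2, 3, 4, 5, 6, 7, 8, 9, 10, 5, 4, 3, 2, 1, 6, 7, 11, 10, 5, 4, 3, 2, 1, 0, 6, 5, 4, 3, 10, 5]), (41558, [1, 2,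 3, 4, 5, 6, 7, 8, 9, 10, 5, 4, 3, 2, 1, 6, 7, 11, 10, 5, 4, 3, 2, 1, 6, 5, 4, 3, 2, 10, 5]), (41560, [1, 2, 3, 4, 5, 6, 7, 8, 9, 10, 5, 4, 3, 2, 1, 6, 7, 11, 10, 5, 4, 3, 2, 1, 6, 5, 4, 3, 10, 5, 4]), (41561, [1, 2, 3, 4, 5, 6, 7, 8, 9, 10, 5, 4, 3, 2, 1, 6, 7, 11, 10, 5, 4, 3, 2, 1, 6, 5, 4, 3, 10, 5, 6]), (41562, [1, 2, 3, 4, 5, 6, 7, 8, 9, 10, 5, 4, 3, 2, 1, 6, 7, 11, 10, 5, 4, 3, 2, 1, 6, 5, 4, 3, 10, 5, 11]), (41722, [1, 2, 3, 4, 5, 6, 7, 8, 9, 10, 5, 4, 3, 2, 6, 5, 7, 8, 11, 10, 5, 4, 3, 2, 1, 6, 5, 4, 3, 10, 5]), (41803, [1, 2, 3, 4, 5, 6, 7, 8, 9, 10, 5, 4, 3, 2, 6, 5, 7, 11, 10, 5, 4, 3, 2, 1, 0, 6, 5, 4, 3, 10, 5]), (41819, [1, 2, 3, 4, 5, 6, 7, 8, 9, 10, 5, 4, 3, 2, 6, 5, 7, 11,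 10, 5, 4, 3, 2, 1, 6, 5, 4, 3, 2, 10, 5]), (41826, [1, 2, 3, 4, 5, 6, 7, 8, 9, 10, 5, 4, 3, 2, 6, 5, 7, 11, 10, 5, 4, 3, 2, 1, 6, 5, 4, 3, 10, 5, 4]), (41827, [1, 2, 3, 4, 5, 6, 7, 8, 9, 10, 5, 4, 3, 2, 6, 5, 7, 11, 10, 5, 4, 3, 2, 1, 6, 5, 4, 3, 10, 5, 6]), (41828, [1, 2, 3, 4, 5, 6, 7, 8, 9, 10, 5, 4, 3, 2, 6, 5, 7, 11, 10, 5, 4, 3, 2, 1, 6, 5, 4, 3, 10, 5, 11]), (42338, [1, 2, 3, 4, 5, 6, 7, 8, 9, 10, 5, 4, 3, 6, 5, 4, 7, 8, 11, 10, 5, 4, 3, 2, 1, 6, 5, 4, 3, 10, 5]), (42440, [1, 2, 3, 4, 5, 6, 7, 8, 9, 10, 5, 4, 3, 6, 5, 4, 7, 11, 10, 5, 4, 3, 2, 1, 0, 6, 5, 4, 3, 10, 5]), (42455, [1, 2, 3, 4, 5, 6, 7, 8, 9, 10, 5, 4, 3, 6, 5, 4, 7, 11, 10, 5, 4, 3, 2, 1, 6, 5, 4, 3, 2, 10, 5]), (42463,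 [1, 2, 3, 4, 5, 6, 7, 8, 9, 10, 5, 4, 3, 6, 5, 4, 7, 11, 10, 5, 4, 3, 2, 1, 6, 5, 4, 3, 10, 5, 4]), (42464, [1, 2, 3, 4, 5, 6, 7, 8, 9, 10, 5, 4, 3, 6, 5, 4, 7, 11, 10, 5, 4, 3, 2, 1, 6, 5, 4, 3, 10, 5, 6]), (42465, [1, 2, 3, 4, 5, 6, 7, 8, 9, 10, 5, 4, 3, 6, 5, 4, 7, 11, 10, 5, 4, 3, 2, 1, 6, 5, 4, 3, 10, 5, 11]), (45365, [1, 2, 3, 4, 5, 6, 7, 8, 10, 5, 4, 3, 2, 1, 6, 7, 11, 10, 5, 4, 3, 2, 1, 0, 6, 5, 4, 3, 10, 5, 4]), (45366, [1, 2, 3, 4, 5, 6, 7, 8, 10, 5, 4, 3, 2, 1, 6, 7, 11, 10, 5, 4, 3, 2, 1, 0, 6, 5, 4, 3, 10, 5, 6]), (45367, [1, 2, 3, 4, 5, 6, 7, 8, 10, 5, 4, 3, 2, 1, 6, 7, 11, 10, 5, 4, 3, 2, 1, 0, 6, 5, 4, 3, 10, 5, 11]), (45372, [1, 2, 3, 4, 5, 6, 7, 8, 10, 5, 4, 3, 2, 1, 6,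 7, 11, 10, 5, 4, 3, 2, 1, 6, 5, 4, 3, 2, 10, 5, 11])]

def pathList2 : List (ℕ × List ℕ) := [(8, [10, 13, 4]), (2, [10, 5]), (8, [10, 13, 6]), (0, [9, 12, 3]), (1, [7, 13, 6]), (0, [7, 13, 4]), (0, [5, 3, 11]), (2, [9, 5, 0]), (4, [8]), (13, []), (1, [6, 8, 2]), (0, [9, 2, 8]), (8, [13]), (1, [13, 5]), (5, [10, 13]), (2, [7]), (8, [13, 11, 4]), (2, [7, 5]), (4, [10, 13]), (2, [9, 5]), (1, [7]), (6, [10, 13]), (1, [3, 6, 8]), (0, [7, 8, 2]), (0, [8, 4]), (1, [13]), (0, [2, 9]), (0, [12, 3, 10]), (0, [5, 11, 9]), (0, [13]), (1, [8, 4]), (0, [2, 5, 7]), (5, [9, 12]), (0, [2, 13, 4]), (2, [11]), (1, [6]), (0, [2, 4, 9]), (0, [2, 9, 1]), (0, [7, 1]), (0, [9, 2]), (0, [11, 12]), (0, [8, 4, 9]),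 (0, [9, 7, 13]), (1, [12, 13]), (5, [12, 7]), (0, [2, 9, 12]), (0, [9, 3, 10]), (0, [5, 7, 1]), (0, [8, 10, 4]), (0, [13, 2]), (0, [9, 12, 7]), (0, [9, 1]), (2, [8, 9]), (3, [7, 6]), (1, [13, 2]), (1, [8, 10]), (0, [8, 4, 2]), (0, [13, 1, 9]), (0, [11, 5]), (0, [13, 6, 10]), (7, [9, 12]), (2, [7, 8]), (6, [8, 13])]

def ptsList3 : List (ℕ × List ℕ) := [(45373, [1, 2, 3, 4, 5, 6, 7, 8, 10, 5, 4, 3, 2, 1, 6, 7, 11, 10, 5, 4, 3, 2, 1, 6, 5, 4, 3, 10, 5, 4, 11]), (45374, [1, 2, 3, 4, 5, 6, 7, 8, 10, 5, 4, 3, 2, 1, 6, 7, 11, 10, 5, 4, 3, 2, 1, 6, 5, 4, 3, 10, 5, 6, 11]), (45375, [1, 2, 3, 4, 5, 6, 7, 8, 10, 5, 4, 3, 2, 1, 6, 7, 11, 10, 5, 4, 3, 2, 1, 6, 5, 4, 3, 10, 5, 11, 10]), (45437, [1, 2,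 3, 4, 5, 6, 7, 8, 10, 5, 4, 3, 2, 6, 5, 7, 11, 10, 5, 4, 3, 2, 1, 0, 6, 5, 4, 3, 2, 10, 5]), (45442, [1, 2, 3, 4, 5, 6, 7, 8, 10, 5, 4, 3, 2, 6, 5, 7, 11, 10, 5, 4, 3, 2, 1, 0, 6, 5, 4, 3, 10, 5, 6]), (45443, [1, 2, 3, 4, 5, 6, 7, 8, 10, 5, 4, 3, 2, 6, 5, 7, 11, 10, 5, 4, 3, 2, 1, 0, 6, 5, 4, 3, 10, 5, 11]), (45454, [1, 2, 3, 4, 5, 6, 7, 8, 10, 5, 4, 3, 2, 6, 5, 7, 11, 10, 5, 4, 3, 2, 1, 6, 5, 4, 3, 2, 10, 5, 11]), (45460, [1, 2, 3, 4, 5, 6, 7, 8, 10, 5, 4, 3, 2, 6, 5, 7, 11, 10, 5, 4, 3, 2, 1, 6, 5, 4, 3, 10, 5, 4, 11]), (45462, [1, 2, 3, 4, 5, 6, 7, 8, 10, 5, 4, 3, 2, 6, 5, 7, 11, 10, 5, 4, 3, 2, 1, 6, 5, 4, 3, 10, 5, 6, 11]), (45463, [1, 2, 3, 4, 5, 6, 7, 8, 10, 5, 4, 3, 2, 6, 5, 7, 11,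 10, 5, 4, 3, 2, 1, 6, 5, 4, 3, 10, 5, 11, 10]), (45677, [1, 2, 3, 4, 5, 6, 7, 8, 10, 5, 4, 3, 6, 5, 4, 7, 11, 10, 5, 4, 3, 2, 1, 0, 6, 5, 4, 3, 2, 10, 5]), (45682, [1, 2, 3, 4, 5, 6, 7, 8, 10, 5, 4, 3, 6, 5, 4, 7, 11, 10, 5, 4, 3, 2, 1, 0, 6, 5, 4, 3, 10, 5, 4]), (45683, [1, 2, 3, 4, 5, 6, 7, 8, 10, 5, 4, 3, 6, 5, 4, 7, 11, 10, 5, 4, 3, 2, 1, 0, 6, 5, 4, 3, 10, 5, 11]), (45693, [1, 2, 3, 4, 5, 6, 7, 8, 10, 5, 4, 3, 6, 5, 4, 7, 11, 10, 5, 4, 3, 2, 1, 6, 5, 4, 3, 2, 10, 5, 11]), (45700, [1, 2, 3, 4, 5, 6, 7, 8, 10, 5, 4, 3, 6, 5, 4, 7, 11, 10, 5, 4, 3, 2, 1, 6, 5, 4, 3, 10, 5, 4, 11]), (45702, [1, 2, 3, 4, 5, 6, 7, 8, 10, 5, 4, 3, 6, 5, 4, 7, 11, 10, 5, 4, 3, 2, 1, 6, 5, 4, 3, 10, 5, 6, 11]),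 (45703, [1, 2, 3, 4, 5, 6, 7, 8, 10, 5, 4, 3, 6, 5, 4, 7, 11, 10, 5, 4, 3, 2, 1, 6, 5, 4, 3, 10, 5, 11, 10]), (46567, [1, 0, 2, 1, 3, 2, 4, 5, 6, 7, 8, 9, 10, 5, 4, 6, 5, 7, 6, 8, 7, 10, 5, 4, 3, 6, 5, 4, 10, 5, 6, 7]), (46602, [1, 0, 2, 1, 3, 4, 5, 6, 7, 8, 9, 10, 5, 4, 3, 6, 5, 4, 7, 6, 5, 8, 11, 10, 5, 4, 3, 2, 6, 5, 4, 3]), (46627, [1, 0, 2, 1, 3, 4, 5, 6, 7, 8, 9, 10, 5, 4, 3, 6, 5, 4, 7, 6, 5, 11, 10, 5, 4, 3, 2, 6, 5, 4, 3, 10]), (46666, [1, 0, 2, 1, 3, 4, 5, 6, 7, 8, 9, 10, 5, 4, 3, 6, 5, 4, 7, 6, 8, 7, 11, 10, 5, 4, 6, 5, 7, 6, 8, 7]), (46959, [1, 0, 2, 1, 3, 4, 5, 6, 7, 8, 9, 10, 5, 4, 3, 6, 5, 7, 6, 8, 7, 10, 11, 10, 5, 4, 6, 5, 7, 6, 8, 7]), (46978, [1, 0, 2, 1, 3, 4, 5, 6, 7,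 8, 9, 10, 5, 4, 3, 6, 5, 7, 6, 8, 7, 11, 10, 5, 4, 6, 5, 7, 6, 8, 7, 9]), (46979, [1, 0, 2, 1, 3, 4, 5, 6, 7, 8, 9, 10, 5, 4, 3, 6, 5, 7, 6, 8, 7, 11, 10, 5, 4, 6, 5, 7, 6, 8, 7, 10]), (47439, [1, 0, 2, 1, 3, 4, 5, 6, 7, 8, 9, 10, 5, 4, 3, 6, 5, 11, 10, 5, 4, 6, 5, 7, 6, 8, 7, 10, 5, 4, 6, 5]), (47788, [1, 0, 2, 1, 3, 4, 5, 6, 7, 8, 10, 5, 4, 3, 6, 5, 4, 7, 6, 5, 11, 10, 5, 4, 3, 2, 6, 5, 4, 3, 10, 11]), (48096, [1, 0, 2, 3, 4, 5, 6, 7, 8, 9, 10, 5, 4, 3, 2, 6, 5, 7, 6, 11, 10, 5, 4, 3, 2, 1, 6, 5, 4, 3, 10, 5]), (48722, [1, 0, 2, 3, 4, 5, 6, 7, 8, 9, 10, 5, 4, 3, 6, 5, 4, 7, 6, 11, 10, 5, 4, 3, 2, 1, 6, 5, 4, 3, 10, 5]), (50241, [1, 0, 2, 3, 4, 5, 6, 7, 8, 9, 10, 5, 4, 3, 6, 5, 11, 10,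 5, 4, 6, 5, 7, 6, 10, 5, 4, 11, 10, 5, 6, 7]), (51152, [1, 0, 2, 3, 4, 5, 6, 7, 8, 10, 5, 4, 3, 2, 6, 5, 7, 6, 11, 10, 5, 4, 3, 2, 1, 6, 5, 4, 3, 10, 5, 11]), (51348, [1, 0, 2, 3, 4, 5, 6, 7, 8, 10, 5, 4, 3, 6, 5, 4, 7, 6, 5, 11, 10, 5, 4, 6, 5, 7, 6, 8, 7, 10, 5, 11]), (51363, [1, 0, 2, 3, 4, 5, 6, 7, 8, 10, 5, 4, 3, 6, 5, 4, 7, 6, 11, 10, 5, 4, 3, 2, 1, 6, 5, 4, 3, 10, 5, 11]), (52013, [1, 2, 3, 4, 5, 6, 7, 8, 9, 10, 5, 4, 3, 2, 1, 6, 5, 7, 6, 8, 7, 11, 10, 5, 4, 6, 5, 7, 6, 8, 7, 10]), (52203, [1, 2, 3, 4, 5, 6, 7, 8, 9, 10, 5, 4, 3, 2, 1, 6, 7, 8, 11, 10, 5, 4, 3, 2, 1, 0, 6, 5, 4, 3, 10, 5]), (52219, [1, 2, 3, 4, 5, 6, 7, 8, 9, 10, 5, 4, 3, 2, 1, 6, 7, 8, 11, 10, 5, 4, 3, 2, 1, 6, 5,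 4, 3, 2, 10, 5]), (52225, [1, 2, 3, 4, 5, 6, 7, 8, 9, 10, 5, 4, 3, 2, 1, 6, 7, 8, 11, 10, 5, 4, 3, 2, 1, 6, 5, 4, 3, 10, 5, 4]), (52226, [1, 2, 3, 4, 5, 6, 7, 8, 9, 10, 5, 4, 3, 2, 1, 6, 7, 8, 11, 10, 5, 4, 3, 2, 1, 6, 5, 4, 3, 10, 5, 6]), (52227, [1, 2, 3, 4, 5, 6, 7, 8, 9, 10, 5, 4, 3, 2, 1, 6, 7, 8, 11, 10, 5, 4, 3, 2, 1, 6, 5, 4, 3, 10, 5, 11]), (52318, [1, 2, 3, 4, 5, 6, 7, 8, 9, 10, 5, 4, 3, 2, 1, 6, 7, 11, 10, 5, 4, 3, 2, 1, 0, 6, 5, 4, 3, 10, 5, 4]), (52319, [1, 2, 3, 4, 5, 6, 7, 8, 9, 10, 5, 4, 3, 2, 1, 6, 7, 11, 10, 5, 4, 3, 2, 1, 0, 6, 5, 4, 3, 10, 5, 6]), (52320, [1, 2, 3, 4, 5, 6, 7, 8, 9, 10, 5, 4, 3, 2, 1, 6, 7, 11, 10, 5, 4, 3, 2, 1, 0, 6, 5, 4, 3, 10, 5, 11]), (52327, [1,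 2, 3, 4, 5, 6, 7, 8, 9, 10, 5, 4, 3, 2, 1, 6, 7, 11, 10, 5, 4, 3, 2, 1, 6, 5, 4, 3, 2, 10, 5, 11]), (52328, [1, 2, 3, 4, 5, 6, 7, 8, 9, 10, 5, 4, 3, 2, 1, 6, 7, 11, 10, 5, 4, 3, 2, 1, 6, 5, 4, 3, 10, 5, 4, 11]), (52329, [1, 2, 3, 4, 5, 6, 7, 8, 9, 10, 5, 4, 3, 2, 1, 6, 7, 11, 10, 5, 4, 3, 2, 1, 6, 5, 4, 3, 10, 5, 6, 11]), (52330, [1, 2, 3, 4, 5, 6, 7, 8, 9, 10, 5, 4, 3, 2, 1, 6, 7, 11, 10, 5, 4, 3, 2, 1, 6, 5, 4, 3, 10, 5, 11, 10]), (52519, [1, 2, 3, 4, 5, 6, 7, 8, 9, 10, 5, 4, 3, 2, 6, 5, 7, 8, 11, 10, 5, 4, 3, 2, 1, 0, 6, 5, 4, 3, 10, 5]), (52537, [1, 2, 3, 4, 5, 6, 7, 8, 9, 10, 5, 4, 3, 2, 6, 5, 7, 8, 11, 10, 5, 4, 3, 2, 1, 6, 5, 4, 3, 2, 10, 5]), (52545, [1, 2, 3, 4, 5, 6, 7, 8, 9, 10,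 5, 4, 3, 2, 6, 5, 7, 8, 11, 10, 5, 4, 3, 2, 1, 6, 5, 4, 3, 10, 5, 4]), (52546, [1, 2, 3, 4, 5, 6, 7, 8, 9, 10, 5, 4, 3, 2, 6, 5, 7, 8, 11, 10, 5, 4, 3, 2, 1, 6, 5, 4, 3, 10, 5, 6]), (52547, [1, 2, 3, 4, 5, 6, 7, 8, 9, 10, 5, 4, 3, 2, 6, 5, 7, 8, 11, 10, 5, 4, 3, 2, 1, 6, 5, 4, 3, 10, 5, 11]), (52659, [1, 2, 3, 4, 5, 6, 7, 8, 9, 10, 5, 4, 3, 2, 6, 5, 7, 11, 10, 5, 4, 3, 2, 1, 0, 6, 5, 4, 3, 2, 10, 5]), (52666, [1, 2, 3, 4, 5, 6, 7, 8, 9, 10, 5, 4, 3, 2, 6, 5, 7, 11, 10, 5, 4, 3, 2, 1, 0, 6, 5, 4, 3, 10, 5, 6]), (52667, [1, 2, 3, 4, 5, 6, 7, 8, 9, 10, 5, 4, 3, 2, 6, 5, 7, 11, 10, 5, 4, 3, 2, 1, 0, 6, 5, 4, 3, 10, 5, 11]), (52686, [1, 2, 3, 4, 5, 6, 7, 8, 9, 10, 5, 4, 3, 2, 6, 5, 7, 11, 10,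 5, 4, 3, 2, 1, 6, 5, 4, 3, 2, 10, 5, 11]), (52696, [1, 2, 3, 4, 5, 6, 7, 8, 9, 10, 5, 4, 3, 2, 6, 5, 7, 11, 10, 5, 4, 3, 2, 1, 6, 5, 4, 3, 10, 5, 4, 11]), (52698, [1, 2, 3, 4, 5, 6, 7, 8, 9, 10, 5, 4, 3, 2, 6, 5, 7, 11, 10, 5, 4, 3, 2, 1, 6, 5, 4, 3, 10, 5, 6, 11]), (52699, [1, 2, 3, 4, 5, 6, 7, 8, 9, 10, 5, 4, 3, 2, 6, 5, 7, 11, 10, 5, 4, 3, 2, 1, 6, 5, 4, 3, 10, 5, 11, 10]), (53364, [1, 2, 3, 4, 5, 6, 7, 8, 9, 10, 5, 4, 3, 6, 5, 4, 7, 8, 11, 10, 5, 4, 3, 2, 1, 0, 6, 5, 4, 3, 10, 5]), (53381, [1, 2, 3, 4, 5, 6, 7, 8, 9, 10, 5, 4, 3, 6, 5, 4, 7, 8, 11, 10, 5, 4, 3, 2, 1, 6, 5, 4, 3, 2, 10, 5]), (53389, [1, 2, 3, 4, 5, 6, 7, 8, 9, 10, 5, 4, 3, 6, 5, 4, 7, 8, 11, 10, 5, 4, 3, 2, 1, 6, 5, 4,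 3, 10, 5, 4]), (53390, [1, 2, 3, 4, 5, 6, 7, 8, 9, 10, 5, 4, 3, 6, 5, 4, 7, 8, 11, 10, 5, 4, 3, 2, 1, 6, 5, 4, 3, 10, 5, 6]), (53391, [1, 2, 3, 4, 5, 6, 7, 8, 9, 10, 5, 4, 3, 6, 5, 4, 7, 8, 11, 10, 5, 4, 3, 2, 1, 6, 5, 4, 3, 10, 5, 11]), (53538, [1, 2, 3, 4, 5, 6, 7, 8, 9, 10, 5, 4, 3, 6, 5, 4, 7, 11, 10, 5, 4, 3, 2, 1, 0, 6, 5, 4, 3, 2, 10, 5])]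

def pathList3 : List (ℕ × List ℕ) := [(3, [12, 5]), (0, [11]), (0, [2, 10, 13]), (0, [13, 1]), (3, [12, 10]), (3, [8, 6]), (2, [10]), (1, [3, 7]), (0, [11, 3, 13]), (0, [5, 11, 3, 4]), (0, [8, 1, 4]), (1, [12, 6, 4]), (0, [13, 2, 4]), (0, [8, 10]), (0, [9, 1, 4]), (2, [4, 8, 1]), (0, [7, 3]), (0, [9, 7, 5]), (0, [5, 3, 7]), (7, [9, 11, 5]), (3, [5, 9, 2]), (2, [9, 11]), (1, [6, 4, 10]), (8, [10, 12, 1]), (2, [4, 7, 3]), (0, [2, 9, 13]), (1, [7, 5]), (0, [8, 11, 5]), (0, [5, 10, 6]), (0, [7, 1, 11, 13]), (0, [5, 7, 6]), (1, [3, 7, 0]), (0, [5, 8, 6]), (0, [7, 8, 11]), (1, [10, 8, 13]), (1, [7, 5, 9]), (2, []), (5, [9, 11]), (0, [7, 5, 12]), (1, [6, 4, 8]), (3, [9, 10]), (1, [3, 5]), (0,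 [2, 4, 6]), (0, [11, 4, 10]), (0, [13, 1, 4]), (0, [7, 1, 5]), (7, [9, 12, 5]), (0, [2, 12, 7]), (0, [2, 5, 9]), (3, [11, 12]), (0, [2, 13]), (1, [9]), (3, [8, 11]), (2, [4]), (0, [9, 4, 8]), (0, [9, 3, 10, 6]), (2, [9, 11, 13]), (0, [7, 3, 6]), (12, []), (0, [9, 7, 1]), (0, [11, 5, 3]), (0, [2, 4, 11]), (2, [9])]

def ptsList4 : List (ℕ × List ℕ) := [(53545, [1, 2, 3, 4, 5, 6, 7, 8, 9, 10, 5, 4, 3, 6, 5, 4, 7, 11, 10, 5, 4, 3, 2, 1, 0, 6, 5, 4, 3, 10, 5, 4]), (53546, [1, 2, 3, 4, 5, 6, 7, 8, 9, 10, 5, 4, 3, 6, 5, 4, 7, 11, 10, 5, 4, 3, 2, 1, 0, 6, 5, 4, 3, 10, 5, 11]), (53564, [1, 2, 3, 4, 5, 6, 7, 8, 9, 10, 5, 4, 3, 6, 5, 4, 7, 11, 10, 5, 4, 3, 2, 1, 6, 5, 4, 3, 2, 10, 5, 11]), (53576,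 [1, 2, 3, 4, 5, 6, 7, 8, 9, 10, 5, 4, 3, 6, 5, 4, 7, 11, 10, 5, 4, 3, 2, 1, 6, 5, 4, 3, 10, 5, 4, 11]), (53578, [1, 2, 3, 4, 5, 6, 7, 8, 9, 10, 5, 4, 3, 6, 5, 4, 7, 11, 10, 5, 4, 3, 2, 1, 6, 5, 4, 3, 10, 5, 6, 11]), (53579, [1, 2, 3, 4, 5, 6, 7, 8, 9, 10, 5, 4, 3, 6, 5, 4, 7, 11, 10, 5, 4, 3, 2, 1, 6, 5, 4, 3, 10, 5, 11, 10]), (57163, [1, 2, 3, 4, 5, 6, 7, 8, 10, 5, 4, 3, 2, 1, 6, 7, 11, 10, 5, 4, 3, 2, 1, 0, 6, 5, 4, 3, 10, 5, 4, 11]), (57164, [1, 2, 3, 4, 5, 6, 7, 8, 10, 5, 4, 3, 2, 1, 6, 7, 11, 10, 5, 4, 3, 2, 1, 0, 6, 5, 4, 3, 10, 5, 6, 11]), (57165, [1, 2, 3, 4, 5, 6, 7, 8, 10, 5, 4, 3, 2, 1, 6, 7, 11, 10, 5, 4, 3, 2, 1, 0, 6, 5, 4, 3, 10, 5, 11, 10]), (57169, [1, 2, 3, 4, 5, 6, 7,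 8, 10, 5, 4, 3, 2, 1, 6, 7, 11, 10, 5, 4, 3, 2, 1, 6, 5, 4, 3, 2, 10, 5, 11, 10]), (57170, [1, 2, 3, 4, 5, 6, 7, 8, 10, 5, 4, 3, 2, 1, 6, 7, 11, 10, 5, 4, 3, 2, 1, 6, 5, 4, 3, 10, 5, 4, 11, 10]), (57171, [1, 2, 3, 4, 5, 6, 7, 8, 10, 5, 4, 3, 2, 1, 6, 7, 11, 10, 5, 4, 3, 2, 1, 6, 5, 4, 3, 10, 5, 6, 11, 10]), (57176, [1, 2, 3, 4, 5, 6, 7, 8, 10, 5, 4, 3, 2, 1, 6, 7, 11, 10, 5, 4, 3, 2, 6, 5, 4, 3, 10, 5, 4, 11, 10, 5]), (57178, [1, 2, 3, 4, 5, 6, 7, 8, 10, 5, 4, 3, 2, 1, 6, 7, 11, 10, 5, 4, 3, 2, 6, 5, 4, 3, 10, 5, 6, 11, 10, 5]), (57234, [1, 2, 3, 4, 5, 6, 7, 8, 10, 5, 4, 3, 2, 6, 5, 7, 11, 10, 5, 4, 3, 2, 1, 0, 6, 5, 4, 3, 2, 10, 5, 11]), (57240, [1, 2, 3, 4, 5, 6, 7, 8, 10, 5, 4, 3, 2,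 6, 5, 7, 11, 10, 5, 4, 3, 2, 1, 0, 6, 5, 4, 3, 10, 5, 6, 11]), (57241, [1, 2, 3, 4, 5, 6, 7, 8, 10, 5, 4, 3, 2, 6, 5, 7, 11, 10, 5, 4, 3, 2, 1, 0, 6, 5, 4, 3, 10, 5, 11, 10]), (57254, [1, 2, 3, 4, 5, 6, 7, 8, 10, 5, 4, 3, 2, 6, 5, 7, 11, 10, 5, 4, 3, 2, 1, 6, 5, 4, 3, 2, 10, 5, 11, 10]), (57263, [1, 2, 3, 4, 5, 6, 7, 8, 10, 5, 4, 3, 2, 6, 5, 7, 11, 10, 5, 4, 3, 2, 1, 6, 5, 4, 3, 10, 5, 4, 11, 10]), (57266, [1, 2, 3, 4, 5, 6, 7, 8, 10, 5, 4, 3, 2, 6, 5, 7, 11, 10, 5, 4, 3, 2, 1, 6, 5, 4, 3, 10, 5, 6, 11, 10]), (57295, [1, 2, 3, 4, 5, 6, 7, 8, 10, 5, 4, 3, 2, 6, 5, 7, 11, 10, 5, 4, 3, 2, 6, 5, 4, 3, 10, 5, 4, 11, 10, 5]), (57501, [1, 2, 3, 4, 5, 6, 7, 8, 10, 5, 4, 3, 6, 5, 4, 7, 11, 10, 5,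 4, 3, 2, 1, 0, 6, 5, 4, 3, 2, 10, 5, 11]), (57507, [1, 2, 3, 4, 5, 6, 7, 8, 10, 5, 4, 3, 6, 5, 4, 7, 11, 10, 5, 4, 3, 2, 1, 0, 6, 5, 4, 3, 10, 5, 4, 11]), (57508, [1, 2, 3, 4, 5, 6, 7, 8, 10, 5, 4, 3, 6, 5, 4, 7, 11, 10, 5, 4, 3, 2, 1, 0, 6, 5, 4, 3, 10, 5, 11, 10]), (57518, [1, 2, 3, 4, 5, 6, 7, 8, 10, 5, 4, 3, 6, 5, 4, 7, 11, 10, 5, 4, 3, 2, 1, 6, 5, 4, 3, 2, 10, 5, 11, 10]), (57529, [1, 2, 3, 4, 5, 6, 7, 8, 10, 5, 4, 3, 6, 5, 4, 7, 11, 10, 5, 4, 3, 2, 1, 6, 5, 4, 3, 10, 5, 4, 11, 10]), (58400, [1, 0, 2, 1, 3, 2, 4, 5, 6, 7, 8, 9, 10, 5, 4, 6, 5, 7, 6, 8, 7, 10, 5, 4, 3, 6, 5, 4, 10, 5, 6, 7, 8]), (58423, [1, 0, 2, 1, 3, 4, 5, 6, 7, 8, 9, 10, 5, 4, 3, 6, 5, 4, 7, 6, 5, 8, 11, 10, 5, 4,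 3, 2, 6, 5, 4, 3, 10]), (58458, [1, 0, 2, 1, 3, 4, 5, 6, 7, 8, 9, 10, 5, 4, 3, 6, 5, 4, 7, 6, 5, 11, 10, 5, 4, 3, 2, 6, 5, 4, 3, 10, 11]), (58501, [1, 0, 2, 1, 3, 4, 5, 6, 7, 8, 9, 10, 5, 4, 3, 6, 5, 4, 7, 6, 8, 7, 11, 10, 5, 4, 6, 5, 7, 6, 8, 7, 9]), (58502, [1, 0, 2, 1, 3, 4, 5, 6, 7, 8, 9, 10, 5, 4, 3, 6, 5, 4, 7, 6, 8, 7, 11, 10, 5, 4, 6, 5, 7, 6, 8, 7, 10]), (58855, [1, 0, 2, 1, 3, 4, 5, 6, 7, 8, 9, 10, 5, 4, 3, 6, 5, 4, 11, 10, 5, 4, 6, 5, 7, 6, 8, 7, 10, 5, 4, 6, 5]), (58880, [1, 0, 2, 1, 3, 4, 5, 6, 7, 8, 9, 10, 5, 4, 3, 6, 5, 7, 6, 8, 7, 10, 11, 10, 5, 4, 6, 5, 7, 6, 8, 7, 9]), (58881, [1, 0, 2, 1, 3, 4, 5, 6, 7, 8, 9, 10, 5, 4, 3, 6, 5, 7, 6, 8, 7, 10, 11, 10, 5, 4, 6, 5, 7, 6,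 8, 7, 10]), (58900, [1, 0, 2, 1, 3, 4, 5, 6, 7, 8, 9, 10, 5, 4, 3, 6, 5, 7, 6, 8, 7, 11, 10, 5, 4, 6, 5, 7, 6, 8, 7, 9, 8]), (58901, [1, 0, 2, 1, 3, 4, 5, 6, 7, 8, 9, 10, 5, 4, 3, 6, 5, 7, 6, 8, 7, 11, 10, 5, 4, 6, 5, 7, 6, 8, 7, 9, 10]), (58903, [1, 0, 2, 1, 3, 4, 5, 6, 7, 8, 9, 10, 5, 4, 3, 6, 5, 7, 6, 8, 7, 11, 10, 5, 4, 6, 5, 7, 6, 8, 7, 10, 11]), (59463, [1, 0, 2, 1, 3, 4, 5, 6, 7, 8, 9, 10, 5, 4, 3, 6, 5, 11, 10, 5, 4, 6, 5, 7, 6, 8, 7, 10, 5, 4, 6, 5, 10]), (60042, [1, 0, 2, 3, 4, 5, 6, 7, 8, 9, 10, 5, 4, 3, 2, 6, 5, 7, 6, 8, 11, 10, 5, 4, 3, 2, 1, 6, 5, 4, 3, 10, 5]), (60127, [1, 0, 2, 3, 4, 5, 6, 7, 8, 9, 10, 5, 4, 3, 2, 6, 5, 7, 6, 11, 10, 5, 4, 3, 2, 1, 6, 5, 4, 3, 10, 5, 11]),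 (60861, [1, 0, 2, 3, 4, 5, 6, 7, 8, 9, 10, 5, 4, 3, 6, 5, 4, 7, 6, 8, 11, 10, 5, 4, 3, 2, 1, 6, 5, 4, 3, 10, 5]), (60970, [1, 0, 2, 3, 4, 5, 6, 7, 8, 9, 10, 5, 4, 3, 6, 5, 4, 7, 6, 11, 10, 5, 4, 3, 2, 1, 6, 5, 4, 3, 10, 5, 11]), (62867, [1, 0, 2, 3, 4, 5, 6, 7, 8, 9, 10, 5, 4, 3, 6, 5, 7, 11, 10, 5, 4, 3, 6, 5, 4, 10, 5, 6, 11, 10, 5, 4, 3]), (62985, [1, 0, 2, 3, 4, 5, 6, 7, 8, 9, 10, 5, 4, 3, 6, 5, 11, 10, 5, 4, 6, 5, 7, 6, 10, 5, 4, 11, 10, 5, 6, 7, 8]), (63977, [1, 0, 2, 3, 4, 5, 6, 7, 8, 10, 5, 4, 3, 2, 6, 5, 7, 6, 11, 10, 5, 4, 3, 2, 1, 6, 5, 4, 3, 10, 5, 11, 10]), (64096, [1, 0, 2, 3, 4, 5, 6, 7, 8, 10, 5, 4, 3, 2, 6, 5, 7, 11, 10, 5, 4, 3, 2, 6, 5, 4, 3, 10, 5, 6, 11, 10, 5]), (64124,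 [1, 0, 2, 3, 4, 5, 6, 7, 8, 10, 5, 4, 3, 2, 6, 5, 7, 11, 10, 5, 4, 3, 6, 5, 4, 10, 5, 6, 11, 10, 5, 4, 3]), (64200, [1, 0, 2, 3, 4, 5, 6, 7, 8, 10, 5, 4, 3, 6, 5, 4, 7, 6, 5, 11, 10, 5, 4, 6, 5, 7, 6, 8, 7, 10, 5, 11, 10]), (64218, [1, 0, 2, 3, 4, 5, 6, 7, 8, 10, 5, 4, 3, 6, 5, 4, 7, 6, 11, 10, 5, 4, 3, 2, 1, 6, 5, 4, 3, 10, 5, 11, 10]), (64390, [1, 0, 2, 3, 4, 5, 6, 7, 8, 10, 5, 4, 3, 6, 5, 4, 7, 11, 10, 5, 4, 3, 2, 6, 5, 4, 3, 10, 5, 4, 11, 10, 5]), (64872, [1, 2, 3, 4, 5, 6, 7, 8, 9, 10, 5, 4, 3, 2, 1, 6, 5, 7, 6, 8, 7, 11, 10, 5, 4, 6, 5, 7, 6, 8, 7, 10, 11]), (65109, [1, 2, 3, 4, 5, 6, 7, 8, 9, 10, 5, 4, 3, 2, 1, 6, 7, 8, 11, 10, 5, 4, 3, 2, 1, 0, 6, 5, 4, 3, 10, 5, 4]), (65110, [1,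 2, 3, 4, 5, 6, 7, 8, 9, 10, 5, 4, 3, 2, 1, 6, 7, 8, 11, 10, 5, 4, 3, 2, 1, 0, 6, 5, 4, 3, 10, 5, 6]), (65111, [1, 2, 3, 4, 5, 6, 7, 8, 9, 10, 5, 4, 3, 2, 1, 6, 7, 8, 11, 10, 5, 4, 3, 2, 1, 0, 6, 5, 4, 3, 10, 5, 11]), (65130, [1, 2, 3, 4, 5, 6, 7, 8, 9, 10, 5, 4, 3, 2, 1, 6, 7, 8, 11, 10, 5, 4, 3, 2, 1, 6, 5, 4, 3, 2, 10, 5, 11]), (65136, [1, 2, 3, 4, 5, 6, 7, 8, 9, 10, 5, 4, 3, 2, 1, 6, 7, 8, 11, 10, 5, 4, 3, 2, 1, 6, 5, 4, 3, 10, 5, 4, 11]), (65138, [1, 2, 3, 4, 5, 6, 7, 8, 9, 10, 5, 4, 3, 2, 1, 6, 7, 8, 11, 10, 5, 4, 3, 2, 1, 6, 5, 4, 3, 10, 5, 6, 11]), (65139, [1, 2, 3, 4, 5, 6, 7, 8, 9, 10, 5, 4, 3, 2, 1, 6, 7, 8, 11, 10, 5, 4, 3, 2, 1, 6, 5, 4, 3, 10, 5, 11, 10]), (65265, [1, 2, 3,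 4, 5, 6, 7, 8, 9, 10, 5, 4, 3, 2, 1, 6, 7, 11, 10, 5, 4, 3, 2, 1, 0, 6, 5, 4, 3, 10, 5, 4, 11]), (65266, [1, 2, 3, 4, 5, 6, 7, 8, 9, 10, 5, 4, 3, 2, 1, 6, 7, 11, 10, 5, 4, 3, 2, 1, 0, 6, 5, 4, 3, 10, 5, 6, 11]), (65267, [1, 2, 3, 4, 5, 6, 7, 8, 9, 10, 5, 4, 3, 2, 1, 6, 7, 11, 10, 5, 4, 3, 2, 1, 0, 6, 5, 4, 3, 10, 5, 11, 10]), (65273, [1, 2, 3, 4, 5, 6, 7, 8, 9, 10, 5, 4, 3, 2, 1, 6, 7, 11, 10, 5, 4, 3, 2, 1, 6, 5, 4, 3, 2, 10, 5, 11, 10]), (65274, [1, 2, 3, 4, 5, 6, 7, 8, 9, 10, 5, 4, 3, 2, 1, 6, 7, 11, 10, 5, 4, 3, 2, 1, 6, 5, 4, 3, 10, 5, 4, 11, 10])]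

def pathList4 : List (ℕ × List ℕ) := [(0, [2, 4, 8]), (0, [5, 11]), (0, [8, 4, 10]), (0, [12, 3]), (6, [7]), (2, [10, 11, 12]), (3, [12, 5, 0]), (11, []), (0, [5, 11, 4]), (0, [9, 4, 13]), (0, [9, 1, 10]), (3, [11, 13]), (3, [5, 8]), (0, [5, 7, 9]), (0, [2, 10]), (0, [12, 3, 9]), (2, [13, 5, 8]), (3, [5, 9]), (4, [12]), (1, [10, 5]), (2, [11, 9]), (8, [10]), (1, [9, 4]), (3, [7]), (0, [12, 6]), (6, [8, 1]), (1, [10, 3]), (1, [7, 8]), (5, [12]), (0, [8, 6, 9]), (10, []), (1, [3, 7, 2]), (2, [4, 6, 13]), (1, [7, 3, 9]), (0, [2, 10, 8]), (4, [11, 13]), (2, [8, 4, 6]), (0, [2, 9, 4, 12]), (0, [5, 11, 3]), (0, [7, 6]), (1, [6, 11]), (0, [7, 11, 9]), (0, [5, 3, 1]), (0, [8, 11, 5, 13]), (0, [9,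 2, 11]), (1, [6, 8, 4]), (1, [9, 10]), (3, [9, 5]), (0, [12, 4]), (6, [12]), (0, [11, 12, 10]), (1, [9, 13]), (0, [2]), (0, [11, 4, 12]), (3, [9, 12]), (1, [8]), (0, [13, 4]), (0, [11, 4, 10, 1]), (2, [4, 6]), (4, [10, 11]), (1, [13, 4]), (0, [8]), (1, [6, 12])]

def ptsList5 : List (ℕ × List ℕ) := [(65275, [1, 2, 3, 4, 5, 6, 7, 8, 9, 10, 5, 4, 3, 2, 1, 6, 7, 11, 10, 5, 4, 3, 2, 1, 6, 5, 4, 3, 10, 5, 6, 11, 10]), (65284, [1, 2, 3, 4, 5, 6, 7, 8, 9, 10, 5, 4, 3, 2, 1, 6, 7, 11, 10, 5, 4, 3, 2, 6, 5, 4, 3, 10, 5, 4, 11, 10, 5]), (65287, [1, 2, 3, 4, 5, 6, 7, 8, 9, 10, 5, 4, 3, 2, 1, 6, 7, 11, 10, 5, 4, 3, 2, 6, 5, 4, 3, 10, 5, 6, 11, 10, 5]), (65506, [1, 2, 3, 4, 5, 6, 7, 8, 9, 10, 5, 4, 3,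 2, 6, 5, 7, 8, 11, 10, 5, 4, 3, 2, 1, 0, 6, 5, 4, 3, 2, 10, 5]), (65514, [1, 2, 3, 4, 5, 6, 7, 8, 9, 10, 5, 4, 3, 2, 6, 5, 7, 8, 11, 10, 5, 4, 3, 2, 1, 0, 6, 5, 4, 3, 10, 5, 6]), (65515, [1, 2, 3, 4, 5, 6, 7, 8, 9, 10, 5, 4, 3, 2, 6, 5, 7, 8, 11, 10, 5, 4, 3, 2, 1, 0, 6, 5, 4, 3, 10, 5, 11]), (65540, [1, 2, 3, 4, 5, 6, 7, 8, 9, 10, 5, 4, 3, 2, 6, 5, 7, 8, 11, 10, 5, 4, 3, 2, 1, 6, 5, 4, 3, 2, 10, 5, 11]), (65553, [1, 2, 3, 4, 5, 6, 7, 8, 9, 10, 5, 4, 3, 2, 6, 5, 7, 8, 11, 10, 5, 4, 3, 2, 1, 6, 5, 4, 3, 10, 5, 4, 11]), (65555, [1, 2, 3, 4, 5, 6, 7, 8, 9, 10, 5, 4, 3, 2, 6, 5, 7, 8, 11, 10, 5, 4, 3, 2, 1, 6, 5, 4, 3, 10, 5, 6, 11]), (65556, [1, 2, 3, 4, 5, 6, 7, 8, 9, 10, 5, 4, 3, 2, 6, 5,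 7, 8, 11, 10, 5, 4, 3, 2, 1, 6, 5, 4, 3, 10, 5, 11, 10]), (65716, [1, 2, 3, 4, 5, 6, 7, 8, 9, 10, 5, 4, 3, 2, 6, 5, 7, 11, 10, 5, 4, 3, 2, 1, 0, 6, 5, 4, 3, 2, 10, 5, 11]), (65726, [1, 2, 3, 4, 5, 6, 7, 8, 9, 10, 5, 4, 3, 2, 6, 5, 7, 11, 10, 5, 4, 3, 2, 1, 0, 6, 5, 4, 3, 10, 5, 6, 11]), (65727, [1, 2, 3, 4, 5, 6, 7, 8, 9, 10, 5, 4, 3, 2, 6, 5, 7, 11, 10, 5, 4, 3, 2, 1, 0, 6, 5, 4, 3, 10, 5, 11, 10]), (65750, [1, 2, 3, 4, 5, 6, 7, 8, 9, 10, 5, 4, 3, 2, 6, 5, 7, 11, 10, 5, 4, 3, 2, 1, 6, 5, 4, 3, 2, 10, 5, 11, 10]), (65765, [1, 2, 3, 4, 5, 6, 7, 8, 9, 10, 5, 4, 3, 2, 6, 5, 7, 11, 10, 5, 4, 3, 2, 1, 6, 5, 4, 3, 10, 5, 4, 11, 10]), (65768, [1, 2, 3, 4, 5, 6, 7, 8, 9, 10, 5, 4, 3, 2, 6, 5, 7,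 11, 10, 5, 4, 3, 2, 1, 6, 5, 4, 3, 10, 5, 6, 11, 10]), (65821, [1, 2, 3, 4, 5, 6, 7, 8, 9, 10, 5, 4, 3, 2, 6, 5, 7, 11, 10, 5, 4, 3, 2, 6, 5, 4, 3, 10, 5, 4, 11, 10, 5]), (66619, [1, 2, 3, 4, 5, 6, 7, 8, 9, 10, 5, 4, 3, 6, 5, 4, 7, 8, 11, 10, 5, 4, 3, 2, 1, 0, 6, 5, 4, 3, 2, 10, 5]), (66627, [1, 2, 3, 4, 5, 6, 7, 8, 9, 10, 5, 4, 3, 6, 5, 4, 7, 8, 11, 10, 5, 4, 3, 2, 1, 0, 6, 5, 4, 3, 10, 5, 4]), (66628, [1, 2, 3, 4, 5, 6, 7, 8, 9, 10, 5, 4, 3, 6, 5, 4, 7, 8, 11, 10, 5, 4, 3, 2, 1, 0, 6, 5, 4, 3, 10, 5, 11]), (66651, [1, 2, 3, 4, 5, 6, 7, 8, 9, 10, 5, 4, 3, 6, 5, 4, 7, 8, 11, 10, 5, 4, 3, 2, 1, 6, 5, 4, 3, 2, 10, 5, 11]), (66664, [1, 2, 3, 4, 5, 6, 7, 8, 9, 10, 5, 4, 3, 6, 5, 4, 7, 8, 11,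 10, 5, 4, 3, 2, 1, 6, 5, 4, 3, 10, 5, 4, 11]), (66666, [1, 2, 3, 4, 5, 6, 7, 8, 9, 10, 5, 4, 3, 6, 5, 4, 7, 8, 11, 10, 5, 4, 3, 2, 1, 6, 5, 4, 3, 10, 5, 6, 11]), (66667, [1, 2, 3, 4, 5, 6, 7, 8, 9, 10, 5, 4, 3, 6, 5, 4, 7, 8, 11, 10, 5, 4, 3, 2, 1, 6, 5, 4, 3, 10, 5, 11, 10]), (66881, [1, 2, 3, 4, 5, 6, 7, 8, 9, 10, 5, 4, 3, 6, 5, 4, 7, 11, 10, 5, 4, 3, 2, 1, 0, 6, 5, 4, 3, 2, 10, 5, 11]), (66891, [1, 2, 3, 4, 5, 6, 7, 8, 9, 10, 5, 4, 3, 6, 5, 4, 7, 11, 10, 5, 4, 3, 2, 1, 0, 6, 5, 4, 3, 10, 5, 4, 11]), (66892, [1, 2, 3, 4, 5, 6, 7, 8, 9, 10, 5, 4, 3, 6, 5, 4, 7, 11, 10, 5, 4, 3, 2, 1, 0, 6, 5, 4, 3, 10, 5, 11, 10]), (66913, [1, 2, 3, 4, 5, 6, 7, 8, 9, 10, 5, 4, 3, 6, 5, 4, 7, 11, 10, 5,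 4, 3, 2, 1, 6, 5, 4, 3, 2, 10, 5, 11, 10]), (66932, [1, 2, 3, 4, 5, 6, 7, 8, 9, 10, 5, 4, 3, 6, 5, 4, 7, 11, 10, 5, 4, 3, 2, 1, 6, 5, 4, 3, 10, 5, 4, 11, 10]), (68987, [1, 2, 3, 4, 5, 6, 7, 8, 9, 10, 5, 4, 3, 6, 5, 7, 8, 11, 10, 5, 4, 6, 5, 7, 6, 10, 5, 4, 11, 10, 5, 6, 7]), (71273, [1, 2, 3, 4, 5, 6, 7, 8, 10, 5, 4, 3, 2, 1, 6, 7, 11, 10, 5, 4, 3, 2, 1, 0, 6, 5, 4, 3, 10, 5, 6, 11, 10]), (71303, [1, 2, 3, 4, 5, 6, 7, 8, 10, 5, 4, 3, 2, 6, 5, 7, 6, 11, 10, 5, 4, 3, 2, 6, 5, 4, 3, 10, 5, 4, 11, 10, 5]), (71341, [1, 2, 3, 4, 5, 6, 7, 8, 10, 5, 4, 3, 2, 6, 5, 7, 11, 10, 5, 4, 3, 2, 1, 0, 6, 5, 4, 3, 10, 5, 6, 11, 10]), (72450, [1, 0, 2, 1, 3, 2, 4, 5, 6, 7, 8, 9, 10, 5, 4, 6, 5, 7, 6, 8, 7,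 10, 5, 4, 3, 6, 5, 4, 10, 5, 6, 7, 8, 9]), (72465, [1, 0, 2, 1, 3, 4, 5, 6, 7, 8, 9, 10, 5, 4, 3, 6, 5, 4, 7, 6, 5, 8, 11, 10, 5, 4, 3, 2, 6, 5, 4, 3, 10, 11]), (72546, [1, 0, 2, 1, 3, 4, 5, 6, 7, 8, 9, 10, 5, 4, 3, 6, 5, 4, 7, 6, 8, 7, 11, 10, 5, 4, 6, 5, 7, 6, 8, 7, 9, 8]), (72547, [1, 0, 2, 1, 3, 4, 5, 6, 7, 8, 9, 10, 5, 4, 3, 6, 5, 4, 7, 6, 8, 7, 11, 10, 5, 4, 6, 5, 7, 6, 8, 7, 9, 10]), (72549, [1, 0, 2, 1, 3, 4, 5, 6, 7, 8, 9, 10, 5, 4, 3, 6, 5, 4, 7, 6, 8, 7, 11, 10, 5, 4, 6, 5, 7, 6, 8, 7, 10, 11]), (72993, [1, 0, 2, 1, 3, 4, 5, 6, 7, 8, 9, 10, 5, 4, 3, 6, 5, 4, 11, 10, 5, 4, 6, 5, 7, 6, 8, 7, 9, 10, 5, 4, 6, 5]), (72996, [1, 0, 2, 1, 3, 4, 5, 6, 7, 8, 9, 10, 5, 4, 3, 6, 5, 4, 11,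 10, 5, 4, 6, 5, 7, 6, 8, 7, 10, 5, 4, 6, 5, 10]), (73020, [1, 0, 2, 1, 3, 4, 5, 6, 7, 8, 9, 10, 5, 4, 3, 6, 5, 7, 6, 8, 7, 10, 11, 10, 5, 4, 6, 5, 7, 6, 8, 7, 9, 10]), (73022, [1, 0, 2, 1, 3, 4, 5, 6, 7, 8, 9, 10, 5, 4, 3, 6, 5, 7, 6, 8, 7, 10, 11, 10, 5, 4, 6, 5, 7, 6, 8, 7, 10, 11]), (73042, [1, 0, 2, 1, 3, 4, 5, 6, 7, 8, 9, 10, 5, 4, 3, 6, 5, 7, 6, 8, 7, 11, 10, 5, 4, 6, 5, 7, 6, 8, 7, 9, 8, 10]), (73044, [1, 0, 2, 1, 3, 4, 5, 6, 7, 8, 9, 10, 5, 4, 3, 6, 5, 7, 6, 8, 7, 11, 10, 5, 4, 6, 5, 7, 6, 8, 7, 9, 10, 11]), (73725, [1, 0, 2, 1, 3, 4, 5, 6, 7, 8, 9, 10, 5, 4, 3, 6, 5, 11, 10, 5, 4, 6, 5, 7, 6, 8, 7, 10, 5, 4, 6, 5, 10, 11]), (73894, [1, 0, 2, 1, 3, 4, 5, 6, 7, 8, 9, 10, 5, 4, 3,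 6, 7, 8, 11, 10, 5, 4, 6, 5, 7, 6, 10, 5, 4, 11, 10, 5, 6, 7]), (74263, [1, 0, 2, 3, 4, 5, 6, 7, 8, 9, 10, 5, 4, 3, 2, 6, 5, 7, 6, 8, 11, 10, 5, 4, 3, 2, 1, 6, 5, 4, 3, 10, 5, 11]), (74387, [1, 0, 2, 3, 4, 5, 6, 7, 8, 9, 10, 5, 4, 3, 2, 6, 5, 7, 6, 11, 10, 5, 4, 3, 2, 1, 6, 5, 4, 3, 10, 5, 11, 10]), (74814, [1, 0, 2, 3, 4, 5, 6, 7, 8, 9, 10, 5, 4, 3, 2, 6, 5, 7, 11, 10, 5, 4, 3, 2, 6, 5, 4, 3, 10, 5, 6, 11, 10, 5]), (74873, [1, 0, 2, 3, 4, 5, 6, 7, 8, 9, 10, 5, 4, 3, 2, 6, 5, 7, 11, 10, 5, 4, 3, 6, 5, 4, 10, 5, 6, 11, 10, 5, 4, 3]), (75321, [1, 0, 2, 3, 4, 5, 6, 7, 8, 9, 10, 5, 4, 3, 6, 5, 4, 7, 6, 8, 11, 10, 5, 4, 3, 2, 1, 6, 5, 4, 3, 10, 5, 11]), (75479, [1, 0, 2, 3, 4, 5, 6, 7, 8, 9,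 10, 5, 4, 3, 6, 5, 4, 7, 6, 11, 10, 5, 4, 3, 2, 1, 6, 5, 4, 3, 10, 5, 11, 10]), (76045, [1, 0, 2, 3, 4, 5, 6, 7, 8, 9, 10, 5, 4, 3, 6, 5, 4, 7, 11, 10, 5, 4, 3, 2, 6, 5, 4, 3, 10, 5, 4, 11, 10, 5]), (76189, [1, 0, 2, 3, 4, 5, 6, 7, 8, 9, 10, 5, 4, 3, 6, 5, 4, 7, 11, 10, 5, 4, 3, 6, 5, 4, 10, 5, 6, 11, 10, 5, 4, 3]), (77548, [1, 0, 2, 3, 4, 5, 6, 7, 8, 9, 10, 5, 4, 3, 6, 5, 7, 8, 11, 10, 5, 4, 3, 6, 5, 4, 10, 5, 6, 11, 10, 5, 4, 3]), (77598, [1, 0, 2, 3, 4, 5, 6, 7, 8, 9, 10, 5, 4, 3, 6, 5, 7, 8, 11, 10, 5, 4, 6, 5, 7, 6, 10, 5, 4, 11, 10, 5, 6, 7]), (80294, [1, 2, 3, 4, 5, 6, 7, 8, 9, 10, 5, 4, 3, 2, 1, 6, 7, 8, 11, 10, 5, 4, 3, 2, 1, 0, 6, 5, 4, 3, 10, 5, 4, 11]), (80296, [1, 2, 3, 4, 5,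 6, 7, 8, 9, 10, 5, 4, 3, 2, 1, 6, 7, 8, 11, 10, 5, 4, 3, 2, 1, 0, 6, 5, 4, 3, 10, 5, 6, 11]), (80297, [1, 2, 3, 4, 5, 6, 7, 8, 9, 10, 5, 4, 3, 2, 1, 6, 7, 8, 11, 10, 5, 4, 3, 2, 1, 0, 6, 5, 4, 3, 10, 5, 11, 10]), (80319, [1, 2, 3, 4, 5, 6, 7, 8, 9, 10, 5, 4, 3, 2, 1, 6, 7, 8, 11, 10, 5, 4, 3, 2, 1, 6, 5, 4, 3, 2, 10, 5, 11, 10]), (80322, [1, 2, 3, 4, 5, 6, 7, 8, 9, 10, 5, 4, 3, 2, 1, 6, 7, 8, 11, 10, 5, 4, 3, 2, 1, 6, 5, 4, 3, 10, 5, 6, 11, 10]), (80360, [1, 2, 3, 4, 5, 6, 7, 8, 9, 10, 5, 4, 3, 2, 1, 6, 7, 8, 11, 10, 5, 4, 3, 2, 6, 5, 4, 3, 10, 5, 6, 11, 10, 5]), (80436, [1, 2, 3, 4, 5, 6, 7, 8, 9, 10, 5, 4, 3, 2, 1, 6, 7, 11, 10, 5, 4, 3, 2, 1, 0, 6, 5, 4, 3, 10, 5, 6, 11, 10])]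

def pathList5 : List (ℕ × List ℕ) := [(0, [2, 9, 4]), (5, [9]), (0, [12, 13]), (0, [8, 11, 12]), (1, [8, 10, 5]), (3, [7, 10]), (5, [11]), (0, [5, 3, 12]), (2, [13, 6]), (0, [9, 3]), (0, [2, 4]), (1, [7, 5, 8]), (0, [9, 2, 12, 3]), (3, [11, 6]), (10, [12]), (0, [5, 7, 3]), (0, [9, 3, 5]), (0, [12]), (1, [6, 8]), (0, [11, 4, 2]), (7, [9, 11]), (2, [9, 3]), (1, [8, 2, 12]), (0, [13, 6]), (4, [8, 10]), (3, [12]), (3, [7, 10, 4]), (4, [11, 5]), (9, [11, 13]), (3, [5]), (0, [7, 6, 4]), (4, [8, 11]), (11, [13]), (2, [13, 5, 9]), (1, [9, 5]), (0, [2, 13, 5, 6]), (4, []), (0, [5, 11, 2]), (0, [8, 1, 13]), (1, [9, 11]), (2, [7, 6]), (3, [12, 10, 8]), (0, [2, 12, 6]), (0, [2, 13, 11]), (2, [7, 3]),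 (1, [12, 5]), (1, [3, 13, 2]), (0, [5, 3, 9]), (0, [11, 3, 6]), (0, [7, 11, 2]), (0, [12, 3, 5]), (0, [12, 10]), (4, [10, 6, 12]), (8, []), (1, [12, 6]), (0, [5, 3]), (0, [8, 1]), (4, [13]), (1, [10, 4, 11]), (0, [9, 13, 11]), (5, [11, 12]), (2, [9, 13]), (0, [9, 2, 4])]

def ptsList6 : List (ℕ × List ℕ) := [(80634, [1, 2, 3, 4, 5, 6, 7, 8, 9, 10, 5, 4, 3, 2, 6, 5, 7, 6, 11, 10, 5, 4, 3, 2, 6, 5, 4, 3, 10, 5, 4, 11, 10, 5]), (80724, [1, 2, 3, 4, 5, 6, 7, 8, 9, 10, 5, 4, 3, 2, 6, 5, 7, 8, 11, 10, 5, 4, 3, 2, 1, 0, 6, 5, 4, 3, 2, 10, 5, 11]), (80737, [1, 2, 3, 4, 5, 6, 7, 8, 9, 10, 5, 4, 3, 2, 6, 5, 7, 8, 11, 10, 5, 4, 3, 2, 1, 0, 6, 5, 4, 3, 10, 5, 6, 11]), (80738, [1, 2, 3, 4, 5, 6, 7, 8,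 9, 10, 5, 4, 3, 2, 6, 5, 7, 8, 11, 10, 5, 4, 3, 2, 1, 0, 6, 5, 4, 3, 10, 5, 11, 10]), (80775, [1, 2, 3, 4, 5, 6, 7, 8, 9, 10, 5, 4, 3, 2, 6, 5, 7, 8, 11, 10, 5, 4, 3, 2, 1, 6, 5, 4, 3, 2, 10, 5, 11, 10]), (80796, [1, 2, 3, 4, 5, 6, 7, 8, 9, 10, 5, 4, 3, 2, 6, 5, 7, 8, 11, 10, 5, 4, 3, 2, 1, 6, 5, 4, 3, 10, 5, 4, 11, 10]), (80799, [1, 2, 3, 4, 5, 6, 7, 8, 9, 10, 5, 4, 3, 2, 6, 5, 7, 8, 11, 10, 5, 4, 3, 2, 1, 6, 5, 4, 3, 10, 5, 6, 11, 10]), (80871, [1, 2, 3, 4, 5, 6, 7, 8, 9, 10, 5, 4, 3, 2, 6, 5, 7, 8, 11, 10, 5, 4, 3, 2, 6, 5, 4, 3, 10, 5, 4, 11, 10, 5]), (81036, [1, 2, 3, 4, 5, 6, 7, 8, 9, 10, 5, 4, 3, 2, 6, 5, 7, 11, 10, 5, 4, 3, 2, 1, 0, 6, 5, 4, 3, 10, 5, 6, 11, 10]), (82087, [1, 2,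 3, 4, 5, 6, 7, 8, 9, 10, 5, 4, 3, 6, 5, 4, 7, 8, 11, 10, 5, 4, 3, 2, 1, 0, 6, 5, 4, 3, 2, 10, 5, 11]), (82100, [1, 2, 3, 4, 5, 6, 7, 8, 9, 10, 5, 4, 3, 6, 5, 4, 7, 8, 11, 10, 5, 4, 3, 2, 1, 0, 6, 5, 4, 3, 10, 5, 4, 11]), (82101, [1, 2, 3, 4, 5, 6, 7, 8, 9, 10, 5, 4, 3, 6, 5, 4, 7, 8, 11, 10, 5, 4, 3, 2, 1, 0, 6, 5, 4, 3, 10, 5, 11, 10]), (82134, [1, 2, 3, 4, 5, 6, 7, 8, 9, 10, 5, 4, 3, 6, 5, 4, 7, 8, 11, 10, 5, 4, 3, 2, 1, 6, 5, 4, 3, 2, 10, 5, 11, 10]), (82155, [1, 2, 3, 4, 5, 6, 7, 8, 9, 10, 5, 4, 3, 6, 5, 4, 7, 8, 11, 10, 5, 4, 3, 2, 1, 6, 5, 4, 3, 10, 5, 4, 11, 10]), (88761, [1, 0, 2, 1, 3, 4, 5, 6, 7, 8, 9, 10, 5, 4, 3, 6, 5, 4, 7, 6, 8, 7, 11, 10, 5, 4, 6, 5, 7, 6, 8, 7, 9, 8, 10]),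 (88763, [1, 0, 2, 1, 3, 4, 5, 6, 7, 8, 9, 10, 5, 4, 3, 6, 5, 4, 7, 6, 8, 7, 11, 10, 5, 4, 6, 5, 7, 6, 8, 7, 9, 10, 11]), (89307, [1, 0, 2, 1, 3, 4, 5, 6, 7, 8, 9, 10, 5, 4, 3, 6, 5, 4, 11, 10, 5, 4, 6, 5, 7, 6, 8, 7, 9, 10, 5, 4, 6, 5, 10]), (89311, [1, 0, 2, 1, 3, 4, 5, 6, 7, 8, 9, 10, 5, 4, 3, 6, 5, 4, 11, 10, 5, 4, 6, 5, 7, 6, 8, 7, 10, 5, 4, 6, 5, 10, 11]), (89335, [1, 0, 2, 1, 3, 4, 5, 6, 7, 8, 9, 10, 5, 4, 3, 6, 5, 7, 6, 8, 7, 10, 11, 10, 5, 4, 6, 5, 7, 6, 8, 7, 9, 10, 11]), (89356, [1, 0, 2, 1, 3, 4, 5, 6, 7, 8, 9, 10, 5, 4, 3, 6, 5, 7, 6, 8, 7, 11, 10, 5, 4, 6, 5, 7, 6, 8, 7, 9, 8, 10, 11]), (90628, [1, 0, 2, 3, 4, 5, 6, 7, 8, 9, 10, 5, 4, 3, 2, 6, 5, 7, 6, 8, 11, 10, 5, 4, 3, 2,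 1, 6, 5, 4, 3, 10, 5, 11, 10]), (91096, [1, 0, 2, 3, 4, 5, 6, 7, 8, 9, 10, 5, 4, 3, 2, 6, 5, 7, 8, 11, 10, 5, 4, 3, 2, 6, 5, 4, 3, 10, 5, 6, 11, 10, 5]), (91233, [1, 0, 2, 3, 4, 5, 6, 7, 8, 9, 10, 5, 4, 3, 2, 6, 5, 7, 8, 11, 10, 5, 4, 6, 5, 7, 6, 10, 5, 4, 11, 10, 5, 6, 7]), (91941, [1, 0, 2, 3, 4, 5, 6, 7, 8, 9, 10, 5, 4, 3, 6, 5, 4, 7, 6, 8, 11, 10, 5, 4, 3, 2, 1, 6, 5, 4, 3, 10, 5, 11, 10]), (92556, [1, 0, 2, 3, 4, 5, 6, 7, 8, 9, 10, 5, 4, 3, 6, 5, 4, 7, 8, 11, 10, 5, 4, 3, 2, 6, 5, 4, 3, 10, 5, 4, 11, 10, 5]), (92714, [1, 0, 2, 3, 4, 5, 6, 7, 8, 9, 10, 5, 4, 3, 6, 5, 4, 7, 8, 11, 10, 5, 4, 3, 6, 5, 4, 10, 5, 6, 11, 10, 5, 4, 3]), (97687, [1, 2, 3, 4, 5, 6, 7, 8, 9, 10, 5, 4, 3, 2, 6,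 5, 7, 6, 8, 11, 10, 5, 4, 3, 2, 6, 5, 4, 3, 10, 5, 4, 11, 10, 5]), (97967, [1, 2, 3, 4, 5, 6, 7, 8, 9, 10, 5, 4, 3, 2, 6, 5, 7, 8, 11, 10, 5, 4, 3, 2, 1, 0, 6, 5, 4, 3, 10, 5, 6, 11, 10]), (106900, [1, 0, 2, 1, 3, 4, 5, 6, 7, 8, 9, 10, 5, 4, 3, 6, 5, 4, 7, 6, 8, 7, 11, 10, 5, 4, 6, 5, 7, 6, 8, 7, 9, 8, 10, 11]), (107519, [1, 0, 2, 1, 3, 4, 5, 6, 7, 8, 9, 10, 5, 4, 3, 6, 5, 4, 11, 10, 5, 4, 6, 5, 7, 6, 8, 7, 9, 10, 5, 4, 6, 5, 10, 11]), (295901, [1, 2, 3, 4, 5, 6, 7, 8, 10, 5, 4, 3, 6, 5, 7, 6, 11, 10, 5, 4, 3, 2, 6, 5, 4, 3, 7, 6, 10, 5, 4, 3, 6, 5, 11, 10, 5, 4, 6, 5, 7, 6, 8, 7]), (299936, [1, 0, 2, 3, 4, 5, 6, 7, 8, 10, 5, 4, 3, 6, 5, 7, 6, 11, 10, 5, 4, 3, 2, 6, 5, 4, 3, 7, 6, 10, 5,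 4, 3, 6, 5, 11, 10, 5, 4, 6, 5, 7, 6, 8, 7]), (300115, [1, 2, 3, 4, 5, 6, 7, 8, 9, 10, 5, 4, 3, 2, 6, 5, 7, 6, 11, 10, 5, 4, 3, 2, 6, 5, 4, 3, 7, 6, 5, 4, 8, 7, 6, 10, 5, 4, 3, 6, 5, 4, 7, 10, 5]), (300116, [1, 2, 3, 4, 5, 6, 7, 8, 9, 10, 5, 4, 3, 2, 6, 5, 7, 6, 11, 10, 5, 4, 3, 2, 6, 5, 4, 3, 7, 6, 5, 4, 8, 7, 6, 10, 5, 4, 3, 6, 5, 7, 6, 10, 5]), (300346, [1, 2, 3, 4, 5, 6, 7, 8, 9, 10, 5, 4, 3, 2, 6, 5, 7, 11, 10, 5, 4, 3, 2, 6, 5, 4, 3, 7, 6, 5, 4, 8, 7, 6, 10, 5, 4, 6, 5, 7, 6, 10, 5, 4, 3]), (300759, [1, 2, 3, 4, 5, 6, 7, 8, 9, 10, 5, 4, 3, 6, 5, 4, 7, 8, 11, 10, 5, 4, 3, 2, 6, 5, 4, 3, 7, 6, 5, 4, 8, 7, 6, 10, 5, 4, 3, 6, 5, 4, 7, 10, 5]), (300761, [1, 2, 3, 4, 5, 6, 7, 8, 9, 10, 5,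 4, 3, 6, 5, 4, 7, 8, 11, 10, 5, 4, 3, 2, 6, 5, 4, 3, 7, 6, 5, 4, 8, 7, 6, 10, 5, 4, 3, 6, 5, 7, 6, 10, 5]), (301109, [1, 2, 3, 4, 5, 6, 7, 8, 9, 10, 5, 4, 3, 6, 5, 4, 7, 11, 10, 5, 4, 3, 2, 1, 6, 5, 4, 3, 2, 7, 6, 5, 8, 7, 6, 10, 5, 4, 3, 6, 5, 4, 7, 10, 5]), (301111, [1, 2, 3, 4, 5, 6, 7, 8, 9, 10, 5, 4, 3, 6, 5, 4, 7, 11, 10, 5, 4, 3, 2, 1, 6, 5, 4, 3, 2, 7, 6, 5, 8, 7, 6, 10, 5, 4, 3, 6, 5, 7, 6, 10, 5]), (301144, [1, 2, 3, 4, 5, 6, 7, 8, 9, 10, 5, 4, 3, 6, 5, 4, 7, 11, 10, 5, 4, 3, 2, 1, 6, 5, 4, 3, 7, 6, 5, 8, 7, 6, 10, 5, 4, 6, 5, 7, 6, 10, 5, 4, 3]), (301221, [1, 2, 3, 4, 5, 6, 7, 8, 9, 10, 5, 4, 3, 6, 5, 4, 7, 11, 10, 5, 4, 3, 2, 6, 5, 4, 3, 7, 6, 8, 7, 10, 5, 4, 3, 6, 5, 4, 7, 6,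 8, 10, 5, 6, 7]), (301705, [1, 2, 3, 4, 5, 6, 7, 8, 9, 10, 5, 4, 3, 6, 5, 7, 11, 10, 5, 4, 3, 2, 6, 5, 4, 3, 7, 6, 5, 8, 7, 10, 5, 4, 3, 6, 5, 4, 7, 6, 8, 10, 5, 6, 7]), (301954, [1, 2, 3, 4, 5, 6, 7, 8, 10, 5, 4, 3, 2, 6, 5, 7, 6, 11, 10, 5, 4, 3, 2, 6, 5, 4, 3, 7, 6, 10, 5, 4, 3, 6, 5, 11, 10, 5, 4, 6, 5, 7, 6, 8, 7]), (302028, [1, 2, 3, 4, 5, 6, 7, 8, 10, 5, 4, 3, 6, 5, 4, 7, 11, 10, 5, 4, 3, 2, 6, 5, 4, 3, 7, 6, 5, 10, 5, 4, 6, 5, 11, 10, 5, 4, 3, 6, 5, 7, 6, 8, 7]), (302056, [1, 2, 3, 4, 5, 6, 7, 8, 10, 5, 4, 3, 6, 5, 7, 6, 11, 10, 5, 4, 3, 2, 6, 5, 4, 3, 7, 6, 8, 10, 5, 4, 3, 6, 5, 11, 10, 5, 4, 6, 5, 7, 6, 8, 7]), (302060, [1, 2, 3, 4, 5, 6, 7, 8, 10, 5, 4, 3, 6, 5, 7, 6, 11, 10,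 5, 4, 3, 2, 6, 5, 4, 3, 7, 6, 10, 5, 4, 3, 2, 6, 5, 11, 10, 5, 4, 6, 5, 7, 6, 8, 7]), (302061, [1, 2, 3, 4, 5, 6, 7, 8, 10, 5, 4, 3, 6, 5, 7, 6, 11, 10, 5, 4, 3, 2, 6, 5, 4, 3, 7, 6, 10, 5, 4, 3, 6, 5, 10, 11, 10, 5, 4, 6, 5, 7, 6, 8, 7]), (302795, [1, 0, 2, 3, 4, 5, 6, 7, 8, 9, 10, 5, 4, 3, 2, 6, 5, 7, 6, 11, 10, 5, 4, 3, 2, 6, 5, 4, 3, 7, 6, 5, 4, 8, 7, 6, 10, 5, 4, 3, 6, 5, 4, 7, 10, 5]), (302796, [1, 0, 2, 3, 4, 5, 6, 7, 8, 9, 10, 5, 4, 3, 2, 6, 5, 7, 6, 11, 10, 5, 4, 3, 2, 6, 5, 4, 3, 7, 6, 5, 4, 8, 7, 6, 10, 5, 4, 3, 6, 5, 7, 6, 10, 5]), (303076, [1, 0, 2, 3, 4, 5, 6, 7, 8, 9, 10, 5, 4, 3, 2, 6, 5, 7, 11, 10, 5, 4, 3, 2, 6, 5, 4, 3, 7, 6, 5, 4, 8, 7, 6, 10, 5, 4, 6, 5, 7, 6, 10, 5,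 4, 3]), (303286, [1, 0, 2, 3, 4, 5, 6, 7, 8, 9, 10, 5, 4, 3, 6, 5, 4, 7, 8, 11, 10, 5, 4, 3, 2, 6, 5, 4, 3, 7, 6, 5, 4, 8, 7, 6, 10, 5, 4, 3, 6, 5, 4, 7, 10, 5]), (303287, [1, 0, 2, 3, 4, 5, 6, 7, 8, 9, 10, 5, 4, 3, 6, 5, 4, 7, 8, 11, 10, 5, 4, 3, 2, 6, 5, 4, 3, 7, 6, 5, 4, 8, 7, 6, 10, 5, 4, 3, 6, 5, 7, 6, 10, 5]), (303593, [1, 0, 2, 3, 4, 5, 6, 7, 8, 9, 10, 5, 4, 3, 6, 5, 4, 7, 11, 10, 5, 4, 3, 2, 6, 5, 4, 3, 7, 6, 8, 7, 10, 5, 4, 3, 6, 5, 4, 7, 6, 8, 10, 5, 6, 7]), (303714, [1, 0, 2, 3, 4, 5, 6, 7, 8, 9, 10, 5, 4, 3, 6, 5, 7, 6, 11, 10, 5, 4, 3, 2, 6, 5, 4, 3, 7, 6, 5, 4, 8, 7, 10, 5, 4, 3, 2, 6, 5, 4, 3, 7, 10, 5]), (303845, [1, 0, 2, 3, 4, 5, 6, 7, 8, 9, 10, 5, 4, 3, 6, 5, 7, 11, 10,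 5, 4, 3, 2, 6, 5, 4, 3, 7, 6, 5, 4, 8, 7, 10, 5, 4, 3, 2, 6, 5, 4, 3, 7, 6, 10, 5]), (303846, [1, 0, 2, 3, 4, 5, 6, 7, 8, 9, 10, 5, 4, 3, 6, 5, 7, 11, 10, 5, 4, 3, 2, 6, 5, 4, 3, 7, 6, 5, 4, 8, 7, 10, 5, 4, 3, 6, 5, 4, 7, 6, 10, 5, 4, 3]), (303863, [1, 0, 2, 3, 4, 5, 6, 7, 8, 9, 10, 5, 4, 3, 6, 5, 7, 11, 10, 5, 4, 3, 2, 6, 5, 4, 3, 7, 6, 5, 8, 7, 10, 5, 4, 3, 6, 5, 4, 7, 6, 8, 10, 5, 6, 7]), (304176, [1, 0, 2, 3, 4, 5, 6, 7, 8, 10, 5, 4, 3, 2, 6, 5, 7, 6, 11, 10, 5, 4, 3, 2, 6, 5, 4, 3, 7, 6, 10, 5, 4, 3, 6, 5, 11, 10, 5, 4, 6, 5, 7, 6, 8, 7]), (304218, [1, 0, 2, 3, 4, 5, 6, 7, 8, 10, 5, 4, 3, 6, 5, 4, 7, 11, 10, 5, 4, 3, 2, 6, 5, 4, 3, 7, 6, 5, 10, 5, 4, 6, 5, 11, 10, 5, 4, 3, 6, 5, 7,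 6, 8, 7]), (304233, [1, 0, 2, 3, 4, 5, 6, 7, 8, 10, 5, 4, 3, 6, 5, 7, 6, 11, 10, 5, 4, 3, 2, 1, 6, 5, 4, 3, 7, 6, 5, 4, 10, 5, 4, 3, 11, 10, 5, 4, 6, 5, 7, 6, 8, 7]), (304242, [1, 0, 2, 3, 4, 5, 6, 7, 8, 10, 5, 4, 3, 6, 5, 7, 6, 11, 10, 5, 4, 3, 2, 6, 5, 4, 3, 7, 6, 10, 5, 4, 3, 2, 6, 5, 11, 10, 5, 4, 6, 5, 7, 6, 8, 7]), (304243, [1, 0, 2, 3, 4, 5, 6, 7, 8, 10, 5, 4, 3, 6, 5, 7, 6, 11, 10, 5, 4, 3, 2, 6, 5, 4, 3, 7, 6, 10, 5, 4, 3, 6, 5, 10, 11, 10, 5, 4, 6, 5, 7, 6, 8, 7]), (304359, [1, 2, 3, 4, 5, 6, 7, 8, 9, 10, 5, 4, 3, 2, 6, 5, 7, 6, 11, 10, 5, 4, 3, 2, 6, 5, 4, 3, 7, 6, 5, 4, 8, 7, 6, 5, 10, 5, 4, 3, 6, 5, 4, 7, 10, 5])]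

def pathList6 : List (ℕ × List ℕ) := [(9, [11, 13, 0]), (5, [11, 0]), (0, [7, 6, 11]), (3, [9]), (0, [13, 4, 12]), (1, [8, 12]), (0, [11, 4]), (1, [7, 10]), (0, [7, 5, 3]), (7, [9, 11, 0]), (1, [8, 10, 3]), (6, [13]), (2, [11, 5]), (1, [6, 4, 12]), (3, [10, 12, 5]), (0, [2, 4, 13]), (2, [10, 12]), (0, [11, 3, 5]), (2, [11, 4, 6]), (0, [8, 12]), (0, [7, 1, 10]), (6, [8, 12]), (4, [9, 12]), (0, [7, 3, 8]), (1, [8, 4, 6]), (0, [11, 3, 12]), (8, [13, 11]), (4, [11]), (0, [13, 11, 5]), (1, [3, 5, 12]), (1, [7, 3]), (0, [7, 1, 3]), (2, [10, 6]), (0, [7, 9, 4, 10]), (9, []), (0, [12, 3, 11]), (3, [8]), (0, [8, 11, 13]), (0, [9, 7]), (6, [10, 12]), (0, [11, 3, 4]), (2, [13, 0]), (7, [9, 12, 3]),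 (1, [12, 4]), (0, [2, 10, 1]), (1, [3, 6, 12]), (2, [4, 8, 0]), (7, [9]), (4, [13, 11, 9]), (0, [9]), (0, [9, 12, 13]), (0, [8, 3]), (3, [11, 4]), (0, [9, 2, 12]), (0, [7, 9]), (4, [9, 10]), (2, [13]), (0, [7, 11, 13]), (0, [2, 9, 11]), (1, [10, 2]), (0, [5, 8, 11]), (2, [4, 8]), (1, [6, 12, 3])]

def ptsList7 : List (ℕ × List ℕ) := [(304360, [1, 2, 3, 4, 5, 6, 7, 8, 9, 10, 5, 4, 3, 2, 6, 5, 7, 6, 11, 10, 5, 4, 3, 2, 6, 5, 4, 3, 7, 6, 5, 4, 8, 7, 6, 5, 10, 5, 4, 3, 6, 5, 7, 6, 10, 5]), (304362, [1, 2, 3, 4, 5, 6, 7, 8, 9, 10, 5, 4, 3, 2, 6, 5, 7, 6, 11, 10, 5, 4, 3, 2, 6, 5, 4, 3, 7, 6, 5, 4, 8, 7, 6, 10, 5, 4, 3, 6, 5, 4, 7, 10, 5, 6]), (304363, [1, 2, 3, 4, 5, 6, 7, 8, 9, 10, 5, 4, 3,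 2, 6, 5, 7, 6, 11, 10, 5, 4, 3, 2, 6, 5, 4, 3, 7, 6, 5, 4, 8, 7, 6, 10, 5, 4, 3, 6, 5, 7, 6, 10, 5, 4]), (304451, [1, 2, 3, 4, 5, 6, 7, 8, 9, 10, 5, 4, 3, 2, 6, 5, 7, 11, 10, 5, 4, 3, 2, 6, 5, 4, 3, 7, 6, 5, 4, 8, 7, 6, 10, 5, 4, 3, 6, 5, 7, 6, 10, 5, 4, 3]), (304452, [1, 2, 3, 4, 5, 6, 7, 8, 9, 10, 5, 4, 3, 2, 6, 5, 7, 11, 10, 5, 4, 3, 2, 6, 5, 4, 3, 7, 6, 5, 4, 8, 7, 6, 10, 5, 4, 6, 5, 7, 6, 10, 5, 4, 3, 2]), (304530, [1, 2, 3, 4, 5, 6, 7, 8, 9, 10, 5, 4, 3, 6, 5, 4, 7, 8, 11, 10, 5, 4, 3, 2, 1, 6, 5, 4, 3, 2, 7, 6, 5, 8, 7, 6, 10, 5, 4, 3, 6, 5, 4, 7, 10, 5]), (304531, [1, 2, 3, 4, 5, 6, 7, 8, 9, 10, 5, 4, 3, 6, 5, 4, 7, 8, 11, 10, 5, 4, 3, 2, 1, 6, 5, 4, 3, 2, 7, 6, 5, 8, 7, 6, 10, 5,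 4, 3, 6, 5, 7, 6, 10, 5]), (304557, [1, 2, 3, 4, 5, 6, 7, 8, 9, 10, 5, 4, 3, 6, 5, 4, 7, 8, 11, 10, 5, 4, 3, 2, 1, 6, 5, 4, 3, 7, 6, 5, 8, 7, 6, 10, 5, 4, 6, 5, 7, 6, 10, 5, 4, 3]), (304593, [1, 2, 3, 4, 5, 6, 7, 8, 9, 10, 5, 4, 3, 6, 5, 4, 7, 8, 11, 10, 5, 4, 3, 2, 6, 5, 4, 3, 7, 6, 5, 4, 8, 7, 6, 9, 10, 5, 4, 3, 6, 5, 4, 7, 10, 5]), (304594, [1, 2, 3, 4, 5, 6, 7, 8, 9, 10, 5, 4, 3, 6, 5, 4, 7, 8, 11, 10, 5, 4, 3, 2, 6, 5, 4, 3, 7, 6, 5, 4, 8, 7, 6, 9, 10, 5, 4, 3, 6, 5, 7, 6, 10, 5]), (304730, [1, 2, 3, 4, 5, 6, 7, 8, 9, 10, 5, 4, 3, 6, 5, 4, 7, 11, 10, 5, 4, 3, 2, 1, 6, 5, 4, 3, 2, 7, 6, 5, 8, 7, 6, 10, 5, 4, 3, 6, 5, 4, 7, 10, 5, 6]), (304731, [1, 2, 3, 4, 5, 6, 7, 8, 9, 10, 5, 4, 3,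 6, 5, 4, 7, 11, 10, 5, 4, 3, 2, 1, 6, 5, 4, 3, 2, 7, 6, 5, 8, 7, 6, 10, 5, 4, 3, 6, 5, 7, 6, 10, 5, 4]), (304739, [1, 2, 3, 4, 5, 6, 7, 8, 9, 10, 5, 4, 3, 6, 5, 4, 7, 11, 10, 5, 4, 3, 2, 1, 6, 5, 4, 3, 7, 6, 5, 8, 7, 6, 10, 5, 4, 6, 5, 7, 6, 10, 5, 4, 3, 2]), (304959, [1, 2, 3, 4, 5, 6, 7, 8, 10, 5, 4, 3, 2, 6, 5, 7, 6, 11, 10, 5, 4, 3, 2, 6, 5, 4, 3, 7, 6, 10, 5, 4, 3, 6, 5, 10, 11, 10, 5, 4, 6, 5, 7, 6, 8, 7]), (304962, [1, 2, 3, 4, 5, 6, 7, 8, 10, 5, 4, 3, 2, 6, 5, 7, 6, 11, 10, 5, 4, 3, 2, 6, 5, 4, 3, 7, 6, 10, 5, 4, 3, 6, 5, 11, 10, 5, 4, 6, 5, 7, 6, 8, 7, 10]), (304995, [1, 2, 3, 4, 5, 6, 7, 8, 10, 5, 4, 3, 6, 5, 4, 7, 11, 10, 5, 4, 3, 2, 6, 5, 4, 3, 7, 6, 5, 4, 10, 5, 4, 6, 5, 7,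 11, 10, 5, 4, 6, 5, 7, 6, 8, 7]), (304997, [1, 2, 3, 4, 5, 6, 7, 8, 10, 5, 4, 3, 6, 5, 4, 7, 11, 10, 5, 4, 3, 2, 6, 5, 4, 3, 7, 6, 5, 8, 10, 5, 4, 6, 5, 11, 10, 5, 4, 3, 6, 5, 7, 6, 8, 7]), (305001, [1, 2, 3, 4, 5, 6, 7, 8, 10, 5, 4, 3, 6, 5, 4, 7, 11, 10, 5, 4, 3, 2, 6, 5, 4, 3, 7, 6, 5, 10, 5, 4, 6, 5, 10, 11, 10, 5, 4, 3, 6, 5, 7, 6, 8, 7]), (305002, [1, 2, 3, 4, 5, 6, 7, 8, 10, 5, 4, 3, 6, 5, 4, 7, 11, 10, 5, 4, 3, 2, 6, 5, 4, 3, 7, 6, 5, 10, 5, 4, 6, 5, 11, 10, 5, 4, 3, 2, 6, 5, 7, 6, 8, 7]), (305013, [1, 2, 3, 4, 5, 6, 7, 8, 10, 5, 4, 3, 6, 5, 7, 6, 11, 10, 5, 4, 3, 2, 6, 5, 4, 3, 7, 6, 10, 5, 4, 3, 2, 6, 5, 10, 11, 10, 5, 4, 6, 5, 7, 6, 8, 7]), (305015, [1, 2, 3, 4, 5, 6, 7, 8, 10,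 5, 4, 3, 6, 5, 7, 6, 11, 10, 5, 4, 3, 2, 6, 5, 4, 3, 7, 6, 10, 5, 4, 3, 6, 5, 10, 11, 10, 5, 4, 6, 5, 7, 6, 8, 7, 10]), (305485, [1, 0, 2, 3, 4, 5, 6, 7, 8, 9, 10, 5, 4, 3, 2, 6, 5, 7, 6, 11, 10, 5, 4, 3, 2, 6, 5, 4, 3, 7, 6, 5, 4, 8, 7, 6, 5, 10, 5, 4, 3, 6, 5, 4, 7, 10, 5]), (305486, [1, 0, 2, 3, 4, 5, 6, 7, 8, 9, 10, 5, 4, 3, 2, 6, 5, 7, 6, 11, 10, 5, 4, 3, 2, 6, 5, 4, 3, 7, 6, 5, 4, 8, 7, 6, 5, 10, 5, 4, 3, 6, 5, 7, 6, 10, 5]), (305487, [1, 0, 2, 3, 4, 5, 6, 7, 8, 9, 10, 5, 4, 3, 2, 6, 5, 7, 6, 11, 10, 5, 4, 3, 2, 6, 5, 4, 3, 7, 6, 5, 4, 8, 7, 6, 10, 5, 4, 3, 6, 5, 4, 7, 10, 5, 6]), (305488, [1, 0, 2, 3, 4, 5, 6, 7, 8, 9, 10, 5, 4, 3, 2, 6, 5, 7, 6, 11, 10, 5, 4, 3, 2, 6, 5, 4, 3, 7,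 6, 5, 4, 8, 7, 6, 10, 5, 4, 3, 6, 5, 7, 6, 10, 5, 4]), (305555, [1, 0, 2, 3, 4, 5, 6, 7, 8, 9, 10, 5, 4, 3, 2, 6, 5, 7, 8, 11, 10, 5, 4, 3, 2, 1, 6, 5, 4, 3, 7, 6, 5, 4, 8, 7, 6, 10, 5, 4, 3, 6, 5, 4, 7, 10, 5]), (305556, [1, 0, 2, 3, 4, 5, 6, 7, 8, 9, 10, 5, 4, 3, 2, 6, 5, 7, 8, 11, 10, 5, 4, 3, 2, 1, 6, 5, 4, 3, 7, 6, 5, 4, 8, 7, 6, 10, 5, 4, 3, 6, 5, 7, 6, 10, 5]), (305590, [1, 0, 2, 3, 4, 5, 6, 7, 8, 9, 10, 5, 4, 3, 2, 6, 5, 7, 11, 10, 5, 4, 3, 2, 6, 5, 4, 3, 7, 6, 5, 4, 8, 7, 6, 10, 5, 4, 3, 6, 5, 7, 6, 10, 5, 4, 3]), (305591, [1, 0, 2, 3, 4, 5, 6, 7, 8, 9, 10, 5, 4, 3, 2, 6, 5, 7, 11, 10, 5, 4, 3, 2, 6, 5, 4, 3, 7, 6, 5, 4, 8, 7, 6, 10, 5, 4, 6, 5, 7, 6, 10, 5, 4, 3, 2]), (305630,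 [1, 0, 2, 3, 4, 5, 6, 7, 8, 9, 10, 5, 4, 3, 6, 5, 4, 7, 8, 11, 10, 5, 4, 3, 2, 1, 6, 5, 4, 3, 7, 6, 5, 4, 8, 7, 10, 5, 4, 3, 6, 5, 4, 10, 5, 6, 7]), (305639, [1, 0, 2, 3, 4, 5, 6, 7, 8, 9, 10, 5, 4, 3, 6, 5, 4, 7, 8, 11, 10, 5, 4, 3, 2, 1, 6, 5, 4, 3, 7, 6, 8, 7, 10, 5, 4, 3, 6, 5, 4, 7, 6, 10, 5, 6, 7]), (305770, [1, 0, 2, 3, 4, 5, 6, 7, 8, 9, 10, 5, 4, 3, 6, 5, 4, 7, 11, 10, 5, 4, 3, 2, 6, 5, 4, 3, 7, 6, 8, 7, 10, 5, 4, 3, 6, 5, 4, 7, 6, 8, 9, 10, 5, 6, 7]), (305771, [1, 0, 2, 3, 4, 5, 6, 7, 8, 9, 10, 5, 4, 3, 6, 5, 4, 7, 11, 10, 5, 4, 3, 2, 6, 5, 4, 3, 7, 6, 8, 7, 10, 5, 4, 3, 6, 5, 4, 7, 6, 8, 10, 5, 6, 7, 8]), (305827, [1, 0, 2, 3, 4, 5, 6, 7, 8, 9, 10, 5, 4, 3, 6, 5, 7, 11, 10, 5,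 4, 3, 2, 6, 5, 4, 3, 7, 6, 5, 4, 8, 7, 10, 5, 4, 3, 2, 6, 5, 4, 3, 7, 6, 10, 5, 4]), (305828, [1, 0, 2, 3, 4, 5, 6, 7, 8, 9, 10, 5, 4, 3, 6, 5, 7, 11, 10, 5, 4, 3, 2, 6, 5, 4, 3, 7, 6, 5, 4, 8, 7, 10, 5, 4, 3, 6, 5, 4, 7, 6, 10, 5, 4, 3, 2]), (305931, [1, 0, 2, 3, 4, 5, 6, 7, 8, 10, 5, 4, 3, 2, 6, 5, 7, 6, 11, 10, 5, 4, 3, 2, 1, 6, 5, 4, 3, 7, 6, 5, 4, 10, 5, 4, 3, 11, 10, 5, 4, 6, 5, 7, 6, 8, 7]), (305958, [1, 0, 2, 3, 4, 5, 6, 7, 8, 10, 5, 4, 3, 2, 6, 5, 7, 6, 11, 10, 5, 4, 3, 2, 6, 5, 4, 3, 7, 6, 10, 5, 4, 3, 6, 5, 10, 11, 10, 5, 4, 6, 5, 7, 6, 8, 7]), (305961, [1, 0, 2, 3, 4, 5, 6, 7, 8, 10, 5, 4, 3, 2, 6, 5, 7, 6, 11, 10, 5, 4, 3, 2, 6, 5, 4, 3, 7, 6, 10, 5, 4, 3, 6, 5, 11, 10, 5, 4,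 6, 5, 7, 6, 8, 7, 10]), (305971, [1, 0, 2, 3, 4, 5, 6, 7, 8, 10, 5, 4, 3, 6, 5, 4, 7, 11, 10, 5, 4, 3, 2, 1, 6, 5, 4, 3, 7, 6, 10, 5, 4, 3, 6, 5, 11, 10, 5, 4, 3, 6, 5, 7, 6, 8, 7]), (305978, [1, 0, 2, 3, 4, 5, 6, 7, 8, 10, 5, 4, 3, 6, 5, 4, 7, 11, 10, 5, 4, 3, 2, 6, 5, 4, 3, 7, 6, 5, 10, 5, 4, 6, 5, 10, 11, 10, 5, 4, 3, 6, 5, 7, 6, 8, 7]), (305981, [1, 0, 2, 3, 4, 5, 6, 7, 8, 10, 5, 4, 3, 6, 5, 4, 7, 11, 10, 5, 4, 3, 2, 6, 5, 4, 3, 7, 6, 5, 10, 5, 4, 6, 5, 11, 10, 5, 4, 3, 2, 6, 5, 7, 6, 8, 7]), (305992, [1, 0, 2, 3, 4, 5, 6, 7, 8, 10, 5, 4, 3, 6, 5, 7, 6, 11, 10, 5, 4, 3, 2, 6, 5, 4, 3, 7, 6, 10, 5, 4, 3, 2, 6, 5, 10, 11, 10, 5, 4, 6, 5, 7, 6, 8, 7]), (305994, [1, 0, 2, 3, 4, 5, 6, 7,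 8, 10, 5, 4, 3, 6, 5, 7, 6, 11, 10, 5, 4, 3, 2, 6, 5, 4, 3, 7, 6, 10, 5, 4, 3, 6, 5, 10, 11, 10, 5, 4, 6, 5, 7, 6, 8, 7, 10]), (306168, [1, 2, 3, 4, 5, 6, 7, 8, 10, 5, 4, 3, 2, 6, 5, 7, 6, 11, 10, 5, 4, 3, 2, 6, 5, 4, 3, 7, 6, 5, 4, 10, 5, 4, 6, 5, 11, 10, 5, 4, 3, 6, 5, 7, 6, 8, 7]), (306174, [1, 2, 3, 4, 5, 6, 7, 8, 10, 5, 4, 3, 2, 6, 5, 7, 6, 11, 10, 5, 4, 3, 2, 6, 5, 4, 3, 7, 6, 10, 5, 4, 3, 6, 5, 10, 11, 10, 5, 4, 6, 5, 7, 6, 8, 7, 10]), (306175, [1, 2, 3, 4, 5, 6, 7, 8, 10, 5, 4, 3, 2, 6, 5, 7, 6, 11, 10, 5, 4, 3, 2, 6, 5, 4, 3, 7, 6, 10, 5, 4, 3, 6, 5, 11, 10, 5, 4, 6, 5, 7, 6, 8, 7, 10, 11]), (306179, [1, 2, 3, 4, 5, 6, 7, 8, 10, 5, 4, 3, 6, 5, 4, 7, 6, 11, 10, 5, 4, 3, 2, 6, 5,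 4, 3, 7, 6, 5, 4, 10, 5, 4, 6, 5, 11, 10, 5, 4, 3, 6, 5, 7, 6, 8, 7]), (306183, [1, 2, 3, 4, 5, 6, 7, 8, 10, 5, 4, 3, 6, 5, 4, 7, 11, 10, 5, 4, 3, 2, 1, 6, 5, 4, 3, 2, 7, 6, 5, 10, 5, 4, 6, 5, 11, 10, 5, 4, 3, 6, 5, 7, 6, 8, 7]), (306184, [1, 2, 3, 4, 5, 6, 7, 8, 10, 5, 4, 3, 6, 5, 4, 7, 11, 10, 5, 4, 3, 2, 1, 6, 5, 4, 3, 2, 7, 6, 10, 5, 4, 3, 6, 11, 10, 5, 4, 6, 5, 7, 6, 8, 7, 10, 5]), (306186, [1, 2, 3, 4, 5, 6, 7, 8, 10, 5, 4, 3, 6, 5, 4, 7, 11, 10, 5, 4, 3, 2, 6, 5, 4, 3, 7, 6, 5, 10, 5, 4, 6, 5, 10, 11, 10, 5, 4, 3, 2, 6, 5, 7, 6, 8, 7]), (306188, [1, 2, 3, 4, 5, 6, 7, 8, 10, 5, 4, 3, 6, 5, 7, 6, 11, 10, 5, 4, 3, 2, 6, 5, 4, 3, 7, 6, 10, 5, 4, 3, 2, 6, 5, 10, 11, 10, 5, 4, 6, 5, 7,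 6, 8, 7, 10]), (306563, [1, 0, 2, 3, 4, 5, 6, 7, 8, 10, 5, 4, 3, 2, 6, 5, 7, 6, 11, 10, 5, 4, 3, 2, 1, 6, 5, 4, 3, 7, 6, 5, 4, 10, 5, 4, 3, 11, 10, 5, 4, 6, 5, 7, 6, 8, 7, 10]), (306571, [1, 0, 2, 3, 4, 5, 6, 7, 8, 10, 5, 4, 3, 2, 6, 5, 7, 6, 11, 10, 5, 4, 3, 2, 6, 5, 4, 3, 7, 6, 5, 4, 10, 5, 4, 6, 5, 11, 10, 5, 4, 3, 6, 5, 7, 6, 8, 7]), (306577, [1, 0, 2, 3, 4, 5, 6, 7, 8, 10, 5, 4, 3, 2, 6, 5, 7, 6, 11, 10, 5, 4, 3, 2, 6, 5, 4, 3, 7, 6, 10, 5, 4, 3, 6, 5, 10, 11, 10, 5, 4, 6, 5, 7, 6, 8, 7, 10]), (306578, [1, 0, 2, 3, 4, 5, 6, 7, 8, 10, 5, 4, 3, 2, 6, 5, 7, 6, 11, 10, 5, 4, 3, 2, 6, 5, 4, 3, 7, 6, 10, 5, 4, 3, 6, 5, 11, 10, 5, 4, 6, 5, 7, 6, 8, 7, 10, 11]), (306581, [1, 0, 2, 3, 4, 5,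 6, 7, 8, 10, 5, 4, 3, 6, 5, 4, 7, 6, 11, 10, 5, 4, 3, 2, 6, 5, 4, 3, 7, 6, 5, 4, 10, 5, 4, 6, 5, 11, 10, 5, 4, 3, 6, 5, 7, 6, 8, 7]), (306584, [1, 0, 2, 3, 4, 5, 6, 7, 8, 10, 5, 4, 3, 6, 5, 4, 7, 11, 10, 5, 4, 3, 2, 6, 5, 4, 3, 7, 6, 5, 10, 5, 4, 6, 5, 10, 11, 10, 5, 4, 3, 2, 6, 5, 7, 6, 8, 7]), (306585, [1, 0, 2, 3, 4, 5, 6, 7, 8, 10, 5, 4, 3, 6, 5, 4, 7, 11, 10, 5, 4, 3, 2, 6, 5, 4, 3, 7, 6, 5, 10, 5, 4, 6, 5, 10, 11, 10, 5, 4, 3, 6, 5, 7, 6, 8, 7, 10]), (306588, [1, 0, 2, 3, 4, 5, 6, 7, 8, 10, 5, 4, 3, 6, 5, 7, 6, 11, 10, 5, 4, 3, 2, 6, 5, 4, 3, 7, 6, 10, 5, 4, 3, 2, 6, 5, 10, 11, 10, 5, 4, 6, 5, 7, 6, 8, 7, 10]), (306638, [1, 2, 3, 4, 5, 6, 7, 8, 10, 5, 4, 3, 2, 6, 5, 7, 6, 11, 10, 5,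 4, 3, 2, 6, 5, 4, 3, 7, 6, 5, 4, 10, 5, 4, 6, 5, 11, 10, 5, 4, 3, 2, 6, 5, 7, 6, 8, 7]), (306639, [1, 2, 3, 4, 5, 6, 7, 8, 10, 5, 4, 3, 2, 6, 5, 7, 6, 11, 10, 5, 4, 3, 2, 6, 5, 4, 3, 7, 6, 5, 4, 10, 5, 4, 6, 5, 11, 10, 5, 4, 3, 6, 5, 4, 7, 6, 8, 7]), (306817, [1, 0, 2, 3, 4, 5, 6, 7, 8, 10, 5, 4, 3, 2, 6, 5, 7, 6, 11, 10, 5, 4, 3, 2, 6, 5, 4, 3, 7, 6, 5, 4, 10, 5, 4, 6, 5, 11, 10, 5, 4, 3, 2, 6, 5, 7, 6, 8, 7]), (306818, [1, 0, 2, 3, 4, 5, 6, 7, 8, 10, 5, 4, 3, 2, 6, 5, 7, 6, 11, 10, 5, 4, 3, 2, 6, 5, 4, 3, 7, 6, 5, 4, 10, 5, 4, 6, 5, 11, 10, 5, 4, 3, 6, 5, 4, 7, 6, 8, 7])]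

def pathList7 : List (ℕ × List ℕ) := [(1, [10, 3, 9]), (0, [2, 9, 3, 4]), (5, []), (1, [12, 7]), (4, [8, 2]), (2, [13, 5]), (0, [12, 1]), (1, [10, 8]), (0, [12, 6, 8]), (6, [11]), (0, [5, 7]), (0, [5, 10, 4]), (5, [7, 0]), (3, [11]), (3, [7, 11, 0]), (1, [12, 4, 7]), (0, [7, 9, 4]), (1, [6, 9]), (0, [5, 10]), (0, [9, 4]), (0, [2, 10, 3]), (1, [9, 12]), (6, [7, 11]), (1, [3, 7, 6]), (0, [5]), (1, [12]), (0, [12, 10, 3]), (0, [2, 13, 1]), (1, [10, 3, 5]), (4, [13, 6]), (0, [11, 6]), (1, [9, 2]), (0, [7, 5]), (3, [8, 9]), (5, [7]), (2, [10, 13]), (0, [11, 3]), (3, [7, 11]), (0, [9, 4, 7]), (0, [5, 8, 13]), (5, [10]), (4, [9]), (2, [10, 3]), (0, [5, 7, 10]), (0, [11, 13]), (0, [7, 13, 11]),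 (8, [13, 11, 2]), (0, [13, 1, 3]), (3, [7, 1]), (0, [2, 5, 11]), (6, [8]), (0, [7, 3, 1]), (0, [2, 9, 3]), (0, [13, 11]), (0, [2, 13, 6]), (0, [8, 9, 12]), (2, [11, 6, 8]), (1, [3, 13]), (0, [8, 6]), (0, [11, 3, 7]), (0, [8, 3, 4]), (3, [10, 12]), (3, [8, 4])]

/-- the data -/
def data : Data where
  yw := [0, 2, 4, 6, 1, 3, 7, 4, 0, 2, 9, 0, 8, 6, 3, 5, 10, 6, 9, 7, 5, 0, 5, 4, 0, 8, 5, 0, 2, 11, 10, 3, 7, 9, 2, 5, 4, 0, 4, 6, 4, 0, 1, 2, 6, 11, 6, 11, 1, 5, 10, 2, 7, 1, 9, 0, 2, 4, 6, 9, 1, 7, 2, 10, 5, 1, 11, 6, 11, 6, 2, 1, 0, 4, 6, 4, 0, 4, 5, 2, 9, 7, 3, 10, 11, 2, 0, 5, 8, 0, 4, 5, 0, 5, 7, 9, 6, 10, 5, 3, 6, 8, 0, 9, 2, 0, 4, 7, 3, 1]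
  gw := [0, 11, 1, 2, 3, 4, 5, 10, 6, 5, 4, 3, 2, 1, 0, 1, 2, 3, 4, 5, 6, 10, 5, 4, 3, 2, 1, 11, 4, 5, 10, 11, 3, 4, 5, 10, 6, 5, 4, 3, 1, 2, 0, 1, 0, 1, 0, 2, 1, 3, 4, 5, 6, 10, 5, 4, 3, 11, 10, 5, 4, 6, 5, 10, 11, 3, 4, 5, 10, 6, 5, 4, 3, 1, 2, 0, 1, 0, 1, 0, 2, 1, 3, 4, 5, 6, 10, 5, 4, 3, 11, 10, 5, 6, 3, 4, 5, 10, 8, 6, 7, 5, 6, 4, 5, 10, 9, 8, 7, 6, 5, 4, 2, 3, 1, 2, 0, 1, 0, 1, 0, 2, 1, 3, 2, 4, 5, 6, 7, 8, 9, 10, 5, 4, 6, 5, 7, 6, 8, 10, 5, 4, 3, 5, 10, 11, 6, 5, 10, 3, 4, 5, 6, 2, 3, 4, 5, 10, 11, 8, 7, 6, 1, 2, 3, 4, 5, 10, 9, 8, 7, 6, 5, 4, 3, 2, 1, 0, 1, 2, 3, 4, 5, 6, 7, 8, 9, 10, 5, 4, 3, 2, 1, 6, 7, 8, 11, 10, 5, 4, 3, 2, 6, 5, 4, 3, 10, 5, 6, 11, 10, 5, 9, 7, 8, 6, 7, 5, 6,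 4, 5, 3, 4, 2, 3, 1, 2, 0, 1, 0, 1, 0, 2, 1, 3, 2, 4, 3, 5, 4, 6, 5, 7, 6, 8, 7, 9, 5, 6, 4, 5, 10, 11, 7, 6, 1, 2, 3, 4, 5, 10, 9, 8, 7, 6, 5, 4, 3, 2, 1, 0, 1, 2, 3, 4, 5, 6, 7, 8, 9, 10, 5, 4, 3, 2, 1, 6, 7, 11, 10, 5, 4, 6, 5, 6, 5, 10, 11, 3, 4, 5, 10, 6, 5, 4, 3, 2, 1, 0, 1, 2, 3, 4, 5, 6, 10, 5, 4, 3, 11, 10, 5, 6]
  cw := [6, 5, 10, 11, 8, 7, 6, 5, 10, 9, 8, 7, 6, 5, 3, 4, 2, 3, 1, 2, 0, 1, 0, 1, 0, 2, 1, 3, 2, 4, 3, 5, 6, 7, 8, 9, 10, 5, 6, 7, 8, 11, 10, 5, 6, 4, 5, 10, 11, 8, 7, 6, 5, 10, 9, 8, 7, 6, 5, 3, 4, 2, 3, 1, 2, 0, 1, 0, 1, 0, 2, 1, 3, 2, 4, 3, 5, 6, 7, 8, 9, 10, 5, 6, 7, 8, 6, 5, 10, 9, 8, 7, 6, 5, 4, 2, 3, 1, 2, 0, 1, 0, 1, 0, 2, 1, 3, 2, 4, 5, 6, 7, 8, 9, 10, 5, 6,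 11, 10, 5, 4, 5, 10, 11, 6, 5, 10, 9, 8, 7, 6, 5, 4, 3, 1, 2, 0, 1, 0, 1, 0, 2, 1, 3, 4, 5, 6, 7, 8, 9, 10, 5, 6, 11, 10, 5, 0, 1, 0, 1, 0, 2, 1, 0, 1, 2, 6, 5, 4, 3, 2, 1, 0, 1, 2, 3, 4, 5, 6, 5, 4, 3, 2, 0, 1, 0, 1, 0, 2, 3, 4, 5]
  P := ptsList0 ++ ptsList1 ++ ptsList2 ++ ptsList3 ++ ptsList4 ++ ptsList5 ++ ptsList6 ++ ptsList7
  H := [25, 61, 122, 214, 378, 257, 362, 367, 88, 53, 27, 119, 368, 334, 336, 335, 307, 337, 308, 305, 306, 233, 377, 364, 245, 225, 190, 279, 54, 390, 384, 253, 242, 361, 365, 321, 464, 6, 411, 498, 24, 458, 352, 3, 351, 293, 291, 324, 404, 330, 342, 142, 345, 45, 188, 46, 250, 254, 379, 243, 413, 224, 350, 0, 500, 265, 356, 495, 353, 497, 339, 381, 385, 327,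 343, 405, 398, 341, 380, 402, 244, 217, 7, 462, 160, 299, 70, 2, 131, 298, 348, 189, 325, 329, 388, 401, 256, 138, 496, 137, 501, 465, 338, 331, 171, 241, 238, 167, 184, 383, 191, 264, 484, 108, 1, 288, 392, 487, 187, 92, 227, 5, 223, 399, 255, 51, 208, 328, 387, 260, 149, 326, 391, 13, 316, 12, 493, 441, 425, 355, 463, 414, 235, 194, 123, 30, 71, 109, 162, 246, 349, 141, 83, 36, 203, 146, 145, 148, 147, 49, 340, 304, 382, 23, 14, 278, 169, 59, 467, 471, 473, 415, 373, 136, 435, 408, 438, 437, 229, 150, 359, 210, 357, 112, 369, 17, 15, 474, 416, 470, 466, 78, 317, 28, 460, 454, 439, 456, 62, 21, 22, 115, 354, 358, 209, 156, 322, 228, 4, 129, 502, 490, 125, 302, 222, 47, 197, 236, 73, 248,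 204, 480, 68, 66, 99, 44, 417, 234, 237, 311, 310, 294, 172, 418, 94, 128, 33, 56, 499, 196, 195, 400, 344, 403, 309, 455, 199, 135, 163, 200, 407, 75, 95, 314, 315, 312, 313, 221, 249, 247, 67, 69, 98, 41, 366, 363, 202, 201, 57, 31, 96, 124, 193, 93, 127, 134, 192, 165, 91, 178, 389, 262, 259, 219, 207, 82, 121, 170, 261, 295, 153, 371, 39, 231, 374, 80, 157, 42, 106, 58, 139, 155, 81, 105, 32, 252, 144, 251, 215, 38, 370, 375, 143, 240, 239, 216, 26, 118, 100, 64, 346, 301, 296, 205, 29, 230, 232, 198, 300, 347, 297, 79, 151, 152, 103, 74, 50, 77, 164, 226, 372, 76, 102, 48, 101, 34, 158, 97, 386, 410, 442, 443, 440, 428, 394, 429, 426, 488, 281, 503, 323, 213, 211, 436, 468, 461, 459,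 406, 412, 419, 11, 472, 475, 8, 9, 10, 320, 469, 117, 494, 492, 35, 206, 376, 360, 20, 457, 212, 116, 16, 18, 19, 120, 37, 263, 168, 258, 303, 185, 72, 140, 132, 133, 60, 186, 280, 486, 284, 85, 285, 477, 289, 282, 107, 482, 449, 448, 485, 130, 489, 126, 446, 286, 393, 479, 273, 87, 84, 43, 274, 55, 290, 181, 276, 275, 52, 318, 89, 110, 269, 159, 114, 218, 63, 86, 113, 179, 180, 272, 183, 332, 333, 182, 277, 270, 173, 268, 319, 266, 292, 271, 174, 476, 397, 424, 161, 434, 452, 283, 396, 453, 447, 483, 432, 433, 491, 478, 421, 451, 431, 422, 450, 481, 430, 104, 444, 409, 420, 395, 445, 423, 427, 176, 40, 175, 220, 154, 267, 111, 177, 90, 65, 287, 166]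
  bitsY := [true, false, false, false, false, false, true, true, false, false, false, false, false, false]
  pi := 2
  Y := [(24, [1, 0, 2, 1, 3, 2, 4, 3]), (1481, [1, 0, 2, 3, 4, 5, 6, 7, 8, 9, 10, 5, 6, 7, 11, 10, 5, 4, 3]), (296933, [1, 0, 2, 3, 4, 5, 6, 7, 8, 9, 10, 5, 4, 3, 2, 6, 5, 7, 6, 11, 10, 5, 4, 3, 2, 1, 6, 5, 4, 7, 6, 8, 7, 10, 5, 4, 6, 5, 7, 10, 11, 10, 5, 6, 7]), (296236, [1, 0, 2, 1, 3, 4, 5, 6, 7, 8, 9, 10, 5, 4, 3, 6, 5, 4, 7, 8, 11, 10, 5, 4, 3, 6, 5, 4, 7, 6, 8, 7, 9, 10, 5, 6, 7, 8, 11, 10, 5, 4, 3, 6, 7]), (48598, [1, 0, 2, 3, 4, 5, 6, 7, 8, 9, 10, 5, 4, 3, 6, 5, 4, 7, 6, 5, 11, 10, 5, 4, 3, 6, 5, 4, 7, 8, 10, 5]), (197371, [1, 0, 2, 3, 4, 5, 6, 7, 8, 9, 10, 5, 4, 3,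 2, 6, 5, 7, 8, 11, 10, 5, 4, 3, 2, 1, 0, 6, 5, 4, 7, 6, 8, 7, 10, 5, 4, 3, 2, 6]), (112958, [1, 0, 2, 3, 4, 5, 6, 7, 8, 9, 10, 5, 4, 3, 6, 5, 7, 8, 10, 11, 10, 5, 4, 3, 2, 1, 0, 6, 5, 4, 7, 6, 10, 5, 4, 3]), (21491, [1, 2, 3, 4, 5, 6, 7, 8, 9, 10, 5, 4, 6, 5, 7, 11, 10, 5, 4, 3, 2, 6, 5, 4, 3, 7, 10, 11]), (270110, [1, 0, 2, 3, 4, 5, 6, 7, 8, 9, 10, 5, 4, 3, 2, 6, 5, 7, 8, 11, 10, 5, 4, 3, 2, 1, 6, 5, 4, 3, 2, 7, 6, 5, 8, 7, 10, 5, 4, 3, 2, 6, 11]), (152398, [1, 0, 2, 3, 4, 5, 6, 7, 8, 9, 10, 5, 4, 3, 6, 5, 4, 7, 8, 11, 10, 5, 4, 3, 2, 1, 6, 5, 4, 7, 6, 5, 8, 7, 10, 5, 4, 11]), (7161, [1, 2, 3, 4, 5, 6, 7, 8, 9, 10, 5, 4, 3, 6, 5, 4, 7, 6, 11, 10, 5, 6, 7, 8])]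
  yPath := [(3, [8, 6, 4, 2, 9, 7]), (0, [6, 1, 10, 5, 1, 6, 3]), (4, [6, 0, 10, 4, 8, 3]), (7, [10, 8, 3, 9]), (0, []), (3, [8, 4, 9, 10, 6, 2, 4]), (5, [7, 2, 6, 0, 10, 4]), (3, [7, 9, 0, 2, 4, 6, 8]), (0, [4, 5, 6, 7, 9, 3, 8]), (4, [9, 5, 3, 10, 6, 0, 4]), (0, [5, 7, 10, 7, 8, 9, 10]), (2, [7, 5, 3, 1, 6, 9, 6])]
  a0 := 0
  b0 := 12
  bitsA := [true, false, true, true, false, true]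
  bitsB := [true, false, true, true, false, true]
  bitsC := [false, false, false, true, false, false, false]
  cA := [0, 1, 2, 3, 12, 21, 22, 23, 25, 43, 44, 61, 63, 66, 68, 87, 99, 114, 122, 130, 135, 137, 149, 163, 199, 200, 214, 219, 222, 223, 224, 225, 233, 246, 247, 248, 249, 258, 259, 282, 283, 351, 353, 356, 364, 368, 377, 396, 412, 418, 426, 428, 441, 443, 468, 469]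
  cB := [0, 1, 2, 3, 12, 21, 22, 23, 25, 43, 44, 61, 63, 66, 68, 87, 99, 114, 122, 130, 135, 137, 149, 163, 199, 200, 214, 219, 222, 223, 224, 225, 233, 246, 247, 248, 249, 258, 259, 282, 283, 351, 353, 356, 364, 368, 377, 396, 412, 418, 426, 428, 441, 443, 468, 469]
  fPath := pathList0 ++ pathList1 ++ pathList2 ++ pathList3 ++ pathList4 ++ pathList5 ++ pathList6 ++ pathList7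
  ca := 1
  cb := 22
  c2a := 2
  c2b := 23
  sig := [(1, 2, 3, [true, true, true, true, false, false, true, true, false, true, false, false, false, false, false, true, false, false, false, true, false, false]), (3, 12, 13, [true, true, true, true, true, false, false, true, true, false, false, true, false, false, true, false, false, false, false, false, true, false]), (5, 51, 52, [true, true, true, false, true, true, false, false, true, true, true, false, false, false, false, false, true, false, false, true, false, false]), (7, 249, 170, [true, true, false, true, true, true, true, false, true, false, false, false, false, false, true, false, false, false, false, false, false, false])]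
  za := (90562, [1, 0, 2, 1, 3, 4, 5, 6, 7, 8, 10, 5, 4, 3, 6, 5, 7, 6, 11, 10, 5, 4, 3, 6, 5, 4, 7, 6, 10, 5, 4, 11, 10, 5, 6])
  zb := (272914, [1, 0, 2, 3, 4, 5, 6, 7, 8, 9, 10, 5, 4, 3, 6, 5, 4, 7, 8, 11, 10, 5, 4, 3, 2, 6, 5, 4, 7, 6, 5, 8, 7, 6, 10, 5, 4, 6, 7, 11, 10, 5, 6])
  edges := [[], [(false, 10614, [1, 3, 0, 2, 0, 2, 0, 0, 3, 1]), (true, 91797, [1, 1, 3, 1, 2, 0, 0, 0, 3, 0, 3]), (false, 289329, [3, 1, 1, 2, 0, 3, 1, 1, 2, 1, 2]), (true, 92354, [1, 3, 0, 0, 0, 2, 0, 0, 2, 0, 2, 0, 0]), (true, 21133, [0, 0, 0, 3, 1, 1, 2, 0, 3, 0, 3, 0, 0, 0]), (true, 12598, [2, 0, 2, 1, 3, 0, 2, 0, 3, 1, 3, 0, 3]), (true, 90331, [0, 0, 3, 1, 1, 1, 1, 3, 0, 0, 3, 1, 3]), (true, 26840, [2, 1,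 2, 1, 1, 3, 0, 0, 0, 3, 0, 0]), (false, 2, [1, 3, 0, 0, 2, 0, 0, 0, 0, 0, 3, 1, 1])], [(false, 10614, [1, 3, 0, 2, 0, 2, 0, 0, 3, 1]), (true, 62001, [3, 0, 0, 0, 0, 2, 1, 3, 0, 2, 0, 2]), (false, 48357, [1, 1, 1, 2, 1, 1, 2, 0, 0, 0, 0]), (true, 164613, [2, 0, 2, 1, 1, 1, 3, 0, 0, 0, 3, 0]), (false, 217209, [2, 1, 3, 1, 2, 0, 0, 3, 1, 3, 1, 1]), (true, 122206, [2, 1, 3, 1, 2, 0, 0, 3, 1, 3, 1, 1, 2]), (false, 12810, [2, 0, 2, 1, 1, 1, 3, 0, 0, 0, 3, 0, 2]), (true, 96739, [1, 1, 1, 2, 1, 1, 2, 0, 0, 0, 0, 2]), (false, 2119, [3, 0, 0, 0, 0, 2, 1, 3, 0, 2, 0, 3]), (true, 6, [1, 3, 0, 2, 0, 2, 0, 0, 3, 1, 2])], [(false, 10614, [1, 3, 0, 2, 0, 2, 0, 0, 3, 1]), (true, 91797, [1, 1, 3, 1, 2, 0,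 0, 0, 3, 0, 3]), (false, 298683, [2, 1, 1, 1, 1, 2, 0, 0, 3, 0, 0, 0, 2]), (true, 183443, [0, 2, 0, 3, 1, 1, 1, 1, 2, 1, 2, 0, 3]), (true, 254025, [0, 0, 2, 0, 3, 1, 2, 1, 1, 3, 0, 0, 0]), (false, 221125, [3, 0, 0, 0, 2, 0, 0, 0, 2, 1]), (false, 92623, [0, 2, 0, 2, 0, 0, 3, 1, 1, 1, 1, 1, 1, 2]), (false, 787, [0, 2, 0, 0, 3, 0, 2, 1, 1, 2, 0, 3, 1, 2]), (false, 142463, [2, 1, 3, 0, 2, 1, 3, 1, 2, 1]), (true, 143970, [3, 0, 0, 3, 0, 0, 0, 0, 3, 1, 1, 1, 1]), (true, 12, [1, 3, 0, 0, 2, 0, 2, 1, 1, 1, 2, 0, 0])], [(false, 10614, [1, 3, 0, 2, 0, 2, 0, 0, 3, 1]), (true, 62001, [3, 0, 0, 0, 0, 2, 1, 3, 0, 2, 0, 2]), (false, 48357, [1, 1, 1, 2, 1, 1, 2, 0, 0, 0, 0]), (true, 164613, [2, 0, 2, 1,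 1, 1, 3, 0, 0, 0, 3, 0]), (false, 217209, [2, 1, 3, 1, 2, 0, 0, 3, 1, 3, 1, 1]), (true, 82255, [2, 1, 3, 1, 2, 0, 0, 3, 1, 3, 1, 1, 3]), (false, 32700, [2, 0, 2, 1, 1, 1, 3, 0, 0, 0, 3, 0, 3]), (true, 292751, [1, 1, 1, 2, 1, 1, 2, 0, 0, 0, 0, 3]), (false, 53589, [3, 0, 0, 0, 0, 2, 1, 3, 0, 2, 0]), (true, 24, [1, 3, 0, 2, 0, 2, 0, 0, 3, 1, 3])], [(false, 10614, [1, 3, 0, 2, 0, 2, 0, 0, 3, 1]), (false, 172173, [0, 0, 2, 0, 3, 0, 3, 1, 2, 0, 2, 1, 2]), (false, 269438, [0, 0, 0, 2, 1, 2, 0, 0, 0, 2, 1, 3, 0]), (true, 174809, [3, 1, 3, 1, 3, 1, 3, 0, 3, 1, 2, 1]), (true, 175029, [1, 3, 1, 2, 0, 2, 0, 2, 0, 2, 1, 1]), (false, 34004, [2, 0, 2, 0, 2, 1, 1, 2, 1, 2, 0, 2, 0]), (false, 305871, [2,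 0, 2, 1, 3, 1, 3, 0, 3, 1, 2]), (false, 294489, [1, 3, 0, 0, 3, 0, 3, 1, 2, 0, 3, 1, 2]), (false, 51, [0, 3, 1, 1, 2, 0, 0, 0, 0, 3, 1, 1])], [(false, 10614, [1, 3, 0, 2, 0, 2, 0, 0, 3, 1]), (true, 91797, [1, 1, 3, 1, 2, 0, 0, 0, 3, 0, 3]), (false, 289329, [3, 1, 1, 2, 0, 3, 1, 1, 2, 1, 2]), (true, 265234, [0, 3, 1, 3, 1, 3, 0, 0, 2, 0, 0, 3]), (false, 62285, [1, 3, 0, 2, 1, 3, 0, 3, 1]), (false, 139819, [2, 1, 3, 1, 1, 1, 2, 0, 0, 3, 1, 1, 1]), (false, 154263, [1, 2, 0, 3, 1, 3, 0, 3, 1, 1, 3, 1, 1]), (true, 166744, [3, 1, 3, 0, 2, 1, 1, 3, 0, 0, 2, 0, 0]), (false, 2892, [3, 0, 0, 0, 3, 0, 2, 0, 2, 0, 2, 0, 2]), (false, 246895, [1, 3, 0, 0, 3, 1, 1, 1, 1, 1, 3, 1]), (true, 113, [2, 0, 2,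 0, 2, 0, 2, 1, 2, 0, 3, 1, 1])], [(false, 10614, [1, 3, 0, 2, 0, 2, 0, 0, 3, 1]), (false, 172173, [0, 0, 2, 0, 3, 0, 3, 1, 2, 0, 2, 1, 2]), (false, 268625, [0, 0, 2, 0, 0, 3, 0, 3, 0, 3, 0, 3, 0, 0]), (true, 95902, [0, 2, 1, 3, 1, 3, 1, 2, 0, 3, 1, 3]), (false, 121297, [0, 2, 1, 3, 1, 2, 1, 2, 0, 3, 1, 3]), (true, 118887, [0, 0, 3, 0, 3, 1, 3, 1, 1, 1, 3, 0, 0]), (false, 209567, [0, 0, 3, 0, 3, 0, 2, 1, 1, 1, 1, 3, 1]), (true, 234725, [1, 1, 3, 1, 3, 0, 3, 1, 1, 1, 1, 2]), (false, 276652, [3, 0, 0, 0, 3, 1, 1, 1, 2, 0, 3, 1]), (false, 249, [0, 0, 3, 0, 2, 1, 1, 1, 2, 0, 3, 1, 2])], [(false, 10614, [1, 3, 0, 2, 0, 2, 0, 0, 3, 1]), (true, 91797, [1, 1, 3, 1, 2, 0, 0, 0, 3, 0, 3]), (false,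 289329, [3, 1, 1, 2, 0, 3, 1, 1, 2, 1, 2]), (true, 92354, [1, 3, 0, 0, 0, 2, 0, 0, 2, 0, 2, 0, 0]), (true, 11191, [1, 1, 1, 2, 1, 2, 1, 1, 1, 1]), (false, 301450, [3, 1, 2, 0, 0, 0, 0, 2, 1, 2, 0, 3, 0]), (false, 273608, [0, 2, 0, 0, 3, 0, 3, 0, 2, 0, 2, 1, 1]), (true, 73792, [1, 1, 3, 1, 1, 1, 1, 2, 0, 0, 2, 0, 3]), (true, 510, [1, 2, 1, 1, 1, 2, 1, 3, 1, 1, 2, 1, 1])], [(false, 10614, [1, 3, 0, 2, 0, 2, 0, 0, 3, 1]), (true, 62001, [3, 0, 0, 0, 0, 2, 1, 3, 0, 2, 0, 2]), (false, 167451, [0, 0, 2, 1, 2, 0, 0, 2, 1, 1, 3, 0, 3, 1]), (false, 80445, [3, 1, 2, 1, 3, 0, 3, 0, 0, 0, 0, 2, 1]), (false, 252303, [0, 0, 0, 2, 0, 2, 0, 2, 1, 3, 1, 1, 3]), (false, 14558, [1, 2, 0, 3, 0, 2, 0, 2, 1, 1,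 3, 1]), (true, 188258, [3, 0, 0, 0, 2, 0, 0, 2, 0, 2, 1, 1, 2]), (false, 7489, [0, 2, 0, 0, 2, 1, 1, 1, 1, 2, 1, 3, 1, 2]), (true, 964, [1, 2, 0, 0, 3, 1, 3, 0, 0, 3, 0, 0, 2])], [(false, 10614, [1, 3, 0, 2, 0, 2, 0, 0, 3, 1]), (false, 172173, [0, 0, 2, 0, 3, 0, 3, 1, 2, 0, 2, 1, 2]), (false, 268625, [0, 0, 2, 0, 0, 3, 0, 3, 0, 3, 0, 3, 0, 0]), (true, 296813, [0, 0, 0, 3, 0, 3, 0, 0, 0, 2, 0]), (true, 286619, [2, 0, 0, 3, 0, 3, 1, 2, 0, 3, 1, 1, 2]), (false, 159359, [2, 0, 0, 2, 0, 3, 1, 1, 1, 2, 1, 2]), (true, 3819, [1, 2, 1, 3, 1, 1, 2, 1, 1, 1, 3, 1, 2]), (false, 116, [0, 0, 2, 1, 1, 1, 1, 3, 0, 2, 0, 0, 3])], [(false, 285632, [0, 0, 3, 0, 3, 1, 2, 0, 0, 2, 0, 0, 0, 3]), (false, 285686,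 [1, 2, 1, 3, 0, 0, 0, 3, 0, 2, 1, 3, 0]), (true, 104049, [0, 0, 0, 3, 1, 3, 0, 0, 2, 0, 2, 0, 2, 1]), (false, 187070, [0, 2, 1, 1, 3, 1, 3, 0, 2, 1, 1, 2, 0]), (false, 9045, [3, 0, 0, 0, 0, 0, 3, 0, 0, 2, 1]), (false, 302044, [0, 0, 2, 1, 2, 1, 3, 1, 1, 3, 0, 3, 0, 3]), (false, 240208, [3, 0, 0, 2, 1, 2, 0, 2, 1, 1, 3, 0, 0]), (true, 254, [1, 1, 2, 1, 3, 1, 3, 1, 3, 1, 3, 0])]]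
  wit := 0

end Cfsg.Agent.H87.Fi24Out
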