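import Cfsg.Agent.H87.Fi24Out.Sound

/-!
The group-theoretic facts: two trivial centralisers, the elements of order 3 commuting with the
element of order 14, and generation.
-/

set_option autoImplicit false

namespace Cfsg.Agent.H87.Fi24Out

variable {M : Model} {D : Data}

/-- the involution -/
noncomputable abbrev uE : X := op uw

/-- the element of order 29 -/
noncomputable abbrev yE (D : Data) : X := op D.yw

/-- the normalising element -/
noncomputable abbrev gE (D : Data) : X := op D.gw

/-- the element of order 14 -/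
noncomputable abbrev hE (D : Data) : X := op (D.gw ++ D.gw)

/-- the element of order 3 -/
noncomputable abbrev cE (D : Data) : X := op D.cw

theorem op_nil : op [] = 1 := rfl

theorem hE_eq (D : Data) : hE D = gE D * gE D := op_append _ _

variable (hD : OK M D)
include hD

theorem OK.word_facts :
    yE D * uE * (yE D * uE) = 1 ∧ yE D ^ 29 = 1 ∧ yE D ≠ 1 ∧
      gE D * yE D = yE D ^ 2 * gE D ∧ gE D ^ 14 = uE ∧ cE D ^ 3 = 1 ∧
      cE D * hE D = hE D * cE D ∧ cE D ≠ 1 ∧ yE D ∈ N ∧ cE D ∈ N ∧ uE * uE = 1 := by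
  obtain ⟨ly, lg, lc⟩ := hD.lts
  have h := hD.words
  simp only [wordsB, Bool.and_eq_true, Nat.beq_eq, wk_eq, Bool.not_eq_true'] at h
  obtain ⟨⟨⟨⟨⟨⟨⟨⟨⟨⟨⟨⟨⟨-, -⟩, -⟩, py⟩, pc⟩, h1⟩, h2⟩, h3⟩, h4⟩, h5⟩, h6⟩, h7⟩, h8⟩, h9⟩ := h
  have n0 : Lt [] := by simp [Lt]
  refine ⟨?_, ?_, ?_, ?_, ?_, ?_, ?_, ?_, (op_mem ly).1 py, (op_mem lc).1 pc, ?_⟩
  · have := M.eqW_sound (((Lt_uw.append ly).append Lt_uw).append ly) n0 h1
    simpa [op_append, op_nil, mul_assoc] using this
  · have := M.eqW_sound (ly.rep 29) n0 h2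
    simpa [op_rep, op_nil] using this
  · intro he
    have h' := M.op_walk ly M.o
    rw [show op D.yw = (1 : X) from he, map_one, Equiv.Perm.one_apply] at h'
    rw [← show (M.o : ℕ) = wV M.T D.yw 0 from h'] at h3
    simp [Model.o] at h3
  · have := M.eqW_sound (ly.append lg) (lg.append (ly.rep 2)) h4
    simpa [op_append, op_rep] using this
  · have := M.eqW_sound (lg.rep 14) Lt_uw h5
    simpa [op_rep] using this
  · have := M.eqW_sound (lc.rep 3) n0 h6
    simpa [op_rep, op_nil] using this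
  · have := M.eqW_sound (lc.append (lg.append lg)) ((lg.append lg).append lc) h7
    simpa [op_append, mul_assoc] using this.symm
  · intro he
    have h' := M.op_walk lc (hD.pt D.a0)
    rw [show op D.cw = (1 : X) from he, map_one, Equiv.Perm.one_apply] at h'
    have h'' : wV M.T D.cw (Pget D D.a0).1 = (Pget D D.a0).1 := h'.symm
    rw [h''] at h8
    simp at h8
  · have := M.eqW_sound (Lt_uw.append Lt_uw) n0 h9
    simpa [op_append, op_nil] using this

theorem OK.h_pow : hE D ^ 7 = uE := by
  rw [hE_eq, ← pow_two, ← pow_mul]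
  exact hD.word_facts.2.2.2.2.1

theorem OK.comm_u {x : X} (hx : x * hE D = hE D * x) : x * uE = uE * x := by
  rw [← hD.h_pow]
  exact (Commute.pow_right hx 7).eq

/-- no element other than one centralises both the element of order 29 and the involution -/
theorem OK.cent {x : X} (hy : x * yE D = yE D * x) (hu : x * uE = uE * x) : x = 1 := by
  have hy' : x * op D.yw = op D.yw * x := hy
  have h := hD.orbit
  simp only [orbitB, Bool.and_eq_true, List.all_eq_true, Bool.or_eq_true, Bool.not_eq_true',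
    Nat.beq_eq, wk_eq] at h
  obtain ⟨⟨⟨⟨⟨⟨hp, huniq⟩, -⟩, h0⟩, hstep⟩, hlen⟩, hpath⟩ := h
  set P0 := hD.pt D.pi
  have hfix : M.φ (op uw) (M.φ x P0) = M.φ x P0 := by
    rw [← Equiv.Perm.mul_apply, ← map_mul, ← hu, map_mul, Equiv.Perm.mul_apply,
      hD.pt_fix _ hD.pts.2.2.2.2.1]
  obtain ⟨i, hi, hxi⟩ := hD.mem_list hfix
  have hP0 : M.φ x P0 = P0 := by
    have hmap := patY_map hD.lts.1 hy' (hD.named D.pi) (hD.named i) (p := P0) rfl
      (congrArg Fin.val hxi) D.bitsY P0
    have hp' : patY M.T D.yw (Pget D D.pi) D.bitsY (P0 : ℕ) = true := hp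
    rw [hp', hxi] at hmap
    have hmem : Pget D i ∈ D.P := by
      rw [Pget, List.getD_eq_getElem _ _ hi]; exact List.getElem_mem hi
    rcases huniq _ hmem with h1 | h1
    · rw [show ((hD.pt i : Fin M.n) : ℕ) = (Pget D i).1 from rfl, h1] at hmap; cases hmap
    · rw [hxi]; exact Fin.ext h1
  have horb : ∀ k, k < D.Y.length → ∀ p : Fin M.n, (p : ℕ) = (genY D k).1 → M.φ x p = p := by
    intro k
    induction k with
    | zero =>
      intro _ p hp0
      obtain rfl : p = P0 := Fin.ext (hp0.trans h0)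
      exact hP0
    | succ k ih =>
      intro hk p hpk
      have hs := hstep k (List.mem_range.mpr (by omega))
      obtain ⟨a, ha, -⟩ := (hD.genY_named k).reach M
      obtain rfl : p = M.φ (op D.yw) a := by
        apply Fin.ext
        rw [M.op_walk hD.lts.1, ha, hs, hpk]
      rw [← Equiv.Perm.mul_apply, ← map_mul, hy', map_mul, Equiv.Perm.mul_apply,
        ih (by omega) a ha]
  refine M.eq_one fun l hl => ?_
  have hl' : l < D.yPath.length := by omega
  have h1 := allI_sound hpath l hl'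
  simp only [Nat.zero_add, Bool.and_eq_true, List.all_eq_true, Nat.blt_eq, ptK_eq, wk_eq,
    Nat.beq_eq] at h1
  obtain ⟨⟨hs0, hsteps⟩, hpt⟩ := h1
  set g : ℕ → ℕ × List ℕ := fun i => if i < D.Y.length then genY D i else genY D 0
  have hg : ∀ i, M.Named (g i) := by
    intro i; simp only [g]; split <;> exact hD.genY_named _
  have hY : 0 < D.Y.length := by omega
  have heq : ptP M.T g D.yPath[l].1 D.yPath[l].2 = ptP M.T (genY D) D.yPath[l].1 D.yPath[l].2 := by
    unfold ptP
    rw [show g D.yPath[l].1 = genY D D.yPath[l].1 from if_pos hs0]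
    apply List.foldl_ext
    intro z i hi'
    rw [show g i = genY D i from if_pos (hsteps i hi')]
  apply Fin.ext
  rw [M.ptP_map x hg hg (fun i p hp1 => ?_) D.yPath[l].1 D.yPath[l].2 (q := M.pL l)
      (by rw [heq, hpt, M.pL_val]), heq, hpt, M.pL_val]
  simp only [g] at hp1 ⊢
  split at hp1 <;> rename_i hlt
  · rw [if_pos hlt, horb i hlt p hp1]; exact hp1
  · rw [if_neg hlt, horb 0 hY p hp1]; exact hp1

/-- only the involution centralises the element of order 14 and fixes the two base points -/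
theorem OK.stab {x : X} (hx : x * hE D = hE D * x) (ha : M.φ x (hD.pt D.a0) = hD.pt D.a0)
    (hb : M.φ x (hD.pt D.b0) = hD.pt D.b0) : x = 1 ∨ x = uE := by
  obtain ⟨-, -, -, -, -, la, lb⟩ := hD.pts
  have hall : ∀ i, i < D.P.length → M.φ x (hD.pt i) = hD.pt i := by
    intro i hi
    have hi' : i < D.fPath.length := by rw [hD.pts.2.1]; exact hi
    have h := allI_sound hD.fPath i hi'
    simp only [Nat.zero_add, ptK_eq, Nat.beq_eq] at h
    apply Fin.ext
    rw [hD.image hx la lb ha hb hi, List.getD_eq_getElem _ _ hi', h]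
    rfl
  have hsig := hD.sig
  simp only [sigOK, Bool.and_eq_true, List.all_eq_true, wk_eq, List.any_eq_true, Nat.beq_eq] at hsig
  obtain ⟨⟨⟨hin, hlen⟩, hrows⟩, hsepr⟩ := hsig
  have h8 : ∀ l ∈ L8, M.φ x (M.pL l) = M.pL l := by
    intro l hl
    obtain ⟨a, ha', he⟩ := hin l hl
    obtain ⟨i, hi, rfl⟩ := List.getElem_of_mem ha'
    obtain hp : M.pL l = hD.pt i := by
      apply Fin.ext
      rw [M.pL_val, ← he]
      show _ = (Pget D i).1
      rw [Pget, List.getD_eq_getElem _ _ hi]
    rw [hp, hall i hi]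
  have hgen : ∀ i, ∀ p : Fin M.n, (p : ℕ) = (Fi24Out.gen D D.a0 D.b0 i).1 → M.φ x p = p :=
    fun i p hp => Fin.ext ((hD.gen_map hx la lb la lb ha hb i p hp).trans hp.symm)
  -- one of the four remaining letters has at most two possible images
  have hfour : ∀ k, k < 4 → ∀ y : X, (∀ l ∈ L8, M.φ y (M.pL l) = M.pL l) →
      (∀ i, ∀ p : Fin M.n, (p : ℕ) = (Fi24Out.gen D D.a0 D.b0 i).1 → M.φ y p = p) →
      M.φ y (M.pL (2 * k + 1)) = M.pL (2 * k + 1) ∨
        M.φ y (M.pL (2 * k + 1)) = M.φ (op uw) (M.pL (2 * k + 1)) := by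
    intro k hk y y8 ygen
    have hk' : k < D.sig.length := by omega
    have hrow := allI_sound hrows k hk'
    simp only [Nat.zero_add, Bool.and_eq_true, wk_eq, Nat.beq_eq] at hrow
    obtain ⟨⟨⟨hlk, hq, hu'⟩, hbits⟩, h9⟩ := hrow
    set s := D.sig[k] with hs_def
    have hQ : ((M.pL (2 * k + 1) : Fin M.n) : ℕ) = s.2.1 := by rw [M.pL_val, ← hlk]; exact hq
    set z := M.φ y (M.pL (2 * k + 1))
    have hfix_iff : ∀ r : X, y * r = r * y →
        (M.φ r z = z ↔ M.φ r (M.pL (2 * k + 1)) = M.pL (2 * k + 1)) := by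
      intro r hr
      simp only [z]
      rw [← Equiv.Perm.mul_apply, ← map_mul, ← hr, map_mul, Equiv.Perm.mul_apply]
      exact (M.φ y).injective.eq_iff
    have hT : ∀ l ∈ L8, ∀ q : Fin M.n, M.T (q : ℕ) l = ((M.φ (e l) q : Fin M.n) : ℕ) := by
      intro l hl q
      rw [M.act l (by simp [L8] at hl; omega) q]
    have hsame : ∀ (ls : List ℕ), (∀ l ∈ ls, l ∈ L8) → ∀ (bs : List Bool) (i : ℕ),
        sigB M.T D (z : ℕ) bs ls i = sigB M.T D ((M.pL (2 * k + 1) : Fin M.n) : ℕ) bs ls i := by
      intro ls hls bs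
      induction bs generalizing ls with
      | nil => intro i; rfl
      | cons b bs ih =>
        intro i
        cases ls with
        | nil =>
          simp only [sigB, dK, wk_eq]
          rw [ih [] (by simp) (i + 1)]
          congr 2
          obtain ⟨a, ha', -⟩ := (hD.gen_named D.a0 D.b0 i).reach M
          change Nat.beq (dV M.T _ (z : ℕ)) _ = Nat.beq (dV M.T _ _) _
          rw [(hD.gen_named D.a0 D.b0 i).dV_eq M ha', (hD.gen_named D.a0 D.b0 i).dV_eq M ha',
            Bool.eq_iff_iff, Nat.beq_eq, Nat.beq_eq, ← Fin.ext_iff, ← Fin.ext_iff]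
          refine hfix_iff _ ?_
          have h2 := M.conj_dp y a
          rw [ygen i a ha', mul_inv_eq_iff_eq_mul] at h2
          exact h2
        | cons l ls =>
          simp only [sigB]
          rw [ih ls (fun l' hl' => hls l' (List.mem_cons_of_mem _ hl')) i]
          congr 2
          have hl := hls l List.mem_cons_self
          rw [hT l hl, hT l hl, Bool.eq_iff_iff, Nat.beq_eq, Nat.beq_eq, ← Fin.ext_iff,
            ← Fin.ext_iff]
          refine hfix_iff _ ?_
          have h2 := M.conj_dp y (M.pL l)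
          rw [y8 l hl, M.dp_pL (by simp [L8] at hl; omega), mul_inv_eq_iff_eq_mul] at h2
          exact h2
    have hscan := hD.scan z z.isLt
    simp only [scanB, Bool.and_eq_true, List.all_eq_true, Bool.or_eq_true, Bool.not_eq_true',
      Nat.beq_eq] at hscan
    have hz9 : M.T (z : ℕ) 9 = z := by
      have hQ9 : M.φ (e 9) (M.pL (2 * k + 1)) = M.pL (2 * k + 1) := by
        apply Fin.ext
        rw [M.act 9 (by norm_num), hQ]
        exact h9
      rw [← M.act 9 (by norm_num), (hfix_iff _ ?_).mpr hQ9]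
      have h2 := M.conj_dp y (M.pL 9)
      rw [y8 9 (by simp [L8]), M.dp_pL (by norm_num), mul_inv_eq_iff_eq_mul] at h2
      exact h2
    have hscan2 : ∀ s ∈ D.sig, (sigB M.T D (z : ℕ) s.2.2.2 L8 0 = false ∨ (z : ℕ) = s.2.1) ∨
        (z : ℕ) = s.2.2.1 := by
      rcases hscan.2 with h | h
      · exact absurd hz9 (by intro hh; rw [hh] at h; simp at h)
      · exact h
    have h3 := hscan2 s (List.getElem_mem hk')
    rw [hsame L8 (fun _ h => h) s.2.2.2 0, hQ, hbits] at h3
    rcases h3 with (h3 | h3) | h3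
    · exact absurd h3 (by simp)
    · exact Or.inl (Fin.ext (h3.trans hQ.symm))
    · refine Or.inr (Fin.ext (h3.trans ?_))
      rw [M.op_walk Lt_uw, hQ, ← hq, hu']
  -- an element fixing the point of `k` fixes all of them
  have key : ∀ y : X, (∀ l ∈ L8, M.φ y (M.pL l) = M.pL l) →
      (∀ i, ∀ p : Fin M.n, (p : ℕ) = (Fi24Out.gen D D.a0 D.b0 i).1 → M.φ y p = p) →
      M.φ y (M.pL 1) = M.pL 1 → y = 1 := by
    intro y y8 ygen y1
    have hodd : ∀ k, k < 4 → M.φ y (M.pL (2 * k + 1)) = M.pL (2 * k + 1) := by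
      intro k
      induction k with
      | zero => intro _; exact y1
      | succ k ih =>
        intro hk
        have hk' : k + 1 < D.sig.length := by omega
        have hs := allI_sound hsepr (k + 1) hk'
        have hrow := allI_sound hrows (k + 1) hk'
        simp only [Nat.zero_add, Bool.and_eq_true, wk_eq, Nat.beq_eq] at hrow
        obtain ⟨⟨⟨hlk, hq, hu'⟩, -⟩, -⟩ := hrow
        have hQ : ((M.pL (2 * (k + 1) + 1) : Fin M.n) : ℕ) = D.sig[k + 1].2.1 := by
          rw [M.pL_val, ← hlk]; exact hq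
        rcases hfour (k + 1) hk y y8 ygen with h | h
        · exact h
        · exfalso
          have hc := M.conj_dp y (M.pL (2 * k + 1))
          rw [ih (by omega), M.dp_pL (by omega), mul_inv_eq_iff_eq_mul] at hc
          have hiff : M.φ (e (2 * k + 1)) (M.φ (op uw) (M.pL (2 * (k + 1) + 1))) =
              M.φ (op uw) (M.pL (2 * (k + 1) + 1)) ↔
              M.φ (e (2 * k + 1)) (M.pL (2 * (k + 1) + 1)) = M.pL (2 * (k + 1) + 1) := by
            rw [← h, ← Equiv.Perm.mul_apply, ← map_mul, ← hc, map_mul, Equiv.Perm.mul_apply]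
            exact (M.φ y).injective.eq_iff
          have hb0 : ((0 + (k + 1)).beq 0) = false := by
            rw [Bool.eq_false_iff]; simp
          simp only [Nat.zero_add] at hs hb0
          rw [hb0, Bool.false_or, Bool.not_eq_true'] at hs
          have heq : Nat.beq (M.T D.sig[k + 1].2.1 (2 * (k + 1) - 1)) D.sig[k + 1].2.1 =
              Nat.beq (M.T D.sig[k + 1].2.2.1 (2 * (k + 1) - 1)) D.sig[k + 1].2.2.1 := by
            rw [show 2 * (k + 1) - 1 = 2 * k + 1 by omega, ← hQ]
            have hu2 : D.sig[k + 1].2.2.1 =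
                ((M.φ (op uw) (M.pL (2 * (k + 1) + 1)) : Fin M.n) : ℕ) := by
              rw [M.op_walk Lt_uw, hQ, ← hq, hu']
            rw [hu2, ← M.act _ (by omega), ← M.act _ (by omega),
              Bool.eq_iff_iff, Nat.beq_eq, Nat.beq_eq, ← Fin.ext_iff, ← Fin.ext_iff]
            exact hiff.symm
          rw [heq] at hs
          revert hs
          cases Nat.beq (M.T D.sig[k + 1].2.2.1 (2 * (k + 1) - 1)) D.sig[k + 1].2.2.1 <;>
            simp [iffB]
    refine M.eq_one fun l hl => ?_
    by_cases hl8 : l ∈ L8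
    · exact y8 l hl8
    · simp [L8] at hl8
      obtain ⟨k, hk, rfl⟩ : ∃ k, k < 4 ∧ l = 2 * k + 1 := ⟨l / 2, by omega, by omega⟩
      exact hodd k hk
  have hu_fix : ∀ i, i < D.P.length → M.φ (op uw) (hD.pt i) = hD.pt i := hD.pt_fix
  rcases hfour 0 (by norm_num) x h8 hgen with h | h
  · exact Or.inl (key x h8 hgen h)
  · refine Or.inr ?_
    have huu : (op uw : X) * op uw = 1 := hD.word_facts.2.2.2.2.2.2.2.2.2.2
    have hux : op uw * x = 1 := by
      refine key (op uw * x) (fun l hl => ?_) (fun i p hp => ?_) ?_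
      · rw [map_mul, Equiv.Perm.mul_apply, h8 l hl]
        obtain ⟨a, ha', he⟩ := hin l hl
        obtain ⟨i, hi, rfl⟩ := List.getElem_of_mem ha'
        have hp : M.pL l = hD.pt i := by
          apply Fin.ext
          rw [M.pL_val, ← he]
          show _ = (Pget D i).1
          rw [Pget, List.getD_eq_getElem _ _ hi]
        rw [hp, hu_fix i hi]
      · rw [map_mul, Equiv.Perm.mul_apply, hgen i p hp]
        obtain rfl : p = hD.pt (Fi24Out.hp D (i % 7) (cond (Nat.blt (i % 14) 7) D.a0 D.b0)) := Fin.ext hp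
        refine hu_fix _ (hD.hp_lt _ ?_)
        cases Nat.blt (i % 14) 7
        exacts [lb, la]
      · rw [map_mul, Equiv.Perm.mul_apply, h, ← Equiv.Perm.mul_apply, ← map_mul, huu, map_one,
          Equiv.Perm.one_apply]
    calc x = op uw * (op uw * x) := by rw [← mul_assoc, huu, one_mul]
      _ = op uw := by rw [hux, mul_one]

end Cfsg.Agent.H87.Fi24Out
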