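import Cfsg.Agent.H87.Fi24Out.Base

/-!
The letters as transpositions at twelve points, word equality at these points, and the commutator
subgroup.
-/

set_option autoImplicit false

namespace Cfsg.Agent.H87.Fi24Out

/-- adjacent letters satisfy the braid relation -/
theorem braid {a b : ℕ} (h : (a, b) ∈ [(0, 1), (1, 2), (2, 3), (3, 4), (4, 5), (5, 6), (6, 7),
    (7, 8), (8, 9), (5, 10), (10, 11)]) : e a * e b * e a = e b * e a * e b := by
  have key : (e a * e b) ^ 3 = 1 := by
    have rel : ∀ x y : Spor.Fi24.Gen, Spor.coxLabel Spor.Fi24.edges x y = 3 →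
        ((PresentedGroup.of x : X) * PresentedGroup.of y) ^ 3 = 1 := by
      intro x y hxy
      have hn : ∀ z : Spor.Fi24.Gen, z ∈ Spor.coxNodes Spor.Fi24.edges := by
        intro z; cases z <;> decide
      have h1 : PresentedGroup.mk (Spor.coxRelators Spor.Fi24.edges ∪ {r | r ∈ Spor.Fi24.extra})
          ((FreeGroup.of x * FreeGroup.of y) ^ Spor.coxLabel Spor.Fi24.edges x y) = 1 :=
        PresentedGroup.one_of_mem (Or.inl ⟨x, hn x, y, hn y, rfl⟩)
      rw [hxy, map_pow, map_mul] at h1
      exact h1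
    simp only [List.mem_cons, Prod.mk.injEq, List.not_mem_nil, or_false] at h
    rcases h with h | h | h | h | h | h | h | h | h | h | h <;>
      obtain ⟨rfl, rfl⟩ := h <;> exact rel _ _ (by decide)
  have h2 : (e a * e b * e a) * (e b * e a * e b) = 1 := by
    rw [← key, pow_succ, pow_succ, pow_one]
    simp [mul_assoc]
  rw [eq_inv_of_mul_eq_one_left h2, mul_inv_rev, mul_inv_rev, e_inv, e_inv, mul_assoc]

/-- words leading to the transpositions of the letters -/
def qv : ℕ → List ℕ
  | 1 => [1, 0]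
  | 2 => [1, 0, 2, 1]
  | 3 => [1, 0, 2, 1, 3, 2]
  | 4 => [1, 0, 2, 1, 3, 2, 4, 3]
  | 5 => [1, 0, 2, 1, 3, 2, 4, 3, 5, 4]
  | 6 => [1, 0, 2, 1, 3, 2, 4, 3, 5, 4, 6, 5]
  | 7 => [1, 0, 2, 1, 3, 2, 4, 3, 5, 4, 6, 5, 7, 6]
  | 8 => [1, 0, 2, 1, 3, 2, 4, 3, 5, 4, 6, 5, 7, 6, 8, 7]
  | 9 => [1, 0, 2, 1, 3, 2, 4, 3, 5, 4, 6, 5, 7, 6, 8, 7, 9, 8]
  | 10 => [1, 0, 2, 1, 3, 2, 4, 3, 5, 4, 10, 5]
  | 11 => [1, 0, 2, 1, 3, 2, 4, 3, 5, 4, 10, 5, 11, 10]
  | _ => []

theorem qv_lt (l : ℕ) : Lt (qv l) := by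
  unfold qv
  split <;> simp [Lt]

theorem dW_qv : ∀ l, l < 12 → op (dW (qv l)) = e l := by
  have step : ∀ {a b : ℕ} {v : List ℕ}, (a, b) ∈ [(0, 1), (1, 2), (2, 3), (3, 4), (4, 5), (5, 6),
      (6, 7), (7, 8), (8, 9), (5, 10), (10, 11)] → op (dW v) = e a →
      op (dW (v ++ [b, a])) = e b := by
    intro a b v hab hv
    have he : op [b, a] = e a * e b := by simp [op]
    rw [op_dW, op_append, he, mul_inv_rev, mul_inv_rev, e_inv, e_inv]
    have hv' : op v * e 0 * (op v)⁻¹ = e a := by rw [← op_dW]; exact hv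
    calc e a * e b * op v * e 0 * ((op v)⁻¹ * (e b * e a))
        = e a * e b * (op v * e 0 * (op v)⁻¹) * (e b * e a) := by group
      _ = e a * (e b * e a * e b) * e a := by rw [hv']; group
      _ = e a * e a * e b * (e a * e a) := by rw [← braid hab]; group
      _ = e b := by rw [e_sq]; simp
  have q0 : op (dW (qv 0)) = e 0 := by simp [qv, dW, op]
  have q1 : op (dW (qv 1)) = e 1 := step (a := 0) (v := qv 0) (by simp) q0
  have q2 : op (dW (qv 2)) = e 2 := step (a := 1) (v := qv 1) (by simp) q1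
  have q3 : op (dW (qv 3)) = e 3 := step (a := 2) (v := qv 2) (by simp) q2
  have q4 : op (dW (qv 4)) = e 4 := step (a := 3) (v := qv 3) (by simp) q3
  have q5 : op (dW (qv 5)) = e 5 := step (a := 4) (v := qv 4) (by simp) q4
  have q6 : op (dW (qv 6)) = e 6 := step (a := 5) (v := qv 5) (by simp) q5
  have q7 : op (dW (qv 7)) = e 7 := step (a := 6) (v := qv 6) (by simp) q6
  have q8 : op (dW (qv 8)) = e 8 := step (a := 7) (v := qv 7) (by simp) q7
  have q9 : op (dW (qv 9)) = e 9 := step (a := 8) (v := qv 8) (by simp) q8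
  have q10 : op (dW (qv 10)) = e 10 := step (a := 5) (v := qv 5) (by simp) q5
  have q11 : op (dW (qv 11)) = e 11 := step (a := 10) (v := qv 10) (by simp) q10
  intro l hl
  interval_cases l <;> assumption

variable (M : Model)

/-- the point of a letter -/
noncomputable def Model.pL (l : ℕ) : Fin M.n := M.φ (op (qv l)) M.o

theorem Model.pL_val (l : ℕ) : ((M.pL l : Fin M.n) : ℕ) = wV M.T (qv l) 0 :=
  M.op_walk (qv_lt l) M.o

theorem Model.dp_pL {l : ℕ} (hl : l < 12) : M.dp (M.pL l) = e l := by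
  rw [M.dp_eq (g := op (qv l)) (p := M.pL l) rfl, ← op_dW, dW_qv l hl]

theorem closure_e : Subgroup.closure {g : X | ∃ l, l < 12 ∧ e l = g} = ⊤ := by
  rw [eq_top_iff, ← PresentedGroup.closure_range_of, Subgroup.closure_le]
  rintro _ ⟨x, rfl⟩
  apply Subgroup.subset_closure
  cases x
  exacts [⟨0, by norm_num, rfl⟩, ⟨1, by norm_num, rfl⟩, ⟨2, by norm_num, rfl⟩,
    ⟨3, by norm_num, rfl⟩, ⟨4, by norm_num, rfl⟩, ⟨5, by norm_num, rfl⟩, ⟨6, by norm_num, rfl⟩,
    ⟨7, by norm_num, rfl⟩, ⟨8, by norm_num, rfl⟩, ⟨9, by norm_num, rfl⟩, ⟨10, by norm_num, rfl⟩,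
    ⟨11, by norm_num, rfl⟩]

/-- an element fixing the twelve points is trivial -/
theorem Model.eq_one {g : X} (hg : ∀ l, l < 12 → M.φ g (M.pL l) = M.pL l) : g = 1 := by
  have hc : ∀ x : X, g * x = x * g := by
    intro x
    have hx : x ∈ Subgroup.centralizer {g} := by
      have hle : Subgroup.closure {g : X | ∃ l, l < 12 ∧ e l = g} ≤ Subgroup.centralizer {g} := by
        rw [Subgroup.closure_le]
        rintro _ ⟨l, hl, rfl⟩
        rw [SetLike.mem_coe, Subgroup.mem_centralizer_singleton_iff]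
        have h := M.conj_dp g (M.pL l)
        rw [hg l hl, M.dp_pL hl, mul_inv_eq_iff_eq_mul] at h
        exact h.symm
      rw [closure_e] at hle
      exact hle (Subgroup.mem_top x)
    rw [Subgroup.mem_centralizer_singleton_iff] at hx
    exact hx.symm
  apply M.inj
  rw [map_one]
  refine Equiv.ext fun p => ?_
  obtain ⟨k, hk⟩ := M.trans p
  have h0 : M.φ g M.o = M.o := (M.stab g).mpr (hc (e 0))
  have hk' : M.φ k M.o = p := hk
  rw [Equiv.Perm.one_apply, ← hk', ← Equiv.Perm.mul_apply, ← map_mul, hc k, map_mul,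
    Equiv.Perm.mul_apply, h0]

/-- equality of two words at the twelve points -/
noncomputable def eqW (T : ℕ → ℕ → ℕ) (u v : List ℕ) : Bool :=
  (List.range 12).all fun l => wk T (qv l) 0 fun p => wk T u p fun a => wk T v p fun b => Nat.beq a b

theorem Model.eqW_sound {u v : List ℕ} (hu : Lt u) (hv : Lt v) (h : eqW M.T u v = true) :
    op u = op v := by
  simp only [eqW, List.all_eq_true, wk_eq, Nat.beq_eq, List.mem_range] at h
  apply M.eq_of_points (S := (List.range 12).map M.pL)
  · intro g hg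
    exact M.eq_one fun l hl => hg _ (List.mem_map.mpr ⟨l, List.mem_range.mpr hl, rfl⟩)
  · intro p hp
    obtain ⟨l, hl, rfl⟩ := List.mem_map.mp hp
    apply Fin.ext
    rw [M.op_walk hu, M.op_walk hv, M.pL_val]
    exact h l (List.mem_range.mp hl)

/-- the sign -/
noncomputable def sgn : X →* ℤˣ := PresentedGroup.toGroup (f := fun _ => (-1 : ℤˣ)) (by
  rintro r (⟨x, hx, y, hy, rfl⟩ | hr)
  · simp [map_pow]
  · simp only [Spor.Fi24.extra, Set.mem_setOf_eq, List.mem_cons, List.not_mem_nil, or_false] at hr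
    rcases hr with rfl | rfl <;>
      simp [Spor.Fi24.l, Spor.Fi24.k, Spor.Fi24.a, Spor.Fi24.b, Spor.Fi24.c, Spor.Fi24.d,
        Spor.Fi24.e, Spor.Fi24.f, Spor.Fi24.g, Spor.Fi24.j, Spor.Fi24.h, Spor.Fi24.i, map_pow,
        map_inv] <;> decide)

/-- the simple group -/
abbrev N : Subgroup X := commutator X

theorem e0_not_mem : e 0 ∉ N := by
  intro h
  have h1 : sgn (e 0) = 1 := MonoidHom.mem_ker.mp (Abelianization.commutator_subset_ker sgn h)
  have h2 : sgn (e 0) = -1 := PresentedGroup.toGroup.of _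
  rw [h2] at h1
  exact absurd h1 (by decide)

theorem e_mul_e0_mem {l : ℕ} (hl : l < 12) : e l * e 0 ∈ N := by
  rw [← dW_qv l hl, op_dW]
  have h := Subgroup.commutator_mem_commutator (Subgroup.mem_top (op (qv l)))
    (Subgroup.mem_top (e 0))
  rw [← commutator_def, commutatorElement_def, e_inv] at h
  exact h

/-- products of an even number of letters lie in the commutator subgroup -/
theorem op_mem : ∀ {w : List ℕ}, Lt w → (w.length % 2 = 0 → op w ∈ N) ∧
    (w.length % 2 = 1 → op w * e 0 ∈ N) := by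
  intro w
  induction w with
  | nil => intro _; simp [op]
  | cons l w ih =>
    intro hw
    have hl := hw l List.mem_cons_self
    obtain ⟨i0, i1⟩ := ih fun x hx => hw x (List.mem_cons_of_mem _ hx)
    have hn : (N : Subgroup X).Normal := by unfold N; infer_instance
    constructor
    · intro h
      have h1 := i1 (by simp at h; omega)
      have hx : e 0 * e l ∈ N := by
        simpa [e_inv] using N.inv_mem (e_mul_e0_mem hl)
      have : op w * e l = op w * e 0 * (e 0 * e l) := by
        rw [mul_assoc, ← mul_assoc (e 0) (e 0), e_sq, one_mul]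
      rw [op, this]
      exact N.mul_mem h1 hx
    · intro h
      have h0 := i0 (by simp at h; omega)
      rw [op, mul_assoc]
      exact N.mul_mem h0 (e_mul_e0_mem hl)

/-- a subgroup containing all products `e l * e 0` contains the commutator subgroup -/
theorem N_le {K : Subgroup X} (hK : K ≤ N) (h : ∀ l, l < 12 → e l * e 0 ∈ K) : N ≤ K := by
  have key : ∀ g : X, ∀ x : X, (x ∈ K ∨ x * e 0 ∈ K) → (x * g ∈ K ∨ x * g * e 0 ∈ K) := by
    intro g
    have hg : g ∈ Subgroup.closure {g : X | ∃ l, l < 12 ∧ e l = g} := by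
      rw [closure_e]; exact Subgroup.mem_top g
    induction hg using Subgroup.closure_induction'' with
    | one => intro x hx; simpa using hx
    | mem g hg =>
      obtain ⟨l, hl, rfl⟩ := hg
      rintro x (hx | hx)
      · exact Or.inr (by simpa [mul_assoc] using K.mul_mem hx (h l hl))
      · refine Or.inl ?_
        have := K.mul_mem hx (K.inv_mem (h l hl))
        simpa [mul_assoc, e_inv, ← mul_assoc (e 0) (e 0), e_sq] using this
    | inv_mem g hg =>
      obtain ⟨l, hl, rfl⟩ := hg
      rw [e_inv]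
      rintro x (hx | hx)
      · exact Or.inr (by simpa [mul_assoc] using K.mul_mem hx (h l hl))
      · refine Or.inl ?_
        have := K.mul_mem hx (K.inv_mem (h l hl))
        simpa [mul_assoc, e_inv, ← mul_assoc (e 0) (e 0), e_sq] using this
    | mul a b _ _ iha ihb => intro x hx; simpa [mul_assoc] using ihb _ (iha x hx)
  intro g hg
  rcases key g 1 (Or.inl K.one_mem) with h1 | h1
  · simpa using h1
  · exfalso
    apply e0_not_mem
    have := N.mul_mem (N.inv_mem hg) (hK h1)
    simpa [← mul_assoc] using this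

theorem N_index : N.index = 2 := by
  rw [Subgroup.index_eq_two_iff]
  refine ⟨e 0, fun g => ?_⟩
  have hg : g ∈ Subgroup.closure {g : X | ∃ l, l < 12 ∧ e l = g} := by
    rw [closure_e]; exact Subgroup.mem_top g
  have hn : (N : Subgroup X).Normal := by unfold N; infer_instance
  have hsgn : ∀ x : X, x ∈ N → sgn x = 1 := fun x hx =>
    MonoidHom.mem_ker.mp (Abelianization.commutator_subset_ker sgn hx)
  have hboth : g ∈ N ∨ g * e 0 ∈ N := by
    induction hg using Subgroup.closure_induction'' with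
    | one => exact Or.inl N.one_mem
    | mem g hg =>
      obtain ⟨l, hl, rfl⟩ := hg
      exact Or.inr (e_mul_e0_mem hl)
    | inv_mem g hg =>
      obtain ⟨l, hl, rfl⟩ := hg
      rw [e_inv]
      exact Or.inr (e_mul_e0_mem hl)
    | mul a b _ _ iha ihb =>
      rcases iha with ha | ha <;> rcases ihb with hb | hb
      · exact Or.inl (N.mul_mem ha hb)
      · exact Or.inr (by simpa [mul_assoc] using N.mul_mem ha hb)
      · refine Or.inr ?_
        have hc := hn.conj_mem b hb (e 0)
        have := N.mul_mem ha hc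
        simpa [mul_assoc, e_inv, ← mul_assoc (e 0) (e 0), e_sq] using this
      · refine Or.inl ?_
        have hc := hn.conj_mem _ hb (e 0)
        have := N.mul_mem ha hc
        simpa [mul_assoc, e_inv, ← mul_assoc (e 0) (e 0), e_sq] using this
  rcases hboth with h | h
  · refine Or.inr ⟨h, fun h2 => e0_not_mem ?_⟩
    simpa [← mul_assoc] using N.mul_mem (N.inv_mem h) h2
  · refine Or.inl ⟨h, fun h2 => e0_not_mem ?_⟩
    simpa [← mul_assoc] using N.mul_mem (N.inv_mem h2) h

end Cfsg.Agent.H87.Fi24Out
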