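import Cfsg.Prelude.Def_KGroupFacts
import Cfsg.Agent.H87.Fi24Out.Class

/-!
Every automorphism of the commutator subgroup is induced by the whole group.
-/

set_option autoImplicit false

namespace Cfsg.Agent.H87.Fi24Out

instance : (N : Subgroup X).Normal := by unfold N; infer_instance

/-- conjugation of the simple group by the whole group -/
noncomputable def conjN : X →* MulAut N := MulAut.conjNormal

theorem conjN_apply (g : X) (n : N) : ((conjN g n : N) : X) = g * n * g⁻¹ :=
  MulAut.conjNormal_apply g n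

theorem two_gen : ∀ j : ℕ, j < 29 → 1 ≤ j → ∃ i : ℕ, i < 28 ∧ 2 ^ i % 29 = j := by
  decide +kernel

variable {M : Model} {D : Data} (hD : OK M D)
include hD

theorem OK.gpow_conj : ∀ i : ℕ, gE D ^ i * yE D * (gE D ^ i)⁻¹ = yE D ^ (2 ^ i) := by
  have h1 : gE D * yE D * (gE D)⁻¹ = yE D ^ 2 := by
    rw [hD.word_facts.2.2.2.1]; group
  intro i
  induction i with
  | zero => simp
  | succ i ih =>
    calc gE D ^ (i + 1) * yE D * (gE D ^ (i + 1))⁻¹
        = gE D * (gE D ^ i * yE D * (gE D ^ i)⁻¹) * (gE D)⁻¹ := by rw [pow_succ']; group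
      _ = (gE D * yE D * (gE D)⁻¹) ^ (2 ^ i) := by rw [ih, conj_pow]
      _ = yE D ^ (2 ^ (i + 1)) := by rw [h1, ← pow_mul, pow_succ' 2 i]

theorem OK.comm_of_sq {x : X} (h : x * yE D ^ 4 = yE D ^ 4 * x) : x * yE D = yE D * x := by
  have h1 : (yE D ^ 4) ^ 22 = yE D := by
    rw [← pow_mul, show 4 * 22 = 29 * 3 + 1 from rfl, pow_succ, pow_mul, hD.word_facts.2.1,
      one_pow, one_mul]
  have h2 := (Commute.pow_right h 22).eq
  rwa [h1] at h2

theorem OK.hE_mem : hE D ∈ N := by
  have := hD.lts.2.1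
  refine (op_mem (this.append this)).1 ?_
  rw [List.length_append]; omega

/-- the centraliser of the simple group is trivial -/
theorem OK.cent_N {x : X} (hx : ∀ n : N, x * n = n * x) : x = 1 := by
  refine hD.cent (hx ⟨_, hD.word_facts.2.2.2.2.2.2.2.2.1⟩) ?_
  rw [← hD.h_pow]
  exact (Commute.pow_right (hx ⟨_, hD.hE_mem⟩) 7).eq

/-- Sylow: an automorphism maps the element of order 29 to a conjugate of a power -/
theorem OK.sylow_step (α : MulAut N) : ∃ w : X,
    ((α ⟨_, hD.word_facts.2.2.2.2.2.2.2.2.1⟩ : N) : X) = w * yE D * w⁻¹ := by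
  have hf := hD.word_facts
  set y : N := ⟨yE D, hf.2.2.2.2.2.2.2.2.1⟩ with hy_def
  classical
  have hfinX : Finite X := M.fin
  have hp : Fact (Nat.Prime 29) := ⟨by norm_num⟩
  have hy1 : y ≠ 1 := fun h => hf.2.2.1 (congrArg Subtype.val h)
  have hord : ∀ z : N, z ≠ 1 → z ^ 29 = 1 → ∃ P : Sylow 29 N, (P : Subgroup N) = Subgroup.zpowers z := by
    intro z hz1 hz
    have ho : orderOf z = 29 := orderOf_eq_prime hz hz1
    have hP : IsPGroup 29 (Subgroup.zpowers z) :=
      IsPGroup.of_card (n := 1) (by rw [Nat.card_zpowers, ho, pow_one])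
    obtain ⟨P, hPle⟩ := hP.exists_le_sylow
    refine ⟨P, (Subgroup.eq_of_le_of_card_ge hPle ?_).symm⟩
    rw [Nat.card_zpowers, ho]
    obtain ⟨m, hm⟩ := IsPGroup.iff_card.mp P.isPGroup'
    rw [hm]
    have hdvd : 29 ^ m ∣ 2 * 1255205709190661721292800 := by
      rw [← hm, ← M.card]
      exact (Subgroup.card_subgroup_dvd_card (P : Subgroup N)).trans
        (Subgroup.card_subgroup_dvd_card N)
    by_contra hgt
    have hm2 : 2 ≤ m := by
      by_contra hlt
      interval_cases m <;> norm_num at hgt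
    exact absurd ((pow_dvd_pow 29 hm2).trans hdvd) (by norm_num)
  have hy29 : y ^ 29 = 1 := Subtype.ext hf.2.1
  obtain ⟨P, hP⟩ := hord y hy1 hy29
  obtain ⟨Q, hQ⟩ := hord (α y) (by simpa using hy1) (by rw [← map_pow, hy29, map_one])
  obtain ⟨n, hn⟩ := MulAction.exists_smul_eq N P Q
  have hmem : α y ∈ (Q : Subgroup N) := by rw [hQ]; exact Subgroup.mem_zpowers _
  rw [← hn, Sylow.coe_subgroup_smul, hP, Subgroup.mem_pointwise_smul_iff_inv_smul_mem,
    mem_zpowers_iff_mem_range_orderOf, Finset.mem_image] at hmem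
  obtain ⟨j, hj, hje⟩ := hmem
  rw [Finset.mem_range, orderOf_eq_prime hy29 hy1] at hj
  have he : α y = n * y ^ j * n⁻¹ := by
    rw [hje]
    simp [MulAut.smul_def, MulAut.conj_apply, mul_assoc]
  have hj1 : 1 ≤ j := by
    by_contra h0
    rw [show j = 0 by omega, pow_zero, mul_one, mul_inv_cancel] at he
    exact hy1 (α.map_eq_one_iff.mp he)
  obtain ⟨i, -, hi⟩ := two_gen j hj hj1
  refine ⟨(n : X) * gE D ^ i, ?_⟩
  have hpow : yE D ^ (2 ^ i) = yE D ^ j := by
    rw [← hi]
    conv_lhs => rw [← Nat.div_add_mod (2 ^ i) 29, pow_add, pow_mul, hf.2.1, one_pow, one_mul]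
  rw [he]
  calc ((n * y ^ j * n⁻¹ : N) : X) = (n : X) * yE D ^ j * (n : X)⁻¹ := by
        simp [hy_def]
    _ = (n : X) * (gE D ^ i * yE D * (gE D ^ i)⁻¹) * (n : X)⁻¹ := by rw [hD.gpow_conj, hpow]
    _ = _ := by group

theorem OK.conjN_surjective : Function.Surjective conjN := by
  intro α
  have hfinX : Finite X := M.fin
  have hf := hD.word_facts
  obtain ⟨-, hy29, -, hgy, -, hc3, hch, hc1, hyN, hcN, -⟩ := hf
  set y : N := ⟨yE D, hyN⟩ with hy_def
  set h : N := ⟨hE D, hD.hE_mem⟩ with hh_def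
  set c : N := ⟨cE D, hcN⟩ with hc_def
  obtain ⟨w, hw⟩ := hD.sylow_step α
  set β := (conjN w)⁻¹ * α with hβ
  have hβy : β y = y := by
    rw [hβ, MulAut.mul_apply]
    show (conjN w).symm (α y) = y
    rw [MulEquiv.symm_apply_eq]
    apply Subtype.ext
    rw [conjN_apply]
    exact hw
  have hconj : hE D * yE D * (hE D)⁻¹ = yE D ^ 4 := by
    rw [hE_eq, ← pow_two]
    exact hD.gpow_conj 2
  set h' : X := ((β h : N) : X) with hh'
  have hy' : h' * yE D * h'⁻¹ = yE D ^ 4 := by
    have h1 : h * y * h⁻¹ = y ^ 4 := Subtype.ext hconj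
    have h2 := congrArg (fun z : N => ((β z : N) : X)) h1
    simp only [map_mul, map_inv, map_pow, hβy] at h2
    simpa [hy_def] using h2
  -- the centraliser of `y`
  let A : Subgroup X := Subgroup.centralizer {yE D}
  have memA : ∀ x : X, x ∈ A ↔ x * yE D = yE D * x := fun x =>
    Subgroup.mem_centralizer_singleton_iff
  have hA4 : ∀ x : X, x ∈ A → hE D * x * (hE D)⁻¹ ∈ A := by
    intro x hx
    rw [memA] at hx ⊢
    apply hD.comm_of_sq
    rw [← hconj]
    calc hE D * x * (hE D)⁻¹ * (hE D * yE D * (hE D)⁻¹) = hE D * (x * yE D) * (hE D)⁻¹ := by group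
      _ = hE D * (yE D * x) * (hE D)⁻¹ := by rw [hx]
      _ = hE D * yE D * (hE D)⁻¹ * (hE D * x * (hE D)⁻¹) := by group
  let f : A → A := fun a => ⟨(a : X) * hE D * (a : X)⁻¹ * (hE D)⁻¹, by
    have := A.mul_mem a.2 (hA4 _ (A.inv_mem a.2))
    simpa [mul_assoc] using this⟩
  have hfinj : Function.Injective f := by
    intro a b hab
    have h1 := congrArg Subtype.val hab
    simp only [f] at h1
    have h2 : ((b : X)⁻¹ * a) * hE D = hE D * ((b : X)⁻¹ * a) := by
      calc ((b : X)⁻¹ * a) * hE D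
          = (b : X)⁻¹ * ((a : X) * hE D * (a : X)⁻¹ * (hE D)⁻¹) * hE D * a := by group
        _ = (b : X)⁻¹ * ((b : X) * hE D * (b : X)⁻¹ * (hE D)⁻¹) * hE D * a := by rw [h1]
        _ = hE D * ((b : X)⁻¹ * a) := by group
    have h3 : (b : X)⁻¹ * a = 1 :=
      hD.cent ((memA _).mp (A.mul_mem (A.inv_mem b.2) a.2)) (hD.comm_u h2)
    exact Subtype.ext (inv_mul_eq_one.mp h3).symm
  obtain ⟨a, ha⟩ := (Finite.injective_iff_surjective.mp hfinj) ⟨h' * (hE D)⁻¹, by
    have h1 : (hE D)⁻¹ * h' ∈ A := by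
      rw [memA]
      calc (hE D)⁻¹ * h' * yE D = (hE D)⁻¹ * (h' * yE D * h'⁻¹) * h' := by group
        _ = (hE D)⁻¹ * (hE D * yE D * (hE D)⁻¹) * h' := by rw [hy', hconj]
        _ = yE D * ((hE D)⁻¹ * h') := by group
    have := hA4 _ h1
    simpa [mul_assoc] using this⟩
  have ha' : (a : X) * hE D * (a : X)⁻¹ = h' := by
    have := congrArg Subtype.val ha
    simpa [f] using this
  set γ := (conjN (a : X))⁻¹ * β with hγ
  have hγy : γ y = y := by
    rw [hγ, MulAut.mul_apply, hβy]
    show (conjN (a : X)).symm y = y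
    rw [MulEquiv.symm_apply_eq]
    apply Subtype.ext
    rw [conjN_apply]
    exact (mul_inv_eq_iff_eq_mul.mpr ((memA _).mp a.2)).symm
  have hγh : γ h = h := by
    rw [hγ, MulAut.mul_apply]
    show (conjN (a : X)).symm (β h) = h
    rw [MulEquiv.symm_apply_eq]
    apply Subtype.ext
    rw [conjN_apply]
    exact ha'.symm
  have hc' : c * h = h * c := Subtype.ext hch
  have hcpow : c ^ 3 = 1 := Subtype.ext hc3
  have hγc : γ c = c := by
    have h1 : ((γ c : N) : X) * hE D = hE D * ((γ c : N) : X) := by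
      have := congrArg (fun z : N => ((γ z : N) : X)) hc'
      simp only [map_mul, hγh, Subgroup.coe_mul] at this
      exact this
    have h3 : ((γ c : N) : X) ^ 3 = 1 := by
      have := congrArg (fun z : N => ((γ z : N) : X)) hcpow
      simpa [map_pow] using this
    rcases hD.classify h1 h3 with h | h | h
    · exfalso
      apply hc1
      have : γ c = 1 := Subtype.ext h
      exact congrArg Subtype.val (γ.map_eq_one_iff.mp this)
    · exact Subtype.ext h
    · exfalso
      obtain ⟨s1, s2⟩ := hD.sep_word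
      apply s2
      have hs : (c * c * y ^ 7 * c * y) ^ 8 = 1 := Subtype.ext s1
      have := congrArg (fun z : N => ((γ z : N) : X)) hs
      simp only [map_mul, map_pow, map_one, hγy, Subgroup.coe_mul, SubgroupClass.coe_pow, h,
        Subgroup.coe_one] at this
      exact this
  have hγ1 : γ = 1 := by
    apply MulEquiv.ext
    intro n
    rw [MulAut.one_apply]
    apply Subtype.ext
    let F : N →* X := (N.subtype).comp γ.toMonoidHom
    have hn : (n : X) ∈ Subgroup.closure {yE D, cE D} := hD.generate n.2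
    have key : ∀ x : X, x ∈ Subgroup.closure {yE D, cE D} → ∀ hx : x ∈ N, F ⟨x, hx⟩ = x := by
      intro x hx
      have hle : Subgroup.closure {yE D, cE D} ≤ N := by
        rw [Subgroup.closure_le]; rintro g (rfl | rfl); exacts [hyN, hcN]
      induction hx using Subgroup.closure_induction with
      | mem g hg =>
        intro hgN
        rcases hg with rfl | rfl
        · exact congrArg Subtype.val hγy
        · exact congrArg Subtype.val hγc
      | one => intro _; exact map_one F
      | mul u v hu hv ihu ihv =>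
        intro huv
        rw [show (⟨u * v, huv⟩ : N) = ⟨u, hle hu⟩ * ⟨v, hle hv⟩ from rfl, map_mul, ihu, ihv]
      | inv u hu ihu =>
        intro hu'
        rw [show (⟨u⁻¹, hu'⟩ : N) = ⟨u, hle hu⟩⁻¹ from rfl, map_inv, ihu]
    exact key _ hn n.2
  refine ⟨w * a, ?_⟩
  have e1 : β = conjN (a : X) := by
    rw [hγ, inv_mul_eq_one] at hγ1
    exact hγ1.symm
  rw [map_mul, ← e1, hβ, mul_inv_cancel_left]

theorem OK.out_card : Nat.card (Out N) = 2 := by
  let Φ : X →* Out N := (QuotientGroup.mk' (Inn N)).comp conjN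
  have hsurj : Function.Surjective Φ :=
    (QuotientGroup.mk'_surjective _).comp hD.conjN_surjective
  have hker : Φ.ker = N := by
    ext g
    rw [MonoidHom.mem_ker, MonoidHom.comp_apply, QuotientGroup.mk'_apply, QuotientGroup.eq_one_iff]
    constructor
    · rintro ⟨n, hn⟩
      have h1 : (n : X)⁻¹ * g = 1 := by
        refine hD.cent_N fun m => ?_
        have := congrArg (fun z : MulAut N => ((z m : N) : X)) hn
        simp only [conjN_apply, MulAut.conj_apply, Subgroup.coe_mul, InvMemClass.coe_inv] at this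
        calc (n : X)⁻¹ * g * m = (n : X)⁻¹ * (g * m * g⁻¹) * g := by group
          _ = (n : X)⁻¹ * ((n : X) * m * (n : X)⁻¹) * g := by rw [this]
          _ = m * ((n : X)⁻¹ * g) := by group
      rw [← inv_mul_eq_one.mp h1]
      exact n.2
    · intro hg
      refine ⟨⟨g, hg⟩, MulEquiv.ext fun m => Subtype.ext ?_⟩
      rw [conjN_apply, MulAut.conj_apply]
      rfl
  rw [← Nat.card_congr (QuotientGroup.quotientKerEquivOfSurjective Φ hsurj).toEquiv, hker,
    ← Subgroup.index_eq_card, N_index]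

end Cfsg.Agent.H87.Fi24Out
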