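import Cfsg.Agent.H87.Fi24Out.TableFun

/-!
Scanning blocks of points.
-/

set_option autoImplicit false
set_option Elab.async false
set_option maxRecDepth 100000

namespace Cfsg.Agent.H87.Fi24Out

theorem scan4_ok : blockB (scanB tT data) 306936 14 65536 = true := by decide +kernel

theorem scan5_ok : blockB (scanB tT data) 306936 14 81920 = true := by decide +kernel

theorem scan6_ok : blockB (scanB tT data) 306936 14 98304 = true := by decide +kernel

theorem scan7_ok : blockB (scanB tT data) 306936 14 114688 = true := by decide +kernel

end Cfsg.Agent.H87.Fi24Out
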