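import Cfsg.Agent.H87.Fi24Out.TableFun

/-!
Scanning blocks of points.
-/

set_option autoImplicit false
set_option Elab.async false
set_option maxRecDepth 100000

namespace Cfsg.Agent.H87.Fi24Out

theorem scan8_ok : blockB (scanB tT data) 306936 14 131072 = true := by decide +kernel

theorem scan9_ok : blockB (scanB tT data) 306936 14 147456 = true := by decide +kernel

theorem scan10_ok : blockB (scanB tT data) 306936 14 163840 = true := by decide +kernel

theorem scan11_ok : blockB (scanB tT data) 306936 14 180224 = true := by decide +kernel

end Cfsg.Agent.H87.Fi24Out
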