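import Cfsg.Agent.H87.Fi24Out.Scan0
import Cfsg.Agent.H87.Fi24Out.Scan1
import Cfsg.Agent.H87.Fi24Out.Scan2
import Cfsg.Agent.H87.Fi24Out.Scan3
import Cfsg.Agent.H87.Fi24Out.Scan4

/-!
All points are scanned.
-/

set_option autoImplicit false

namespace Cfsg.Agent.H87.Fi24Out

theorem scan_all (z : ℕ) (hz : z < 306936) : scanB tT data z = true := by
  rcases Nat.lt_or_ge z 16384 with h | h
  · exact blockB_sound _ _ _ _ scan0_ok z (by omega) (by omega) hz
  rcases Nat.lt_or_ge z 32768 with h | h
  · exact blockB_sound _ _ _ _ scan1_ok z (by omega) (by omega) hz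
  rcases Nat.lt_or_ge z 49152 with h | h
  · exact blockB_sound _ _ _ _ scan2_ok z (by omega) (by omega) hz
  rcases Nat.lt_or_ge z 65536 with h | h
  · exact blockB_sound _ _ _ _ scan3_ok z (by omega) (by omega) hz
  rcases Nat.lt_or_ge z 81920 with h | h
  · exact blockB_sound _ _ _ _ scan4_ok z (by omega) (by omega) hz
  rcases Nat.lt_or_ge z 98304 with h | h
  · exact blockB_sound _ _ _ _ scan5_ok z (by omega) (by omega) hz
  rcases Nat.lt_or_ge z 114688 with h | h
  · exact blockB_sound _ _ _ _ scan6_ok z (by omega) (by omega) hz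
  rcases Nat.lt_or_ge z 131072 with h | h
  · exact blockB_sound _ _ _ _ scan7_ok z (by omega) (by omega) hz
  rcases Nat.lt_or_ge z 147456 with h | h
  · exact blockB_sound _ _ _ _ scan8_ok z (by omega) (by omega) hz
  rcases Nat.lt_or_ge z 163840 with h | h
  · exact blockB_sound _ _ _ _ scan9_ok z (by omega) (by omega) hz
  rcases Nat.lt_or_ge z 180224 with h | h
  · exact blockB_sound _ _ _ _ scan10_ok z (by omega) (by omega) hz
  rcases Nat.lt_or_ge z 196608 with h | h
  · exact blockB_sound _ _ _ _ scan11_ok z (by omega) (by omega) hz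
  rcases Nat.lt_or_ge z 212992 with h | h
  · exact blockB_sound _ _ _ _ scan12_ok z (by omega) (by omega) hz
  rcases Nat.lt_or_ge z 229376 with h | h
  · exact blockB_sound _ _ _ _ scan13_ok z (by omega) (by omega) hz
  rcases Nat.lt_or_ge z 245760 with h | h
  · exact blockB_sound _ _ _ _ scan14_ok z (by omega) (by omega) hz
  rcases Nat.lt_or_ge z 262144 with h | h
  · exact blockB_sound _ _ _ _ scan15_ok z (by omega) (by omega) hz
  rcases Nat.lt_or_ge z 278528 with h | h
  · exact blockB_sound _ _ _ _ scan16_ok z (by omega) (by omega) hz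
  rcases Nat.lt_or_ge z 294912 with h | h
  · exact blockB_sound _ _ _ _ scan17_ok z (by omega) (by omega) hz
  rcases Nat.lt_or_ge z 311296 with h | h
  · exact blockB_sound _ _ _ _ scan18_ok z (by omega) (by omega) hz
  omega

end Cfsg.Agent.H87.Fi24Out
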