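import Cfsg.Agent.H87.Fi24Out.TableFun

/-!
The tests on the data succeed on the table.
-/

set_option autoImplicit false
set_option Elab.async false
set_option maxRecDepth 100000

namespace Cfsg.Agent.H87.Fi24Out

theorem words_ok : wordsB tT data = true := by decide +kernel

theorem sep_ok : sepB tT data = true := by decide +kernel

theorem points_ok : pointsB tT data = true := by decide +kernel

theorem perm_ok : hB tT data = true := by decide +kernel

theorem fPath_ok : fPathB tT data = true := by decide +kernel

theorem orbit_ok : orbitB tT data = true := by decide +kernel

theorem candA_ok : candA tT data = true := by decide +kernel

theorem candB_ok : candB tT data = true := by decide +kernel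

theorem pairs_ok : pairsB tT data = true := by decide +kernel

theorem sig_ok : sigOK tT data = true := by decide +kernel

theorem gen_ok : genB tT data = true := by decide +kernel

end Cfsg.Agent.H87.Fi24Out
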