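import Cfsg.Agent.H25.Fi24.Faithful
import Cfsg.Agent.H25.Fi24.Bridge
import Cfsg.Agent.H87.Fi24Out.Main
import Cfsg.Agent.H87.Fi24Out.Tests
import Cfsg.Agent.H87.Fi24Out.ScanAll

/-!
The model given by the table, and the outer automorphism group.
-/

set_option autoImplicit false

namespace Cfsg.Agent.H87.Fi24Out

open H25.Fi24 (act act_e act_transitive act_injective mem_H_iff centralizer_d₀)

theorem e_eq : ∀ l : ℕ, e l = H25.Fi24.pres.e l := fun _ => rfl

/-- the action on the table -/
noncomputable def model : Model where
  T := tT
  n := H25.Fi24.CC.n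
  npos := H25.Fi24.n_pos
  φ := act
  act := fun _ hl i => act_e hl i
  inj := act_injective
  trans := act_transitive
  stab := fun g => by
    refine (mem_H_iff g).symm.trans ?_
    rw [← centralizer_d₀]
    exact Subgroup.mem_centralizer_singleton_iff
  fin := H25.Fi24.finite_X
  card := H25.Fi24.card_X

theorem data_ok : OK model data where
  words := words_ok
  sep := sep_ok
  points := points_ok
  perm := perm_ok
  fPath := fPath_ok
  orbit := orbit_ok
  candA := candA_ok
  candB := candB_ok
  pairs := pairs_ok
  sig := sig_ok
  gen := gen_ok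
  scan := fun z hz => scan_all z hz

theorem out_card_eq_two : Nat.card (Out Spor.Fi24') = 2 := data_ok.out_card

end Cfsg.Agent.H87.Fi24Out
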