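import Cfsg.Agent.H87.Fi24Out.Checks

/-!
What the tests mean.
-/

set_option autoImplicit false

namespace Cfsg.Agent.H87.Fi24Out

open Cfsg.Agent.H45 (force force_eq)

/-- all tests succeed -/
structure OK (M : Model) (D : Data) : Prop where
  words : wordsB M.T D = true
  sep : sepB M.T D = true
  points : pointsB M.T D = true
  perm : hB M.T D = true
  fPath : fPathB M.T D = true
  orbit : orbitB M.T D = true
  candA : candA M.T D = true
  candB : candB M.T D = true
  pairs : pairsB M.T D = true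
  sig : sigOK M.T D = true
  gen : genB M.T D = true
  scan : ∀ z, z < M.n → scanB M.T D z = true

theorem blockB_sound (f : ℕ → Bool) (n : ℕ) : ∀ k b, blockB f n k b = true →
    ∀ z, b ≤ z → z < b + 2 ^ k → z < n → f z = true := by
  intro k
  induction k with
  | zero =>
    intro b h z h1 h2 h3
    obtain rfl : z = b := by simp at h2; omega
    simp only [blockB, force_eq, Bool.or_eq_true, Bool.not_eq_true'] at h
    rcases h with h | h
    · have hlt : Nat.blt z n = true := by simpa [Nat.blt_eq] using h3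
      rw [hlt] at h; cases h
    · exact h
  | succ k ih =>
    intro b h z h1 h2 h3
    simp only [blockB, force_eq, Bool.and_eq_true] at h
    by_cases hz : z < b + 2 ^ k
    · exact ih b h.1 z h1 hz h3
    · exact ih _ h.2 z (by omega) (by rw [pow_succ] at h2; omega) h3

theorem allI_sound {α : Type} {f : ℕ → α → Bool} : ∀ {L : List α} {s : ℕ}, allI f L s = true →
    ∀ i (hi : i < L.length), f (s + i) L[i] = true
  | [], _, _, i, hi => by simp at hi
  | a :: L, s, h, i, hi => by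
    simp only [allI, Bool.and_eq_true] at h
    cases i with
    | zero => simpa using h.1
    | succ i =>
      have := allI_sound h.2 i (by simpa using hi)
      simpa [Nat.add_comm, Nat.add_left_comm] using this

theorem iffB_eq {a b : Bool} (h : iffB a b = true) : a = b := by
  cases a <;> cases b <;> simp_all [iffB]

theorem Lt_of_ltB {w : List ℕ} (h : ltB w = true) : Lt w := by
  intro l hl
  simpa [Nat.blt_eq] using List.all_eq_true.mp h l hl

theorem Lt_uw : Lt uw := by simp [Lt, uw]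

theorem ptK_eq (T : ℕ → ℕ → ℕ) (g : ℕ → ℕ × List ℕ) (start : ℕ) (steps : List ℕ)
    (k : ℕ → Bool) : ptK T g start steps k = k (ptP T g start steps) := by
  simp only [ptK, ptP, force_eq]
  generalize (g start).1 = z
  induction steps generalizing z with
  | nil => rfl
  | cons i steps ih =>
    rw [List.foldl_cons, ← ih]
    show dK T (g i) z _ = _
    rw [dK, wk_eq]
    rfl

variable {M : Model}

theorem named_of {a : ℕ × List ℕ} (h : namedB M.T a = true) : M.Named a := by
  simp only [namedB, Bool.and_eq_true, wk_eq, Nat.beq_eq] at h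
  exact ⟨Lt_of_ltB h.1, h.2⟩

theorem Model.Named.lt {a : ℕ × List ℕ} (h : M.Named a) : a.1 < M.n := by
  obtain ⟨p, hp, -⟩ := h.reach M
  exact hp ▸ p.isLt

variable {D : Data} (hD : OK M D)
include hD

theorem OK.lts : Lt D.yw ∧ Lt D.gw ∧ Lt D.cw := by
  have h := hD.words
  simp only [wordsB, Bool.and_eq_true] at h
  exact ⟨Lt_of_ltB h.1.1.1.1.1.1.1.1.1.1.1.1.1, Lt_of_ltB h.1.1.1.1.1.1.1.1.1.1.1.1.2,
    Lt_of_ltB h.1.1.1.1.1.1.1.1.1.1.1.2⟩

theorem OK.pts : D.H.length = D.P.length ∧ D.fPath.length = D.P.length ∧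
    (∀ a ∈ D.P, M.Named a ∧ wV M.T uw a.1 = a.1) ∧ (∀ j ∈ D.H, j < D.P.length) ∧
    D.pi < D.P.length ∧ D.a0 < D.P.length ∧ D.b0 < D.P.length := by
  have h := hD.points
  simp only [pointsB, Bool.and_eq_true, Nat.beq_eq, Nat.blt_eq, List.all_eq_true, wk_eq] at h
  obtain ⟨⟨⟨⟨⟨⟨h1, h2⟩, h3⟩, h4⟩, h5⟩, h6⟩, h7⟩ := h
  exact ⟨h1, h2, fun a ha => ⟨named_of (h3 a ha).1, (h3 a ha).2⟩, h4, h5, h6, h7⟩

theorem OK.named (i : ℕ) : M.Named (Pget D i) := by
  unfold Pget
  by_cases hi : i < D.P.length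
  · rw [List.getD_eq_getElem _ _ hi]
    exact (hD.pts.2.2.1 _ (List.getElem_mem hi)).1
  · rw [List.getD_eq_default _ _ (by omega)]
    exact M.named_default

theorem OK.gen_named (a b i : ℕ) : M.Named (Fi24Out.gen D a b i) := hD.named _

theorem OK.genY_named (i : ℕ) : M.Named (genY D i) := by
  unfold genY
  by_cases hi : i < D.Y.length
  · rw [List.getD_eq_getElem _ _ hi]
    have h := hD.orbit
    simp only [orbitB, Bool.and_eq_true, List.all_eq_true] at h
    exact named_of (h.1.1.1.1.2 _ (List.getElem_mem hi))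
  · rw [List.getD_eq_default _ _ (by omega)]
    exact M.named_default

omit hD in
/-- a listed point -/
noncomputable def OK.pt (hD : OK M D) (i : ℕ) : Fin M.n := ⟨(Pget D i).1, (hD.named i).lt⟩

theorem OK.pt_fix (i : ℕ) (hi : i < D.P.length) : M.φ (op uw) (hD.pt i) = hD.pt i := by
  apply Fin.ext
  rw [M.op_walk Lt_uw]
  show wV M.T uw (Pget D i).1 = (Pget D i).1
  rw [Pget, List.getD_eq_getElem _ _ hi]
  exact (hD.pts.2.2.1 _ (List.getElem_mem hi)).2

theorem OK.hp_lt : ∀ (k : ℕ) {i : ℕ}, i < D.P.length → hp D k i < D.P.length := by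
  intro k
  induction k with
  | zero => intro i hi; exact hi
  | succ k ih =>
    intro i hi
    refine ih ?_
    have hi' : i < D.H.length := by rw [hD.pts.1]; exact hi
    rw [List.getD_eq_getElem _ _ hi']
    exact hD.pts.2.2.2.1 _ (List.getElem_mem hi')

/-- the element of order 14 -/
theorem OK.h_pt {i : ℕ} (hi : i < D.P.length) :
    M.φ (op (D.gw ++ D.gw)) (hD.pt i) = hD.pt (D.H.getD i 0) := by
  have hi' : i < D.H.length := by rw [hD.pts.1]; exact hi
  have h := allI_sound hD.perm i hi'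
  simp only [Nat.zero_add, wk_eq, Nat.beq_eq] at h
  apply Fin.ext
  rw [M.op_walk (hD.lts.2.1.append hD.lts.2.1)]
  show wV M.T _ (Pget D i).1 = (Pget D (D.H.getD i 0)).1
  rw [List.getD_eq_getElem _ _ hi']
  exact h

/-- an element commuting with `h` and mapping one listed point maps its orbit -/
theorem OK.hp_map {x : X} (hx : x * op (D.gw ++ D.gw) = op (D.gw ++ D.gw) * x) :
    ∀ (k : ℕ) {i i' : ℕ}, i < D.P.length → i' < D.P.length → M.φ x (hD.pt i) = hD.pt i' →
      M.φ x (hD.pt (hp D k i)) = hD.pt (hp D k i') := by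
  intro k
  induction k with
  | zero => intro i i' _ _ h; exact h
  | succ k ih =>
    intro i i' hi hi' h
    refine ih (hD.hp_lt 1 hi) (hD.hp_lt 1 hi') ?_
    rw [← hD.h_pt hi, ← Equiv.Perm.mul_apply, ← map_mul, hx, map_mul, Equiv.Perm.mul_apply, h,
      hD.h_pt hi']

theorem OK.gen_map {x : X} (hx : x * op (D.gw ++ D.gw) = op (D.gw ++ D.gw) * x)
    {a b a' b' : ℕ} (ha : a < D.P.length) (hb : b < D.P.length) (ha' : a' < D.P.length)
    (hb' : b' < D.P.length) (h1 : M.φ x (hD.pt a) = hD.pt a') (h2 : M.φ x (hD.pt b) = hD.pt b')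
    (i : ℕ) (p : Fin M.n) (hp' : (p : ℕ) = (Fi24Out.gen D a b i).1) :
    ((M.φ x p : Fin M.n) : ℕ) = (Fi24Out.gen D a' b' i).1 := by
  unfold Fi24Out.gen at hp' ⊢
  cases hc : Nat.blt (i % 14) 7 <;> simp only [hc, cond_true, cond_false] at hp' ⊢
  · obtain rfl : p = hD.pt (hp D (i % 7) b) := Fin.ext hp'
    rw [hD.hp_map hx _ hb hb' h2]
    rfl
  · obtain rfl : p = hD.pt (hp D (i % 7) a) := Fin.ext hp'
    rw [hD.hp_map hx _ ha ha' h1]
    rfl

/-- the image of a listed point, from the images of the two base points -/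
theorem OK.image {x : X} (hx : x * op (D.gw ++ D.gw) = op (D.gw ++ D.gw) * x)
    {a' b' : ℕ} (ha' : a' < D.P.length) (hb' : b' < D.P.length)
    (h1 : M.φ x (hD.pt D.a0) = hD.pt a') (h2 : M.φ x (hD.pt D.b0) = hD.pt b')
    {i : ℕ} (hi : i < D.P.length) :
    ((M.φ x (hD.pt i) : Fin M.n) : ℕ) =
      ptP M.T (Fi24Out.gen D a' b') (D.fPath.getD i (0, [])).1 (D.fPath.getD i (0, [])).2 := by
  have hi' : i < D.fPath.length := by rw [hD.pts.2.1]; exact hi
  have h := allI_sound hD.fPath i hi'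
  simp only [Nat.zero_add, ptK_eq, Nat.beq_eq] at h
  rw [List.getD_eq_getElem _ _ hi']
  exact M.ptP_map x (hD.gen_named _ _) (hD.gen_named _ _)
    (hD.gen_map hx hD.pts.2.2.2.2.2.1 hD.pts.2.2.2.2.2.2 ha' hb' h1 h2) _ _ h.symm

/-- every fixed point is listed -/
theorem OK.mem_list {z : Fin M.n} (hz : M.φ (op uw) z = z) : ∃ i, i < D.P.length ∧ z = hD.pt i := by
  have h := hD.scan z z.isLt
  simp only [scanB, Bool.and_eq_true, wk_eq, Bool.or_eq_true, List.any_eq_true, Nat.beq_eq,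
    Bool.not_eq_true'] at h
  rcases h.1 with h1 | ⟨a, ha, he⟩
  · exfalso
    rw [← M.op_walk Lt_uw, hz] at h1
    have : Nat.beq (z : ℕ) z = true := Nat.beq_refl _
    rw [this] at h1; cases h1
  · obtain ⟨i, hi, rfl⟩ := List.getElem_of_mem ha
    refine ⟨i, hi, Fin.ext ?_⟩
    show (z : ℕ) = (Pget D i).1
    rw [Pget, List.getD_eq_getElem _ _ hi]
    exact he.symm

omit hD in
theorem patY_map {x : X} {yw : List ℕ} (hy : Lt yw) (hx : x * op yw = op yw * x)
    {a a' : ℕ × List ℕ} (ha : M.Named a) (ha' : M.Named a') {p : Fin M.n} (hp : (p : ℕ) = a.1)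
    (hxp : ((M.φ x p : Fin M.n) : ℕ) = a'.1) : ∀ (bs : List Bool) (q : Fin M.n),
      patY M.T yw a' bs ((M.φ x q : Fin M.n) : ℕ) = patY M.T yw a bs q := by
  intro bs
  induction bs with
  | nil => intro q; rfl
  | cons b bs ih =>
    intro q
    simp only [patY, dK, wk_eq]
    have h1 : wV M.T yw ((M.φ x q : Fin M.n) : ℕ) = ((M.φ x (M.φ (op yw) q) : Fin M.n) : ℕ) := by
      rw [← M.op_walk hy, ← Equiv.Perm.mul_apply, ← map_mul, ← hx, map_mul, Equiv.Perm.mul_apply]
    have h0 : wV M.T yw (q : ℕ) = ((M.φ (op yw) q : Fin M.n) : ℕ) := (M.op_walk hy q).symm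
    rw [h1, h0, ih]
    congr 2
    change Nat.beq (dV M.T a' _) _ = Nat.beq (dV M.T a _) _
    rw [ha'.dV_eq M hxp, ← M.transport, ha.dV_eq M hp]
    rw [Bool.eq_iff_iff, Nat.beq_eq, Nat.beq_eq, ← Fin.ext_iff, ← Fin.ext_iff]
    exact (M.φ x).injective.eq_iff

theorem OK.patH_map {x : X} (hx : x * op (D.gw ++ D.gw) = op (D.gw ++ D.gw) * x)
    {a a' : ℕ} (hxa : M.φ x (hD.pt a) = hD.pt a') : ∀ (bs : List Bool) (j j' : ℕ),
      j < D.P.length → j' < D.P.length → M.φ x (hD.pt j) = hD.pt j' →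
      patH M.T D (Pget D a') bs j' = patH M.T D (Pget D a) bs j := by
  intro bs
  induction bs with
  | nil => intros; rfl
  | cons b bs ih =>
    intro j j' hj hj' hxj
    simp only [patH, dK, wk_eq, force_eq]
    rw [ih (D.H.getD j 0) (D.H.getD j' 0) (hD.hp_lt 1 hj) (hD.hp_lt 1 hj')
      (hD.hp_map hx 1 hj hj' hxj)]
    congr 2
    change Nat.beq (dV M.T (Pget D a') ((hD.pt j' : Fin M.n) : ℕ)) ((hD.pt j' : Fin M.n) : ℕ) =
      Nat.beq (dV M.T (Pget D a) ((hD.pt j : Fin M.n) : ℕ)) ((hD.pt j : Fin M.n) : ℕ)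
    rw [(hD.named a').dV_eq M (p := hD.pt a') rfl, (hD.named a).dV_eq M (p := hD.pt a) rfl,
      ← hxa, ← hxj, ← M.transport]
    rw [Bool.eq_iff_iff, Nat.beq_eq, Nat.beq_eq, ← Fin.ext_iff, ← Fin.ext_iff]
    exact (M.φ x).injective.eq_iff

end Cfsg.Agent.H87.Fi24Out
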