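import Cfsg.Agent.H87.Fi24Out.Sound
import Cfsg.Agent.H87.Fi24Out.Data
import Cfsg.Agent.H25.Fi24.T306936

/-!
The step function of the table of 306936 points.
-/

set_option autoImplicit false

namespace Cfsg.Agent.H87.Fi24Out

/-- the image of a point under a letter -/
noncomputable abbrev tT : ℕ → ℕ → ℕ := fun i l => H25.Fi24.tgt H25.Fi24.T306936.cert.t i l

end Cfsg.Agent.H87.Fi24Out
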